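import Mathlib
import Cfsg.Agent.Chars.ExtCriteria
import Cfsg.Agent.Chars.Gallagher

/-!
# The commutator pairing of an invariant irreducible representation

`M` is a subgroup of `G`, `ρ` an irreducible representation of `M` and `x`, `y` are elements of
`G` stabilising `ρ` up to equivalence whose commutator lies in `M`.  The chosen intertwiners of
`x` and `y` commute up to the action of that commutator and a scalar, the pairing of `x` and `y`.
-/

set_option autoImplicit false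
set_option linter.unusedSectionVars false

namespace Cfsg.Lib.RelMcKay

open Cfsg Cfsg.Lib.Chars Module Subgroup
open scoped ComplexConjugate

universe u v

variable {G : Type u} [Group G] (M : Subgroup G) {V : Type v} [AddCommGroup V] [Module ℂ V]
  (ρ : Representation ℂ M V)

/-- `A` intertwines `ρ` with its conjugate by `g`. -/
def Tw (g : G) (A : Module.End ℂ V) : Prop :=
  ∀ n n' : M, (n' : G) = g * n * g⁻¹ → A * ρ n = ρ n' * A

variable {M ρ}

lemma conj_mem_of_normalizes {g : G} (hg : g ∈ normalizer (M : Set G)) (n : M) :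
    g * (n : G) * g⁻¹ ∈ M := (mem_normalizer_iff.1 hg _).1 n.2

lemma Tw.mul {a b : G} {A B : Module.End ℂ V} (hA : Tw M ρ a A) (hB : Tw M ρ b B)
    (hb : b ∈ normalizer (M : Set G)) : Tw M ρ (a * b) (A * B) := by
  intro n n' h
  let n₁ : M := ⟨b * n * b⁻¹, conj_mem_of_normalizes hb n⟩
  rw [mul_assoc, hB n n₁ rfl, ← mul_assoc, hA n₁ n' (by rw [h]; simp [n₁, mul_assoc]), mul_assoc]

lemma tw_one : Tw M ρ 1 1 := by
  intro n n' h
  rw [show n' = n from Subtype.ext (by simpa using h), one_mul, mul_one]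

lemma tw_self (m : M) : Tw M ρ (m : G) (ρ m) := by
  intro n n' h
  rw [← map_mul, ← map_mul]
  congr 1
  apply Subtype.ext
  simp [h]

lemma Tw.inv {a : G} {A : (Module.End ℂ V)ˣ} (hA : Tw M ρ a (A : Module.End ℂ V)) :
    Tw M ρ a⁻¹ (↑A⁻¹ : Module.End ℂ V) := by
  intro n n' h
  rw [Units.inv_mul_eq_iff_eq_mul, ← mul_assoc, hA n' n (by rw [h]; group), mul_assoc,
    Units.mul_inv, mul_one]

lemma Tw.smul {a : G} {A : Module.End ℂ V} (hA : Tw M ρ a A) (c : ℂ) : Tw M ρ a (c • A) := by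
  intro n n' h
  rw [smul_mul_assoc, hA n n' h, mul_smul_comm]

variable [FiniteDimensional ℂ V] [ρ.IsIrreducible]

/-- Two intertwiners over the same element differ by a scalar. -/
lemma Tw.unique {a : G} (ha : a ∈ normalizer (M : Set G)) {A B : (Module.End ℂ V)ˣ}
    (hA : Tw M ρ a (A : Module.End ℂ V)) (hB : Tw M ρ a (B : Module.End ℂ V)) :
    ∃ c : ℂ, c ≠ 0 ∧ (B : Module.End ℂ V) = c • (A : Module.End ℂ V) := by
  obtain ⟨c, hc⟩ := schur_scalar ρ ((↑A⁻¹ : Module.End ℂ V) * (B : Module.End ℂ V)) fun n v => by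
    have h1 : Tw M ρ (a⁻¹ * a) ((↑A⁻¹ : Module.End ℂ V) * (B : Module.End ℂ V)) := hA.inv.mul hB ha
    have h2 := h1 n n (by simp)
    exact LinearMap.congr_fun h2 v
  have hAB : (B : Module.End ℂ V) = c • (A : Module.End ℂ V) := by
    have := congrArg ((A : Module.End ℂ V) * ·) hc
    rw [← mul_assoc, Units.mul_inv, one_mul] at this
    rw [this, mul_smul_comm]
    congr 1
  refine ⟨c, fun h0 => ?_, hAB⟩
  rw [h0, zero_smul] at hAB
  have := nontrivial_of_irreducible ρ
  exact B.ne_zero hAB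

variable (M ρ) in
/-- The elements stabilising `ρ` up to equivalence. -/
def stab : Subgroup G where
  carrier := {g | g ∈ normalizer (M : Set G) ∧ ∃ A : (Module.End ℂ V)ˣ, Tw M ρ g (A : Module.End ℂ V)}
  one_mem' := ⟨one_mem _, 1, tw_one⟩
  mul_mem' := fun ⟨ha, A, hA⟩ ⟨hb, B, hB⟩ => ⟨mul_mem ha hb, A * B, hA.mul hB hb⟩
  inv_mem' := fun ⟨ha, A, hA⟩ => ⟨inv_mem ha, A⁻¹, hA.inv⟩

lemma stab_le_normalizer : stab M ρ ≤ normalizer (M : Set G) := fun _ h => h.1

lemma le_stab : M ≤ stab M ρ := fun m hm =>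
  ⟨le_normalizer hm, MonoidHom.toHomUnits ρ ⟨m, hm⟩, tw_self ⟨m, hm⟩⟩

/-- An element leaving the character fixed stabilises the representation. -/
lemma mem_stab_of_character [Finite G] {g : G} (hg : g ∈ normalizer (M : Set G))
    (h : ∀ n n' : M, (n' : G) = g * n * g⁻¹ → ρ.character n' = ρ.character n) : g ∈ stab M ρ := by
  let e : M ≃* M :=
    { toFun := fun n => ⟨g * n * g⁻¹, conj_mem_of_normalizes hg n⟩
      invFun := fun n => ⟨g⁻¹ * n * g⁻¹⁻¹, conj_mem_of_normalizes (inv_mem hg) n⟩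
      left_inv := fun n => Subtype.ext (by simp [mul_assoc])
      right_inv := fun n => Subtype.ext (by simp [mul_assoc])
      map_mul' := fun a b => Subtype.ext (by simp [mul_assoc]) }
  let σ : Representation ℂ M V := ρ.comp e.toMonoidHom
  have hσc : ρ.character = σ.character := funext fun n => (h n (e n) rfl).symm
  obtain ⟨φ⟩ := nonempty_equiv_of_character_eq V V ρ σ hσc
  refine ⟨hg, (LinearMap.GeneralLinearGroup.generalLinearEquiv ℂ V).symm φ.toLinearEquiv,
    fun n n' hn => LinearMap.ext fun v => ?_⟩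
  refine (Representation.IntertwiningMap.isIntertwining _ _ φ.toIntertwiningMap n v).trans ?_
  show ρ (e n) _ = ρ _ _
  rw [show n' = e n from Subtype.ext hn]
  rfl

/-- A stabilising element leaves the character fixed. -/
lemma character_eq_of_mem_stab {g : G} (hg : g ∈ stab M ρ) {n n' : M}
    (h : (n' : G) = g * n * g⁻¹) : ρ.character n' = ρ.character n := by
  obtain ⟨-, A, hA⟩ := hg
  show LinearMap.trace ℂ V (ρ n') = LinearMap.trace ℂ V (ρ n)
  rw [show ρ n' = (A : Module.End ℂ V) * (ρ n * (↑A⁻¹ : Module.End ℂ V)) by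
      rw [← mul_assoc, hA n n' h, mul_assoc, Units.mul_inv, mul_one],
    LinearMap.trace_mul_comm, mul_assoc, Units.inv_mul, mul_one]

variable (M ρ) in
/-- The commutator `x⁻¹ * (y * x * y⁻¹)`. -/
def Comm (x y : G) : Prop := x⁻¹ * (y * x * y⁻¹) ∈ M

variable (M ρ) in
/-- `c` is the pairing of `x` and `y`. -/
def Pair (x y : G) (c : ℂ) : Prop :=
  ∃ (A B : (Module.End ℂ V)ˣ) (d : M), Tw M ρ x (A : Module.End ℂ V) ∧
    Tw M ρ y (B : Module.End ℂ V) ∧ (d : G) = x⁻¹ * (y * x * y⁻¹) ∧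
    (B : Module.End ℂ V) * A * (↑B⁻¹ : Module.End ℂ V) = c • ((A : Module.End ℂ V) * ρ d)

lemma smul_mul_inv_smul {c : ℂ} (hc : c ≠ 0) {B B' : (Module.End ℂ V)ˣ}
    (h : (B' : Module.End ℂ V) = c • (B : Module.End ℂ V)) :
    (↑B'⁻¹ : Module.End ℂ V) = c⁻¹ • (↑B⁻¹ : Module.End ℂ V) := by
  rw [← B'.inv_eq_of_mul_eq_one_right (a := c⁻¹ • (↑B⁻¹ : Module.End ℂ V))]
  rw [h, smul_mul_smul_comm, mul_inv_cancel₀ hc, Units.mul_inv, one_smul]

/-- The defining equation holds for any choice of intertwiners. -/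
lemma Pair.eqn {x y : G} {c : ℂ} (h : Pair M ρ x y c) (hx : x ∈ stab M ρ) (hy : y ∈ stab M ρ)
    {A B : (Module.End ℂ V)ˣ} (hA : Tw M ρ x (A : Module.End ℂ V))
    (hB : Tw M ρ y (B : Module.End ℂ V)) {d : M} (hd : (d : G) = x⁻¹ * (y * x * y⁻¹)) :
    (B : Module.End ℂ V) * A * (↑B⁻¹ : Module.End ℂ V) = c • ((A : Module.End ℂ V) * ρ d) := by
  obtain ⟨A₀, B₀, d₀, hA₀, hB₀, hd₀, he⟩ := h
  obtain ⟨a, ha, hAa⟩ := hA₀.unique hx.1 hA
  obtain ⟨b, hb, hBb⟩ := hB₀.unique hy.1 hB
  rw [show d = d₀ from Subtype.ext (hd.trans hd₀.symm), smul_mul_inv_smul hb hBb, hAa, hBb]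
  simp only [smul_mul_assoc, mul_smul_comm, smul_smul, he]
  congr 1
  field_simp

lemma exists_pair {x y : G} (hx : x ∈ stab M ρ) (hy : y ∈ stab M ρ) (hc : Comm M x y) :
    ∃ c : ℂ, c ≠ 0 ∧ Pair M ρ x y c := by
  obtain ⟨hxn, A, hA⟩ := hx
  obtain ⟨hyn, B, hB⟩ := hy
  let d : M := ⟨_, hc⟩
  have h1 : Tw M ρ (y * x * y⁻¹) ((B * A * B⁻¹ : (Module.End ℂ V)ˣ) : Module.End ℂ V) :=
    (hB.mul hA hxn).mul hB.inv (inv_mem hyn)
  have h2 : Tw M ρ (y * x * y⁻¹)
      ((A * MonoidHom.toHomUnits ρ d : (Module.End ℂ V)ˣ) : Module.End ℂ V) := by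
    have h3 := hA.mul (tw_self d) (le_normalizer d.2)
    rwa [show x * (d : G) = y * x * y⁻¹ from mul_inv_cancel_left x _] at h3
  obtain ⟨c, hc0, hc'⟩ := h2.unique (mul_mem (mul_mem hyn hxn) (inv_mem hyn)) h1
  exact ⟨c, hc0, A, B, d, hA, hB, rfl, hc'⟩

lemma Pair.unique {x y : G} {c c' : ℂ} (h : Pair M ρ x y c) (h' : Pair M ρ x y c')
    (hx : x ∈ stab M ρ) (hy : y ∈ stab M ρ) : c = c' := by
  obtain ⟨A, B, d, hA, hB, hd, he⟩ := h
  have he' := h'.eqn hx hy hA hB hd
  rw [he] at he'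
  have := nontrivial_of_irreducible ρ
  refine smul_left_injective ℂ ?_ he'
  exact (A * MonoidHom.toHomUnits ρ d).ne_zero

lemma Pair.ne_zero {x y : G} {c : ℂ} (h : Pair M ρ x y c) : c ≠ 0 := by
  obtain ⟨A, B, d, hA, hB, hd, he⟩ := h
  intro h0
  rw [h0, zero_smul] at he
  have := nontrivial_of_irreducible ρ
  exact (B * A * B⁻¹).ne_zero he

lemma pair_self {x : G} (hx : x ∈ stab M ρ) : Pair M ρ x x 1 := by
  obtain ⟨-, A, hA⟩ := hx
  refine ⟨A, A, 1, hA, hA, by simp, ?_⟩
  rw [one_smul, map_one, mul_one, mul_assoc, Units.mul_inv, mul_one]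

lemma pair_mem {x : G} (hx : x ∈ stab M ρ) (m : M) : Pair M ρ x (m : G) 1 := by
  obtain ⟨hxn, A, hA⟩ := hx
  let n : M := ⟨x⁻¹ * m * x⁻¹⁻¹, conj_mem_of_normalizes (inv_mem hxn) m⟩
  refine ⟨A, MonoidHom.toHomUnits ρ m, n * m⁻¹, hA, tw_self m, ?_, ?_⟩
  · simp [n, mul_assoc]
  · rw [one_smul, map_mul ρ, ← mul_assoc, hA n m (by simp [n, mul_assoc]), ← map_inv]
    rfl

/-- The pairing is multiplicative in the second variable. -/
lemma Pair.mul_right {x y y' : G} {c c' : ℂ} (h : Pair M ρ x y c) (h' : Pair M ρ x y' c')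
    (hx : x ∈ stab M ρ) (hy : y ∈ stab M ρ) (hy' : y' ∈ stab M ρ) :
    Pair M ρ x (y * y') (c * c') := by
  obtain ⟨A, B, d, hA, hB, hd, he⟩ := h
  obtain ⟨-, B', hB'⟩ := id hy'
  obtain ⟨-, -, d', -, -, hd', -⟩ := id h'
  have he' := h'.eqn hx hy' hA hB' hd'
  let e : M := ⟨y * (d' : G) * y⁻¹, conj_mem_of_normalizes hy.1 d'⟩
  refine ⟨A, B * B', d * e, hA, hB.mul hB' hy'.1, ?_, ?_⟩
  · simp [e, hd, hd', mul_assoc]
  · have h1 : (B : Module.End ℂ V) * ρ d' = ρ e * B := hB d' e rfl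
    calc ((B * B' : (Module.End ℂ V)ˣ) : Module.End ℂ V) * A * (↑(B * B')⁻¹ : Module.End ℂ V)
        = (B : Module.End ℂ V) * ((B' : Module.End ℂ V) * A * (↑B'⁻¹ : Module.End ℂ V)) *
            (↑B⁻¹ : Module.End ℂ V) := by
          simp only [mul_inv_rev, Units.val_mul, mul_assoc]
      _ = c' • ((B : Module.End ℂ V) * A * ((↑B⁻¹ : Module.End ℂ V) * B) * ρ d' *
            (↑B⁻¹ : Module.End ℂ V)) := by
          rw [he', Units.inv_mul, mul_one, mul_smul_comm, smul_mul_assoc]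
          simp only [mul_assoc]
      _ = c' • ((B : Module.End ℂ V) * A * (↑B⁻¹ : Module.End ℂ V) * ρ e) := by
          simp only [mul_assoc]
          congr 3
          rw [← mul_assoc (B : Module.End ℂ V) (ρ d'), h1, mul_assoc, Units.mul_inv, mul_one]
      _ = (c * c') • ((A : Module.End ℂ V) * ρ (d * e)) := by
          rw [he, smul_mul_assoc, smul_smul, mul_comm c' c, map_mul, mul_assoc]

/-- The pairing is alternating. -/
lemma Pair.symm {x y : G} {c : ℂ} (h : Pair M ρ x y c) (hx : x ∈ stab M ρ) (hy : y ∈ stab M ρ) :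
    Pair M ρ y x c⁻¹ := by
  have hc0 := h.ne_zero
  obtain ⟨A, B, d, hA, hB, hd, he⟩ := h
  let e : M := ⟨x * (d : G) * x⁻¹, conj_mem_of_normalizes hx.1 d⟩
  let f : M := ⟨y⁻¹ * (e : G)⁻¹ * y⁻¹⁻¹, conj_mem_of_normalizes (inv_mem hy.1) e⁻¹⟩
  refine ⟨B, A, f, hB, hA, ?_, ?_⟩
  · simp [f, e, hd, mul_assoc]
  · have h1 : (A : Module.End ℂ V) * ρ d = ρ e * A := hA d e rfl
    have h2 : (B : Module.End ℂ V) * ρ f = ρ e⁻¹ * B := hB f e⁻¹ (by simp [f, mul_assoc])
    have h3 : (A : Module.End ℂ V) * B = c⁻¹ • (ρ e⁻¹ * B * A) := by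
      have h4 : (B : Module.End ℂ V) * A = c • (ρ e * A * B) := by
        have := congrArg (fun T => T * (B : Module.End ℂ V)) he
        simp only [mul_assoc, Units.inv_mul, mul_one, smul_mul_assoc] at this
        rw [this, ← mul_assoc (A : Module.End ℂ V), h1]
      rw [mul_assoc (ρ e⁻¹), h4, mul_smul_comm, smul_smul, inv_mul_cancel₀ hc0, one_smul,
        ← mul_assoc, ← mul_assoc, ← map_mul, inv_mul_cancel, map_one, one_mul]
    rw [h3, h2, smul_mul_assoc, mul_assoc _ (A : Module.End ℂ V), Units.mul_inv, mul_one]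

lemma Comm.symm {x y : G} (h : Comm M x y) (hx : x ∈ normalizer (M : Set G))
    (hy : y ∈ normalizer (M : Set G)) : Comm M y x := by
  have := conj_mem_of_normalizes (inv_mem hy)
    (⟨_, conj_mem_of_normalizes hx ⟨_, h⟩⟩⁻¹ : M)
  show y⁻¹ * (x * y * x⁻¹) ∈ M
  simpa [mul_assoc] using this

/-! ### Extensions and the pairing -/

variable [Finite G]

/-- Representations extending `ρ` with equal characters are equal. -/
lemma rep_eq_of_character_eq {H : Type u} [Group H] [Finite H] (i : M →* H)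
    {R R' : Representation ℂ H V} (hR : ∀ n, R (i n) = ρ n) (hR' : ∀ n, R' (i n) = ρ n)
    (h : R.character = R'.character) : R = R' := by
  obtain ⟨φ⟩ := nonempty_equiv_of_character_eq V V R R' h
  obtain ⟨a, ha⟩ := schur_scalar ρ φ.toIntertwiningMap.toLinearMap fun n v => by
    have := Representation.IntertwiningMap.isIntertwining _ _ φ.toIntertwiningMap (i n) v
    rw [hR, hR'] at this
    exact this
  have hφ : ∀ v, φ.toLinearEquiv v = a • v := fun v => LinearMap.congr_fun ha v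
  have := nontrivial_of_irreducible ρ
  obtain ⟨v₀, hv₀⟩ := exists_ne (0 : V)
  have ha0 : a ≠ 0 := fun h0 => by
    have := hφ v₀
    rw [h0, zero_smul, LinearEquiv.map_eq_zero_iff] at this
    exact hv₀ this
  refine MonoidHom.ext fun g => LinearMap.ext fun v => ?_
  have := Representation.IntertwiningMap.isIntertwining _ _ φ.toIntertwiningMap g v
  change φ.toLinearEquiv (R g v) = R' g (φ.toLinearEquiv v) at this
  rw [hφ, hφ, map_smul] at this
  exact smul_right_injective V ha0 this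

/-- The twist of a representation by a linear character. -/
noncomputable def linTwist {H : Type u} [Group H] (ε : H →* ℂˣ) (R : Representation ℂ H V) :
    Representation ℂ H V where
  toFun g := (ε g : ℂ) • R g
  map_one' := by simp
  map_mul' a b := by
    rw [map_mul, map_mul, Units.val_mul, smul_mul_smul_comm]

lemma linTwist_apply {H : Type u} [Group H] (ε : H →* ℂˣ) (R : Representation ℂ H V) (g : H) :
    linTwist ε R g = (ε g : ℂ) • R g := rfl

lemma character_linTwist {H : Type u} [Group H] (ε : H →* ℂˣ) (R : Representation ℂ H V) :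
    (linTwist ε R).character = fun g => (ε g : ℂ) * R.character g := by
  funext g
  exact map_smul (LinearMap.trace ℂ V) (ε g : ℂ) (R g)

/-- The pairing read off an extension and the action on its character. -/
lemma pair_of_extension {M1 : Subgroup G} (hM : M ≤ M1) (hn : M1 ≤ normalizer (M : Set G))
    (R : Representation ℂ M1 V) (hR : ∀ n : M, R (inclusion hM n) = ρ n) (ε : M1 →* ℂˣ)
    (hεM : ∀ n : M, ε (inclusion hM n) = 1) {x y : G} (hx : x ∈ M1)
    (hy1 : y ∈ normalizer (M1 : Set G)) (hy : y ∈ stab M ρ) (hc : Comm M x y)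
    (hψ : ∀ g g' : M1, (g' : G) = y * g * y⁻¹ → R.character g' = (ε g : ℂ) * R.character g) :
    x ∈ stab M ρ ∧ Pair M ρ x y ((ε ⟨x, hx⟩ : ℂ))⁻¹ := by
  obtain ⟨hyn, B, hB⟩ := hy
  let X : M1 := ⟨x, hx⟩
  let A : (Module.End ℂ V)ˣ := MonoidHom.toHomUnits R X
  have hA : Tw M ρ x (A : Module.End ℂ V) := by
    intro n n' h
    rw [← hR, ← hR]
    show R X * R _ = R _ * R X
    rw [← map_mul, ← map_mul]
    congr 1
    apply Subtype.ext
    simp [X, h]
  let e : M1 →* M1 :=
    { toFun := fun g => ⟨y * g * y⁻¹, conj_mem_of_normalizes hy1 g⟩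
      map_one' := Subtype.ext (by simp)
      map_mul' := fun a b => Subtype.ext (by simp [mul_assoc]) }
  let R' : Representation ℂ M1 V :=
    { toFun := fun g => (↑B⁻¹ : Module.End ℂ V) * R (e g) * B
      map_one' := by simp
      map_mul' := fun a b => by
        rw [map_mul, map_mul]
        simp only [mul_assoc, Units.mul_inv_cancel_left] }
  have hR'M : ∀ n : M, R' (inclusion hM n) = ρ n := fun n => by
    show (↑B⁻¹ : Module.End ℂ V) * R (e (inclusion hM n)) * B = _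
    rw [show e (inclusion hM n) = inclusion hM ⟨_, conj_mem_of_normalizes hyn n⟩ from
      Subtype.ext rfl, hR, mul_assoc, ← hB n _ rfl, Units.inv_mul_cancel_left]
  have hεR : ∀ n : M, linTwist ε R (inclusion hM n) = ρ n := fun n => by
    rw [linTwist_apply, hεM, Units.val_one, one_smul, hR]
  have hchar : R'.character = (linTwist ε R).character := by
    rw [character_linTwist]
    funext g
    show LinearMap.trace ℂ V ((↑B⁻¹ : Module.End ℂ V) * R (e g) * B) = _
    rw [LinearMap.trace_mul_comm, ← mul_assoc, Units.mul_inv, one_mul]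
    exact hψ g (e g) rfl
  have h1 := rep_eq_of_character_eq (inclusion hM) hR'M hεR hchar
  have h2 : (↑B⁻¹ : Module.End ℂ V) * R (e X) * B = (ε X : ℂ) • R X := DFunLike.congr_fun h1 X
  refine ⟨⟨hn hx, A, hA⟩, A, B, ⟨_, hc⟩, hA, hB, rfl, ?_⟩
  show (B : Module.End ℂ V) * R X * (↑B⁻¹ : Module.End ℂ V) =
    (ε X : ℂ)⁻¹ • (R X * ρ ⟨_, hc⟩)
  have h3 : R (e X) = (ε X : ℂ) • ((B : Module.End ℂ V) * R X * (↑B⁻¹ : Module.End ℂ V)) := by
    rw [← smul_mul_assoc, ← mul_smul_comm, ← h2]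
    simp only [mul_assoc, Units.mul_inv_cancel_left, Units.mul_inv, mul_one]
  rw [← hR, ← map_mul, show X * inclusion hM ⟨_, hc⟩ = e X from
      Subtype.ext (mul_inv_cancel_left x _), h3, smul_smul,
    inv_mul_cancel₀ (Units.ne_zero _), one_smul]

end Cfsg.Lib.RelMcKay
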