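import Mathlib
import Cfsg.Agent.Blocks.GlaubermanApi
import Cfsg.Agent.Chars.RelMcKay.Pairing

/-!
# The Glauberman correspondence inside an ambient group

`S` is a `p`-group normalising the `p'`-subgroup `M` of `G` and `C` is the subgroup of fixed
points.
-/

set_option autoImplicit false
set_option linter.unusedSectionVars false

namespace Cfsg.Lib.RelMcKay

open Cfsg Cfsg.Lib.Chars Module Subgroup
open scoped ComplexConjugate

universe u v

attribute [local instance high] Fintype.ofFinite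

variable {G : Type u} [Group G] [Finite G]

/-- A `p`-group acting on a `p'`-subgroup. -/
structure Acts (p : ℕ) (M S : Subgroup G) : Prop where
  pS : IsPGroup p S
  norm : S ≤ normalizer (M : Set G)
  pM : ¬ p ∣ Nat.card M

/-- Invariance of a function on `M` under `S`. -/
def InvBy (M S : Subgroup G) (f : M → ℂ) : Prop :=
  ∀ s ∈ S, ∀ g g' : M, (g' : G) = s * g * s⁻¹ → f g' = f g

/-- The correspondence between characters of `M` and of `C`. -/
def GC (p : ℕ) {M C : Subgroup G} (hCM : C ≤ M) (θ : M → ℂ) (β : C → ℂ) : Prop :=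
  ∃ m : ℕ, classInner (fun c : C => θ (inclusion hCM c)) β = (m : ℂ) ∧ ¬ p ∣ m

variable {p : ℕ} [Fact p.Prime] {M S C : Subgroup G}

lemma Acts.conj_mem (h : Acts p M S) : ∀ s ∈ S, ∀ g ∈ M, s * g * s⁻¹ ∈ M :=
  fun _ hs g hg => (mem_normalizer_iff.1 (h.norm hs) g).1 hg

lemma Acts.mono (h : Acts p M S) {T : Subgroup G} (hT : T ≤ S) : Acts p M T :=
  ⟨h.pS.to_le hT, hT.trans h.norm, h.pM⟩

lemma fixed_le (hC : C = M ⊓ centralizer (S : Set G)) : C ≤ M := hC ▸ inf_le_left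

/-- Existence of a correspondent. -/
lemma exists_gc (h : Acts p M S) (hC : C = M ⊓ centralizer (S : Set G)) {θ : M → ℂ}
    (hθ : IsIrrCharacter M θ) (hinv : InvBy M S θ) :
    ∃ β : C → ℂ, IsIrrCharacter C β ∧ GC p (fixed_le hC) θ β := by
  obtain ⟨β, hβ, -⟩ := Cfsg.Lib.Glauberman.existsUnique_corr h.pS h.pM
    (Cfsg.Lib.Glauberman.isFixed_opHom h.conj_mem hC (fixed_le hC)) (χ := ⟨θ, hθ⟩)
    ((Cfsg.Lib.Glauberman.inv_opHom_iff h.conj_mem θ).2 hinv)
  exact ⟨β, β.2, hβ⟩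

/-- Uniqueness of the correspondent. -/
lemma gc_unique (h : Acts p M S) (hC : C = M ⊓ centralizer (S : Set G)) {θ : M → ℂ}
    (hθ : IsIrrCharacter M θ) (hinv : InvBy M S θ) {β β' : C → ℂ} (hβ : IsIrrCharacter C β)
    (hβ' : IsIrrCharacter C β') (hg : GC p (fixed_le hC) θ β) (hg' : GC p (fixed_le hC) θ β') :
    β = β' :=
  congrArg Subtype.val ((Cfsg.Lib.Glauberman.existsUnique_corr h.pS h.pM
    (Cfsg.Lib.Glauberman.isFixed_opHom h.conj_mem hC (fixed_le hC)) (χ := ⟨θ, hθ⟩)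
    ((Cfsg.Lib.Glauberman.inv_opHom_iff h.conj_mem θ).2 hinv)).unique
    (y₁ := ⟨β, hβ⟩) (y₂ := ⟨β', hβ'⟩) hg hg')

/-- Injectivity. -/
lemma gc_injective (h : Acts p M S) (hC : C = M ⊓ centralizer (S : Set G)) {θ θ' : M → ℂ}
    (hθ : IsIrrCharacter M θ) (hinv : InvBy M S θ) (hθ' : IsIrrCharacter M θ')
    (hinv' : InvBy M S θ') {β : C → ℂ} (hβ : IsIrrCharacter C β)
    (hg : GC p (fixed_le hC) θ β) (hg' : GC p (fixed_le hC) θ' β) : θ = θ' :=
  congrArg Subtype.val (Cfsg.Lib.Glauberman.corr_injective h.pS h.pM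
    (Cfsg.Lib.Glauberman.isFixed_opHom h.conj_mem hC (fixed_le hC)) (χ := ⟨θ, hθ⟩) (χ' := ⟨θ', hθ'⟩)
    ((Cfsg.Lib.Glauberman.inv_opHom_iff h.conj_mem θ).2 hinv)
    ((Cfsg.Lib.Glauberman.inv_opHom_iff h.conj_mem θ').2 hinv') (β := ⟨β, hβ⟩) hg hg')

/-- Surjectivity. -/
lemma gc_surjective (h : Acts p M S) (hC : C = M ⊓ centralizer (S : Set G)) {β : C → ℂ}
    (hβ : IsIrrCharacter C β) :
    ∃ θ : M → ℂ, IsIrrCharacter M θ ∧ InvBy M S θ ∧ GC p (fixed_le hC) θ β := by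
  obtain ⟨θ, hinv, hg⟩ := Cfsg.Lib.Glauberman.corr_surjective h.pS h.pM
    (Cfsg.Lib.Glauberman.isFixed_opHom h.conj_mem hC (fixed_le hC)) ⟨β, hβ⟩
  exact ⟨θ, θ.2, (Cfsg.Lib.Glauberman.inv_opHom_iff h.conj_mem _).1 hinv, hg⟩

/-- Conjugation by an element of the normaliser. -/
def conjEquiv (H : Subgroup G) {g : G} (hg : g ∈ normalizer (H : Set G)) : H ≃* H where
  toFun n := ⟨g * n * g⁻¹, conj_mem_of_normalizes hg n⟩
  invFun n := ⟨g⁻¹ * n * g⁻¹⁻¹, conj_mem_of_normalizes (inv_mem hg) n⟩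
  left_inv n := Subtype.ext (by simp [mul_assoc])
  right_inv n := Subtype.ext (by simp [mul_assoc])
  map_mul' a b := Subtype.ext (by simp [mul_assoc])

@[simp] lemma coe_conjEquiv (H : Subgroup G) {g : G} (hg : g ∈ normalizer (H : Set G)) (n : H) :
    (conjEquiv H hg n : G) = g * n * g⁻¹ := rfl

lemma normalizes_centralizer {g : G} (hg : g ∈ normalizer (S : Set G)) :
    g ∈ normalizer (centralizer (S : Set G) : Set G) := by
  rw [mem_normalizer_iff]
  intro z
  simp only [mem_centralizer_iff]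
  constructor
  · intro hz s hs
    have hs' := hz _ ((mem_normalizer_iff''.1 hg s).1 hs)
    have := congrArg (fun t => g * t * g⁻¹) hs'
    simpa [mul_assoc] using this
  · intro hz s hs
    have hs' := hz _ ((mem_normalizer_iff.1 hg s).1 hs)
    have := congrArg (fun t => g⁻¹ * t * g) hs'
    simpa [mul_assoc] using this

lemma normalizes_fixed (hC : C = M ⊓ centralizer (S : Set G)) {g : G}
    (hgM : g ∈ normalizer (M : Set G)) (hgS : g ∈ normalizer (S : Set G)) :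
    g ∈ normalizer (C : Set G) := by
  subst hC
  have h2 := normalizes_centralizer hgS
  rw [mem_normalizer_iff] at hgM h2 ⊢
  intro z
  rw [mem_inf, mem_inf, ← hgM, ← h2]

/-- A conjugate of an invariant character is invariant. -/
lemma invBy_conj {g : G} (hgM : g ∈ normalizer (M : Set G)) (hgS : g ∈ normalizer (S : Set G))
    {θ : M → ℂ} (hinv : InvBy M S θ) : InvBy M S (fun n => θ (conjEquiv M hgM n)) := by
  intro s hs n n' h
  refine hinv _ ((mem_normalizer_iff.1 hgS s).1 hs) _ _ ?_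
  simp [h, mul_assoc]

/-- Equivariance. -/
lemma gc_conj (hC : C = M ⊓ centralizer (S : Set G)) {g : G} (hgM : g ∈ normalizer (M : Set G))
    (hgS : g ∈ normalizer (S : Set G)) {θ : M → ℂ} {β : C → ℂ}
    (hg : GC p (fixed_le hC) θ β) :
    GC p (fixed_le hC) (fun n => θ (conjEquiv M hgM n))
      (fun c => β (conjEquiv C (normalizes_fixed hC hgM hgS) c)) := by
  obtain ⟨m, hm, hpm⟩ := hg
  refine ⟨m, ?_, hpm⟩
  rw [← hm, ← classInner_comp_equiv (conjEquiv C (normalizes_fixed hC hgM hgS)).toEquiv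
    (fun c : C => θ (inclusion (fixed_le hC) c)) β]
  rfl

/-- An element fixing a character fixes its correspondent. -/
lemma gc_fixed (h : Acts p M S) (hC : C = M ⊓ centralizer (S : Set G)) {g : G}
    (hgM : g ∈ normalizer (M : Set G)) (hgS : g ∈ normalizer (S : Set G)) {θ : M → ℂ}
    (hθ : IsIrrCharacter M θ) (hinv : InvBy M S θ) {β : C → ℂ} (hβ : IsIrrCharacter C β)
    (hg : GC p (fixed_le hC) θ β) (hfix : (fun n => θ (conjEquiv M hgM n)) = θ) :
    (fun c => β (conjEquiv C (normalizes_fixed hC hgM hgS) c)) = β := by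
  refine gc_unique h hC hθ hinv (IsIrrCharacter.comp_mulEquiv hβ _) hβ ?_ hg
  have := gc_conj hC hgM hgS hg
  rwa [hfix] at this

/-- An element fixing a correspondent fixes the character. -/
lemma gc_fixed' (h : Acts p M S) (hC : C = M ⊓ centralizer (S : Set G)) {g : G}
    (hgM : g ∈ normalizer (M : Set G)) (hgS : g ∈ normalizer (S : Set G)) {θ : M → ℂ}
    (hθ : IsIrrCharacter M θ) (hinv : InvBy M S θ) {β : C → ℂ} (hβ : IsIrrCharacter C β)
    (hg : GC p (fixed_le hC) θ β)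
    (hfix : (fun c => β (conjEquiv C (normalizes_fixed hC hgM hgS) c)) = β) :
    (fun n => θ (conjEquiv M hgM n)) = θ := by
  refine gc_injective h hC (IsIrrCharacter.comp_mulEquiv hθ _) (invBy_conj hgM hgS hinv) hθ hinv hβ
    ?_ hg
  have := gc_conj hC hgM hgS hg
  rwa [hfix] at this

/-- A constituent through which a multiplicity prime to `p` passes. -/
lemma exists_between {H H' : Type u} [Group H] [Finite H] [Group H'] [Finite H'] (f : H →* H')
    {φ : H' → ℂ} (hφ : IsCharacter H' φ) {β : H → ℂ} (hβ : IsIrrCharacter H β) {m : ℕ}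
    (hm : classInner (fun c => φ (f c)) β = (m : ℂ)) (hpm : ¬ p ∣ m) :
    ∃ γ : H' → ℂ, IsIrrCharacter H' γ ∧
      (∃ a : ℕ, classInner φ γ = (a : ℂ) ∧ ¬ p ∣ a) ∧
      ∃ b : ℕ, classInner (fun c => γ (f c)) β = (b : ℂ) ∧ ¬ p ∣ b := by
  obtain ⟨a, ha⟩ := IsCharacter.exists_decomp hφ
  choose b hb using fun γ : IrrCharacter H' =>
    IsCharacter.exists_mult (IsCharacter.comp_hom (isCharacter_of_irr γ.2) f) hβ
  have h1 : (fun c => φ (f c)) = ∑ γ : IrrCharacter H', a γ • (fun c => (γ : H' → ℂ) (f c)) := by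
    funext c
    rw [ha]
    simp [Finset.sum_apply]
  rw [h1, classInner_sum_left] at hm
  simp only [classInner_nsmul_left, hb] at hm
  have hm' : ∑ γ : IrrCharacter H', a γ * b γ = m := by exact_mod_cast hm
  obtain ⟨γ, hγ⟩ : ∃ γ : IrrCharacter H', ¬ p ∣ a γ * b γ := by
    by_contra hcon
    push Not at hcon
    exact hpm (hm' ▸ Finset.dvd_sum fun γ _ => hcon γ)
  refine ⟨γ, γ.2, ⟨a γ, ?_, fun hd => hγ (hd.mul_right _)⟩,
    b γ, hb γ, fun hd => hγ (hd.mul_left _)⟩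
  rw [ha]
  simp only [← Nat.cast_smul_eq_nsmul ℂ]
  exact classInner_irrSum (fun γ => (a γ : ℂ)) γ

/-- The correspondence is computed in two steps. -/
lemma gc_trans (h : Acts p M S) (hC : C = M ⊓ centralizer (S : Set G)) {T C₁ : Subgroup G}
    (hT : T ≤ S) (hC₁ : C₁ = M ⊓ centralizer (T : Set G)) {θ : M → ℂ} (hθ : IsIrrCharacter M θ)
    (hinv : InvBy M S θ) {β : C → ℂ} (hβ : IsIrrCharacter C β) (hg : GC p (fixed_le hC) θ β)
    {θ₁ : C₁ → ℂ} (hθ₁ : IsIrrCharacter C₁ θ₁) (hg₁ : GC p (fixed_le hC₁) θ θ₁) (hCC₁ : C ≤ C₁) :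
    GC p hCC₁ θ₁ β := by
  obtain ⟨m, hm, hpm⟩ := hg
  obtain ⟨γ, hγ, ha, hb⟩ := exists_between (inclusion hCC₁)
    (φ := fun c => θ (inclusion (fixed_le hC₁) c))
    (IsCharacter.comp_hom (isCharacter_of_irr hθ) _) hβ (m := m) hm hpm
  rw [gc_unique (h.mono hT) hC₁ hθ (fun s hs => hinv s (hT hs)) hθ₁ hγ hg₁ ha]
  exact hb

end Cfsg.Lib.RelMcKay
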