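import Mathlib
import Cfsg.Agent.Blocks.RelativeGlauberman
import Cfsg.Agent.Chars.Galois
import Cfsg.Agent.Chars.RelMcKay.Corr

/-!
# Pairings of Glauberman correspondents, when one element centralises the operators
-/

set_option autoImplicit false
set_option linter.unusedSectionVars false

namespace Cfsg.Lib.RelMcKay

open Cfsg Cfsg.Lib.Chars Module Subgroup
open scoped ComplexConjugate

universe u v w

attribute [local instance high] Fintype.ofFinite

variable {G : Type u} [Group G] [Finite G]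

lemma isIrreducible_comp_surjective {H H' : Type u} [Group H] [Group H'] {V : Type v}
    [AddCommGroup V] [Module ℂ V] (ρ : Representation ℂ H' V) [hρ : ρ.IsIrreducible] (f : H →* H')
    (hf : Function.Surjective f) : Representation.IsIrreducible (ρ.comp f : Representation ℂ H V) := by
  let e : Subrepresentation (ρ.comp f : Representation ℂ H V) ≃o Subrepresentation ρ :=
    { toFun := fun S => ⟨S.toSubmodule, fun n v hv => by
        obtain ⟨m, rfl⟩ := hf n
        exact S.apply_mem_toSubmodule m hv⟩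
      invFun := fun S => ⟨S.toSubmodule, fun n v hv => S.apply_mem_toSubmodule (f n) hv⟩
      left_inv := fun S => rfl
      right_inv := fun S => rfl
      map_rel_iff' := Iff.rfl }
  exact (OrderIso.isSimpleOrder_iff e).mpr hρ

/-- Products of powers in a normalised subgroup. -/
lemma mem_sup_zpowers {M : Subgroup G} {x : G} (hx : x ∈ normalizer (M : Set G)) {g : G}
    (hg : g ∈ M ⊔ zpowers x) : ∃ m ∈ M, ∃ k : ℤ, g = m * x ^ k := by
  have hle : zpowers x ≤ normalizer (M : Set G) := zpowers_le.2 hx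
  have h2 : g ∈ ((M ⊔ zpowers x : Subgroup G) : Set G) := hg
  rw [coe_mul_of_right_le_normalizer_left M (zpowers x) hle] at h2
  obtain ⟨m, hm, z, hz, rfl⟩ := h2
  obtain ⟨k, rfl⟩ := mem_zpowers_iff.1 hz
  exact ⟨m, hm, k, rfl⟩

lemma sup_zpowers_le_normalizer {M : Subgroup G} {x : G} (hx : x ∈ normalizer (M : Set G)) :
    M ⊔ zpowers x ≤ normalizer (M : Set G) :=
  sup_le le_normalizer (zpowers_le.2 hx)

/-- An element moving `x` inside its coset normalises `M ⊔ ⟨x⟩`. -/
lemma mem_normalizer_sup {M : Subgroup G} {x y : G} (hx : x ∈ normalizer (M : Set G))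
    (hy : y ∈ normalizer (M : Set G)) (hc : Comm M x y) :
    y ∈ normalizer ((M ⊔ zpowers x : Subgroup G) : Set G) := by
  have hle : M ⊔ zpowers x ≤ (M ⊔ zpowers x).comap (MulAut.conj y).toMonoidHom := by
    refine sup_le (fun m hm => ?_) (zpowers_le.2 ?_)
    · exact mem_sup_left ((mem_normalizer_iff.1 hy m).1 hm)
    · show y * x * y⁻¹ ∈ M ⊔ zpowers x
      have := mul_mem (mem_sup_right (S := M) (mem_zpowers x))
        (mem_sup_left (T := zpowers x) hc)
      rwa [mul_inv_cancel_left] at this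
  exact mem_normalizer_fintype fun g hg => hle hg

/-- A consequence of coprimality. -/
lemma eq_one_of_pow_pow {A : Type*} [Monoid A] {a : A} {m n : ℕ} (hmn : m.Coprime n)
    (hm : a ^ m = 1) (hn : a ^ n = 1) : a = 1 := by
  have h := pow_gcd_eq_one.mpr ⟨hm, hn⟩
  rwa [show Nat.gcd m n = 1 from hmn, pow_one] at h

/-- Extensions over a cyclic quotient. -/
lemma exists_cyclic_extension {M M1 : Subgroup G} (hM : M ≤ M1)
    (hn : M1 ≤ normalizer (M : Set G)) (hcyc : ∃ x ∈ M1, ∀ g ∈ M1, ∃ m ∈ M, ∃ k : ℤ, g = m * x ^ k)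
    {V : Type v} [AddCommGroup V] [Module ℂ V] [FiniteDimensional ℂ V] (ρ : Representation ℂ M V)
    [ρ.IsIrreducible] (hst : M1 ≤ stab M ρ) :
    ∃ R : Representation ℂ M1 V, ∀ n : M, R (inclusion hM n) = ρ n := by
  haveI : (M.subgroupOf M1).Normal := ⟨fun n hn' g => conj_mem_of_normalizes (hn g.2) ⟨_, hn'⟩⟩
  let e := subgroupOfEquivOfLe hM
  let ρ' : Representation ℂ (M.subgroupOf M1) V := ρ.comp e.toMonoidHom
  haveI : ρ'.IsIrreducible := isIrreducible_comp_surjective ρ e.toMonoidHom e.surjective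
  have hinv : ∀ g : M1, conjN (M.subgroupOf M1) g ρ'.character = ρ'.character := fun g => by
    funext n
    exact character_eq_of_mem_stab (hst g.2) (n := e n) (n' := e ⟨_, _⟩) rfl
  obtain ⟨x, hx, hgen⟩ := hcyc
  have hc : IsCyclic (M1 ⧸ M.subgroupOf M1) := by
    refine ⟨⟨QuotientGroup.mk' _ ⟨x, hx⟩, fun q => ?_⟩⟩
    obtain ⟨g, rfl⟩ := QuotientGroup.mk'_surjective _ q
    obtain ⟨m, hm, k, hk⟩ := hgen g g.2
    refine ⟨k, ?_⟩
    show (QuotientGroup.mk' (M.subgroupOf M1) ⟨x, hx⟩) ^ k = _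
    rw [← map_zpow, show g = (⟨m, hM hm⟩ : M1) * (⟨x, hx⟩ : M1) ^ k from Subtype.ext (by simp [hk]),
      map_mul, show QuotientGroup.mk' (M.subgroupOf M1) (⟨m, hM hm⟩ : M1) = 1 from
        (QuotientGroup.eq_one_iff _).2 hm, one_mul]
  obtain ⟨R, hR⟩ :=
    exists_extension_of_hasSplit _ ρ' hinv (hasSplit_one_of_cyclic _ ρ' hc)
  exact ⟨R, fun n => (hR ⟨inclusion hM n, n.2⟩).trans rfl⟩

variable {p : ℕ} [Fact p.Prime] {M S C : Subgroup G} {V : Type v} [AddCommGroup V] [Module ℂ V]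
  [FiniteDimensional ℂ V] {W : Type w} [AddCommGroup W] [Module ℂ W] [FiniteDimensional ℂ W]
  {ρ : Representation ℂ M V} [ρ.IsIrreducible] {σ : Representation ℂ C W} [σ.IsIrreducible]

/-- The pairings of `x` and `y` in the two representations coincide. -/
def Agree (ρ : Representation ℂ M V) (σ : Representation ℂ C W) (x y : G) : Prop :=
  ∃ c : ℂ, Pair M ρ x y c ∧ Pair C σ x y c

lemma mem_stab_corr (h : Acts p M S) (hC : C = M ⊓ centralizer (S : Set G))
    (hinv : InvBy M S ρ.character) (hg : GC p (fixed_le hC) ρ.character σ.character) {g : G}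
    (hgS : g ∈ normalizer (S : Set G)) (hgρ : g ∈ stab M ρ) : g ∈ stab C σ := by
  have hfix : (fun n => ρ.character (conjEquiv M hgρ.1 n)) = ρ.character :=
    funext fun n => character_eq_of_mem_stab hgρ rfl
  have hσfix := gc_fixed h hC hgρ.1 hgS (isIrrCharacter_character ρ) hinv
    (isIrrCharacter_character σ) hg hfix
  refine mem_stab_of_character (normalizes_fixed hC hgρ.1 hgS) fun n n' hn => ?_
  have := congrFun hσfix n
  rwa [show n' = conjEquiv C (normalizes_fixed hC hgρ.1 hgS) n from Subtype.ext hn]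

lemma invBy_of_le_stab (hS : S ≤ stab M ρ) : InvBy M S ρ.character :=
  fun _ hs _ _ h => character_eq_of_mem_stab (hS hs) h

/-- The case of an element centralising the operators. -/
theorem agree_of_centralizes (h : Acts p M S) (hC : C = M ⊓ centralizer (S : Set G))
    (hinv : InvBy M S ρ.character) (hg : GC p (fixed_le hC) ρ.character σ.character) {x y : G}
    (hxS : x ∈ centralizer (S : Set G)) (hyS : y ∈ normalizer (S : Set G)) (hx : x ∈ stab M ρ)
    (hy : y ∈ stab M ρ) (hc : Comm C x y) (hp : ¬ p ∣ Nat.card ↥(M ⊔ zpowers x)) :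
    Agree ρ σ x y := by
  have hCM := fixed_le hC
  have hcM : Comm M x y := hCM hc
  set M1 : Subgroup G := M ⊔ zpowers x with hM1d
  have hMM1 : M ≤ M1 := le_sup_left
  have hxM1 : x ∈ M1 := mem_sup_right (mem_zpowers x)
  have hM1n : M1 ≤ normalizer (M : Set G) := sup_zpowers_le_normalizer hx.1
  have hM1s : M1 ≤ stab M ρ := sup_le le_stab (zpowers_le.2 hx)
  have hyM1 : y ∈ normalizer (M1 : Set G) := mem_normalizer_sup hx.1 hy.1 hcM
  -- `S` moves the elements of `M1` inside their cosets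
  have hcoset : ∀ s ∈ S, ∀ g ∈ M1, g⁻¹ * (s * g * s⁻¹) ∈ M := by
    intro s hs g hg
    obtain ⟨m, hm, k, rfl⟩ := mem_sup_zpowers hx.1 hg
    have h1 : s * x ^ k * s⁻¹ = x ^ k := mul_inv_eq_iff_eq_mul.2
      (mem_centralizer_iff.1 ((centralizer (S : Set G)).zpow_mem hxS k) s hs)
    have h2 : s * (m * x ^ k) * s⁻¹ = s * m * s⁻¹ * x ^ k := by
      conv_rhs => rw [← h1]
      group
    rw [h2, show (m * x ^ k)⁻¹ * (s * m * s⁻¹ * x ^ k) =
      (x ^ k)⁻¹ * (m⁻¹ * (s * m * s⁻¹)) * (x ^ k) by group]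
    exact (mem_normalizer_iff''.1 ((normalizer (M : Set G)).zpow_mem hx.1 k) _).1
      (mul_mem (inv_mem hm) (h.conj_mem s hs m hm))
  have hact1 : Acts p M1 S := ⟨h.pS, fun s hs => mem_normalizer_fintype fun g hg => by
      have := mul_mem hg (hMM1 (hcoset s hs g hg))
      rwa [mul_inv_cancel_left] at this, hp⟩
  -- an extension
  have hgen : ∀ g ∈ M1, ∃ m ∈ M, ∃ k : ℤ, g = m * x ^ k := fun g hg => mem_sup_zpowers hx.1 hg
  obtain ⟨R, hR⟩ := exists_cyclic_extension hMM1 hM1n ⟨x, hxM1, hgen⟩ ρ hM1s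
  haveI : (M.subgroupOf M1).Normal := ⟨fun n hn' g => conj_mem_of_normalizes (hM1n g.2) ⟨_, hn'⟩⟩
  let e := subgroupOfEquivOfLe hMM1
  let ρ' : Representation ℂ (M.subgroupOf M1) V := ρ.comp e.toMonoidHom
  haveI : ρ'.IsIrreducible := isIrreducible_comp_surjective ρ e.toMonoidHom e.surjective
  obtain ⟨hψ, hψM⟩ := exists_irr_ext_of_rep _ ρ' R fun n => by
    conv_lhs => rw [show ((n : M.subgroupOf M1) : M1) = inclusion hMM1 (e n) from Subtype.ext rfl]
    rw [hR]
    rfl
  set ψ := R.character with hψd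
  have hψρ : ∀ n : M, ψ (inclusion hMM1 n) = ρ.character n := fun n => by
    show LinearMap.trace ℂ V (R _) = _
    rw [hR]; rfl
  have hlin : ∀ t : G, t ∈ normalizer (M1 : Set G) → t ∈ stab M ρ →
      ∃ ε : M1 →* ℂˣ, (∀ n : M, ε (inclusion hMM1 n) = 1) ∧
        ∀ g g' : M1, (g' : G) = t * g * t⁻¹ → ψ g' = (ε g : ℂ) * ψ g := by
    intro t ht1 ht
    obtain ⟨ε, hεN, hε⟩ := exists_linear_of_extensions (M.subgroupOf M1)
      (isIrrCharacter_character ρ') hψ (IsIrrCharacter.comp_mulEquiv hψ (conjEquiv M1 ht1))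
      hψM fun n => by
        rw [show conjEquiv M1 ht1 (n : M1) =
          inclusion hMM1 (conjEquiv M ht.1 (e n)) from Subtype.ext rfl, hψρ]
        exact character_eq_of_mem_stab ht rfl
    refine ⟨ε, fun n => hεN ⟨inclusion hMM1 n, n.2⟩, fun g g' hg' => ?_⟩
    rw [show g' = conjEquiv M1 ht1 g from Subtype.ext hg']
    exact congrFun hε g
  -- the extension is invariant
  have hinv1 : InvBy M1 S ψ := by
    intro s hs g g' hg'
    have hsM : s ∈ stab M ρ := mem_stab_of_character (h.norm hs) fun n n' hn => hinv s hs n n' hn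
    obtain ⟨ε, hεM, hε⟩ := hlin s (hact1.norm hs) hsM
    suffices ε = 1 by rw [hε g g' hg', this, MonoidHom.one_apply, Units.val_one, one_mul]
    let f := conjEquiv M1 (hact1.norm hs)
    have hfε : ∀ z, ε (f z) = ε z := fun z => by
      have hm := hcoset s hs z z.2
      rw [show f z = z * inclusion hMM1 ⟨_, hm⟩ from Subtype.ext (mul_inv_cancel_left (z : G) _).symm,
        map_mul, hεM, mul_one]
    have hiter : ∀ (n : ℕ) (z z' : M1), (z' : G) = s ^ n * z * (s ^ n)⁻¹ →
        ψ z' = ((ε z : ℂ) ^ n) * ψ z := by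
      intro n
      induction n with
      | zero =>
        intro z z' hz
        rw [show z' = z from Subtype.ext (by simpa using hz), pow_zero, one_mul]
      | succ n ih =>
        intro z z' hz
        rw [ih (f z) z' (by rw [hz, pow_succ]; simp [f, mul_assoc]), hε z (f z) rfl, hfε, pow_succ,
          mul_assoc]
    have hεn : ε ^ orderOf s = 1 := by
      have hc' : (linTwist (ε ^ orderOf s) R).character = R.character := by
        rw [character_linTwist]
        funext z
        rw [MonoidHom.pow_apply, Units.val_pow_eq_pow_val]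
        exact (hiter (orderOf s) z z (by simp [pow_orderOf_eq_one])).symm
      have heq := rep_eq_of_character_eq (inclusion hMM1) (fun n => by
        rw [linTwist_apply, MonoidHom.pow_apply, hεM, one_pow, Units.val_one, one_smul, hR]) hR hc'
      ext z
      have hz := DFunLike.congr_fun heq z
      rw [linTwist_apply] at hz
      have := nontrivial_of_irreducible ρ
      have hne : R z ≠ 0 := (MonoidHom.toHomUnits R z).ne_zero
      exact smul_left_injective ℂ hne (hz.trans (one_smul ℂ _).symm)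
    have hcard : ε ^ Nat.card M1 = 1 := by
      ext z
      rw [MonoidHom.pow_apply, ← map_pow, pow_card_eq_one', map_one, MonoidHom.one_apply]
    ext z : 1
    refine eq_one_of_pow_pow ?_ (DFunLike.congr_fun hεn z) (DFunLike.congr_fun hcard z)
    obtain ⟨a, ha⟩ := h.pS.exists_orderOf_eq_pow ⟨s, hs⟩
    rw [orderOf_mk] at ha
    rw [ha]
    exact Nat.Coprime.pow_left a (((Fact.out : p.Prime).coprime_iff_not_dvd).2 hp)
  -- the correspondent of the extension
  obtain ⟨C1, hC1⟩ : ∃ C1, C1 = M1 ⊓ centralizer (S : Set G) := ⟨_, rfl⟩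
  have hC1M1 := fixed_le hC1
  obtain ⟨γ, hγ, hgγ⟩ := exists_gc hact1 hC1 hψ hinv1
  have hCC1 : C ≤ C1 := by
    rw [hC, hC1]
    exact inf_le_inf_right _ hMM1
  have hC1n : C1 ≤ normalizer (C : Set G) := fun z hz => by
    rw [hC1] at hz
    exact normalizes_fixed hC (hM1n hz.1) (centralizer_le_normalizer _ hz.2)
  have hxC1 : x ∈ C1 := hC1 ▸ ⟨hxM1, hxS⟩
  have hC1s : C1 ≤ stab C σ := fun z hz => by
    rw [hC1] at hz
    exact mem_stab_corr h hC hinv hg (centralizer_le_normalizer _ hz.2) (hM1s hz.1)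
  have hgenC : ∀ z ∈ C1, ∃ m ∈ C, ∃ k : ℤ, z = m * x ^ k := fun z hz => by
    rw [hC1] at hz
    obtain ⟨m, hm, k, rfl⟩ := hgen z hz.1
    refine ⟨m, ?_, k, rfl⟩
    rw [hC]
    refine mem_inf.2 ⟨hm, ?_⟩
    have := mul_mem (mem_inf.1 hz).2 (inv_mem ((centralizer (S : Set G)).zpow_mem hxS k))
    rwa [mul_inv_cancel_right] at this
  obtain ⟨R₀, hR₀⟩ := exists_cyclic_extension hCC1 hC1n ⟨x, hxC1, hgenC⟩ σ hC1s
  haveI : (C.subgroupOf C1).Normal := ⟨fun n hn' g => conj_mem_of_normalizes (hC1n g.2) ⟨_, hn'⟩⟩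
  let e' := subgroupOfEquivOfLe hCC1
  let σ' : Representation ℂ (C.subgroupOf C1) W := σ.comp e'.toMonoidHom
  haveI : σ'.IsIrreducible := isIrreducible_comp_surjective σ e'.toMonoidHom e'.surjective
  obtain ⟨hη, hηC⟩ := exists_irr_ext_of_rep _ σ' R₀ fun n => by
    conv_lhs => rw [show ((n : C.subgroupOf C1) : C1) = inclusion hCC1 (e' n) from Subtype.ext rfl]
    rw [hR₀]
    rfl
  have hηC' : (fun n : C.subgroupOf C1 => R₀.character n) = σ'.character := funext hηC
  -- `γ` lies over the correspondent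
  have hγσ : ∀ n : C, γ (inclusion hCC1 n) = σ.character n := by
    obtain ⟨m, hm, hpm⟩ := hg
    obtain ⟨γ', hγ', ha, b, hb, hpb⟩ := exists_between (inclusion hCC1)
      (φ := fun z => ψ (inclusion hC1M1 z))
      (IsCharacter.comp_hom (isCharacter_of_irr hψ) _) (isIrrCharacter_character σ) (m := m) (by
        rw [← hm]
        congr 1
        funext z
        exact (hψρ (inclusion hCM z))) hpm
    obtain rfl := gc_unique hact1 hC1 hψ hinv1 hγ hγ' hgγ ha
    have hover : classInner (fun n : C.subgroupOf C1 => γ n)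
        (fun n : C.subgroupOf C1 => R₀.character n) ≠ 0 := by
      rw [hηC']
      have hb0 : classInner (fun c : C => γ (inclusion hCC1 c)) σ.character ≠ 0 := by
        rw [hb]
        exact Nat.cast_ne_zero.2 fun hb0 => hpb (hb0 ▸ dvd_zero p)
      rw [← classInner_comp_equiv e'.toEquiv] at hb0
      exact hb0
    have hinvη : ∀ g : C1, conjN (C.subgroupOf C1) g (fun n : C.subgroupOf C1 => R₀.character n) =
        fun n : C.subgroupOf C1 => R₀.character n := fun g => by
      rw [hηC']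
      funext n
      exact character_eq_of_mem_stab (hC1s g.2) (n := e' n) (n' := e' ⟨_, _⟩) rfl
    obtain ⟨b', hb'⟩ := Cfsg.Lib.RelGlauberman.exists_infMul (C.subgroupOf C1) hη
      (hηC'.symm ▸ isIrrCharacter_character σ') hinvη hγ hover
    have hab : ∀ q r : C1 ⧸ C.subgroupOf C1, q * r = r * q := by
      have : IsCyclic (C1 ⧸ C.subgroupOf C1) := by
        refine ⟨⟨QuotientGroup.mk' _ ⟨x, hxC1⟩, fun q => ?_⟩⟩
        obtain ⟨g, rfl⟩ := QuotientGroup.mk'_surjective _ q
        obtain ⟨m', hm', k, hk⟩ := hgenC g g.2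
        refine ⟨k, ?_⟩
        show (QuotientGroup.mk' (C.subgroupOf C1) ⟨x, hxC1⟩) ^ k = _
        rw [← map_zpow, show g = (⟨m', hCC1 hm'⟩ : C1) * (⟨x, hxC1⟩ : C1) ^ k from
          Subtype.ext (by simp [hk]), map_mul, show QuotientGroup.mk' (C.subgroupOf C1)
          (⟨m', hCC1 hm'⟩ : C1) = 1 from (QuotientGroup.eq_one_iff _).2 hm', one_mul]
      exact fun q r => IsCyclic.commGroup.mul_comm q r
    have hb1 := irr_deg_one_of_comm hab b'.2
    intro n
    rw [hb']
    show (b' : C1 ⧸ C.subgroupOf C1 → ℂ) _ * R₀.character _ = _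
    rw [show ((inclusion hCC1 n : C1) : C1 ⧸ C.subgroupOf C1) = 1 from
      (QuotientGroup.eq_one_iff _).2 n.2, hb1, one_mul]
    exact hηC ⟨inclusion hCC1 n, n.2⟩
  obtain ⟨Rγ, hRγ, hRγc⟩ := exists_rep_extending C σ (inclusion hCC1) (isCharacter_of_irr hγ) hγσ
  -- the action of `y`
  obtain ⟨ε, hεM, hε⟩ := hlin y hyM1 hy
  obtain ⟨-, hpM⟩ := pair_of_extension hMM1 hM1n R hR ε hεM hxM1 hyM1 hy hcM hε
  let ε₁ : C1 →* ℂˣ := ε.comp (inclusion hC1M1)
  have hyC1 : y ∈ normalizer (C1 : Set G) := normalizes_fixed hC1 hyM1 hyS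
  have hγy : ∀ g g' : C1, (g' : G) = y * g * y⁻¹ → γ g' = (ε₁ g : ℂ) * γ g := by
    have hψy : (fun g => ψ (conjEquiv M1 hyM1 g)) = fun g => (ε g : ℂ) * ψ g :=
      funext fun g => hε g _ rfl
    have h1 : GC p hC1M1 (fun g => ψ (conjEquiv M1 hyM1 g))
        (fun c => γ (conjEquiv C1 hyC1 c)) := gc_conj hC1 hyM1 hyS hgγ
    have h2 : GC p hC1M1 (fun g => ψ (conjEquiv M1 hyM1 g)) (fun c => (ε₁ c : ℂ) * γ c) := by
      obtain ⟨m, hm, hpm⟩ := hgγ
      refine ⟨m, ?_, hpm⟩
      rw [← hm, hψy, classInner_def, classInner_def]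
      congr 1
      refine Finset.sum_congr rfl fun c _ => ?_
      have hu : (ε₁ c : ℂ) * conj (ε₁ c : ℂ) = 1 := by
        rw [← IsCharacter.conj_inv (isCharacter_linear ε₁) c, ← Units.val_mul, ← map_mul,
          mul_inv_cancel, map_one, Units.val_one]
      show (ε₁ c : ℂ) * ψ (inclusion hC1M1 c) * conj ((ε₁ c : ℂ) * γ c) = _
      rw [map_mul, show (ε₁ c : ℂ) * ψ (inclusion hC1M1 c) * (conj (ε₁ c : ℂ) * conj (γ c)) =
        (ε₁ c : ℂ) * conj (ε₁ c : ℂ) * (ψ (inclusion hC1M1 c) * conj (γ c)) by ring, hu, one_mul]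
    have h3 := gc_unique hact1 hC1 (IsIrrCharacter.comp_mulEquiv hψ (conjEquiv M1 hyM1))
      (invBy_conj hyM1 hyS hinv1) (IsIrrCharacter.comp_mulEquiv hγ (conjEquiv C1 hyC1))
      (IsIrrCharacter.mul_linear hγ ε₁) h1 h2
    intro g g' hg'
    rw [show g' = conjEquiv C1 hyC1 g from Subtype.ext hg']
    exact congrFun h3 g
  obtain ⟨-, hpC⟩ := pair_of_extension hCC1 hC1n Rγ hRγ ε₁
    (fun n => by
      show ε (inclusion hC1M1 (inclusion hCC1 n)) = 1
      exact hεM (inclusion hCM n))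
    hxC1 hyC1 (mem_stab_corr h hC hinv hg hyS hy) hc (fun g g' hg' => by
      rw [hRγc]; exact hγy g g' hg')
  exact ⟨_, hpM, hpC⟩

end Cfsg.Lib.RelMcKay
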