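import Mathlib
import Cfsg.Agent.Coprime.Action
import Cfsg.Agent.Chars.OneNonvanishing.Quot
import Cfsg.Agent.Chars.RelMcKay.Agree

/-!
# Pairings of Glauberman correspondents coincide
-/

set_option autoImplicit false
set_option linter.unusedSectionVars false

namespace Cfsg.Lib.RelMcKay

open Cfsg Cfsg.Lib.Chars Module Subgroup
open scoped ComplexConjugate

universe u

attribute [local instance high] Fintype.ofFinite

variable {G : Type u} [Group G] [Finite G]

section AgreeAlgebra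

variable {M C : Subgroup G} {V W : Type} [AddCommGroup V] [Module ℂ V] [FiniteDimensional ℂ V]
  [AddCommGroup W] [Module ℂ W] [FiniteDimensional ℂ W]
  {ρ : Representation ℂ M V} [ρ.IsIrreducible] {σ : Representation ℂ C W} [σ.IsIrreducible]

lemma agree_self {x : G} (hx : x ∈ stab M ρ) (hx' : x ∈ stab C σ) : Agree ρ σ x x :=
  ⟨1, pair_self hx, pair_self hx'⟩

lemma agree_one_right {x : G} (hx : x ∈ stab M ρ) (hx' : x ∈ stab C σ) : Agree ρ σ x 1 := by
  refine ⟨1, ?_, ?_⟩
  · simpa using pair_mem hx (1 : M)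
  · simpa using pair_mem hx' (1 : C)

lemma Agree.symm {x y : G} (h : Agree ρ σ x y) (hx : x ∈ stab M ρ) (hy : y ∈ stab M ρ)
    (hx' : x ∈ stab C σ) (hy' : y ∈ stab C σ) : Agree ρ σ y x := by
  obtain ⟨c, h1, h2⟩ := h
  exact ⟨c⁻¹, h1.symm hx hy, h2.symm hx' hy'⟩

lemma Agree.mul_right {x y z : G} (h : Agree ρ σ x y) (h' : Agree ρ σ x z) (hx : x ∈ stab M ρ)
    (hy : y ∈ stab M ρ) (hz : z ∈ stab M ρ) (hx' : x ∈ stab C σ) (hy' : y ∈ stab C σ)
    (hz' : z ∈ stab C σ) : Agree ρ σ x (y * z) := by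
  obtain ⟨c, h1, h2⟩ := h
  obtain ⟨c', h1', h2'⟩ := h'
  exact ⟨c * c', h1.mul_right h1' hx hy hz, h2.mul_right h2' hx' hy' hz'⟩

lemma Agree.pow_right {x y : G} (h : Agree ρ σ x y) (hx : x ∈ stab M ρ) (hy : y ∈ stab M ρ)
    (hx' : x ∈ stab C σ) (hy' : y ∈ stab C σ) : ∀ n : ℕ, Agree ρ σ x (y ^ n)
  | 0 => by rw [pow_zero]; exact agree_one_right hx hx'
  | n + 1 => by
    rw [pow_succ]
    exact (Agree.pow_right h hx hy hx' hy' n).mul_right h hx (pow_mem hy n) hy hx' (pow_mem hy' n) hy'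

lemma Agree.trans {C₁ : Subgroup G} {U : Type} [AddCommGroup U] [Module ℂ U]
    [FiniteDimensional ℂ U] {τ : Representation ℂ C₁ U} [τ.IsIrreducible] {x y : G}
    (h : Agree ρ τ x y) (h' : Agree τ σ x y) (hx : x ∈ stab C₁ τ) (hy : y ∈ stab C₁ τ) :
    Agree ρ σ x y := by
  obtain ⟨c, h1, h2⟩ := h
  obtain ⟨c', h2', h3⟩ := h'
  obtain rfl := h2.unique h2' hx hy
  exact ⟨c, h1, h3⟩

end AgreeAlgebra

/-- Commutators of a subgroup generated by two elements commuting modulo a normalised subgroup. -/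
lemma comm_closure {H : Subgroup G} {x y : G} (hx : x ∈ normalizer (H : Set G))
    (hy : y ∈ normalizer (H : Set G)) (h : Comm H x y) {a b : G}
    (ha : a ∈ closure {x, y}) (hb : b ∈ closure {x, y}) : Comm H a b := by
  have hle : closure {x, y} ≤ normalizer (H : Set G) := by
    rw [closure_le]
    rintro z (rfl | rfl) <;> assumption
  have hone : ∀ a : G, Comm H a 1 := fun a => by
    show a⁻¹ * (1 * a * 1⁻¹) ∈ H
    simp
  have hself : ∀ a : G, Comm H a a := fun a => by
    show a⁻¹ * (a * a * a⁻¹) ∈ H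
    simp
  have key : ∀ a ∈ normalizer (H : Set G), Comm H a x → Comm H a y →
      ∀ b ∈ closure {x, y}, Comm H a b := by
    intro a ha hax hay b hb
    induction hb using closure_induction with
    | mem z hz => rcases hz with rfl | rfl <;> assumption
    | one => exact hone a
    | mul z w hz _ ihz ihw =>
      have hw := conj_mem_of_normalizes (hle hz) ⟨_, ihw⟩
      show a⁻¹ * (z * w * a * (z * w)⁻¹) ∈ H
      have := mul_mem ihz hw
      simpa [mul_assoc] using this
    | inv z hz ih =>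
      have hz' := conj_mem_of_normalizes (inv_mem (hle hz)) (⟨_, ih⟩⁻¹ : H)
      show a⁻¹ * (z⁻¹ * a * z⁻¹⁻¹) ∈ H
      simpa [mul_assoc] using hz'
  have hxb : Comm H x b := key x hx (hself x) h b hb
  have hyb : Comm H y b := key y hy (h.symm hx hy) (hself y) b hb
  exact (key b (hle hb) (hxb.symm hx (hle hb)) (hyb.symm hy (hle hb)) a ha).symm (hle hb) (hle ha)

/-- Orders in a product with a normalised subgroup. -/
lemma not_dvd_card_sup {p : ℕ} [hp : Fact p.Prime] {M D : Subgroup G}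
    (hD : D ≤ normalizer (M : Set G)) (hM : ¬ p ∣ Nat.card M) (hD' : ¬ p ∣ Nat.card D) :
    ¬ p ∣ Nat.card ↥(M ⊔ D) := by
  intro hd
  obtain ⟨g, hg⟩ := exists_prime_orderOf_dvd_card' p hd
  have hmem : (g : G) ∈ ((M ⊔ D : Subgroup G) : Set G) := g.2
  rw [coe_mul_of_right_le_normalizer_left M D hD] at hmem
  obtain ⟨m, hm, a, ha, he⟩ := hmem
  have key : ∀ j : ℕ, (m * a) ^ j * (a ^ j)⁻¹ ∈ M := by
    intro j
    induction j with
    | zero => simp
    | succ j ih =>
      have h1 := conj_mem_of_normalizes (hD (pow_mem ha j)) ⟨m, hm⟩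
      have := mul_mem ih h1
      rw [pow_succ, pow_succ]
      simpa [mul_assoc] using this
  have h1 : (g : G) ^ Nat.card D ∈ M := by
    have := key (Nat.card D)
    rw [show m * a = (g : G) from he,
      show a ^ Nat.card D = 1 from congrArg Subtype.val (pow_card_eq_one' (x := (⟨a, ha⟩ : D))),
      inv_one, mul_one] at this
    exact this
  have h2 : (g : G) ^ (Nat.card D * Nat.card M) = 1 := by
    rw [pow_mul]
    exact congrArg Subtype.val (pow_card_eq_one' (x := (⟨_, h1⟩ : M)))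
  have h3 := orderOf_dvd_of_pow_eq_one h2
  rw [orderOf_coe, hg] at h3
  rcases hp.out.dvd_mul.1 h3 with h | h
  · exact hD' h
  · exact hM h

variable {p : ℕ} [Fact p.Prime] {M S C : Subgroup G} {V W : Type} [AddCommGroup V] [Module ℂ V]
  [FiniteDimensional ℂ V] [AddCommGroup W] [Module ℂ W] [FiniteDimensional ℂ W]
  {ρ : Representation ℂ M V} [ρ.IsIrreducible] {σ : Representation ℂ C W} [σ.IsIrreducible]

/-- The case of an irreducible operator section. -/
theorem agree_irred (h : Acts p M S) (hC : C = M ⊓ centralizer (S : Set G))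
    (hinv : InvBy M S ρ.character) (hg : GC p (fixed_le hC) ρ.character σ.character) {x y : G}
    (hx : x ∈ stab M ρ) (hy : y ∈ stab M ρ) (hxS : x ∈ normalizer (S : Set G))
    (hyS : y ∈ normalizer (S : Set G)) (hc : Comm C x y)
    (hp : ¬ p ∣ Nat.card (closure ({x, y} : Set G))) {S₀ : Subgroup G} (hS₀ : S₀ ≤ S)
    (hS₀ne : S₀ ≠ S) (hS₀M : S₀ ≤ centralizer (M : Set G))
    (hS₀n : ∀ s ∈ S, s ∈ normalizer (S₀ : Set G)) (hx₀ : x ∈ normalizer (S₀ : Set G))
    (hy₀ : y ∈ normalizer (S₀ : Set G)) (hab : ∀ s ∈ S, ∀ t ∈ S, s * t * s⁻¹ * t⁻¹ ∈ S₀)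
    (hmax : ∀ T : Subgroup G, S₀ ≤ T → T ≤ S → x ∈ normalizer (T : Set G) →
      y ∈ normalizer (T : Set G) → T = S₀ ∨ T = S) :
    Agree ρ σ x y := by
  classical
  set D : Subgroup G := closure {x, y} with hDd
  have hxD : x ∈ D := subset_closure (Set.mem_insert _ _)
  have hyD : y ∈ D := subset_closure (Set.mem_insert_of_mem _ rfl)
  have hDM : D ≤ stab M ρ := by
    rw [hDd, closure_le]; rintro z (rfl | rfl) <;> assumption
  have hDS : D ≤ normalizer (S : Set G) := by
    rw [hDd, closure_le]; rintro z (rfl | rfl) <;> assumption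
  have hD₀ : D ≤ normalizer (S₀ : Set G) := by
    rw [hDd, closure_le]; rintro z (rfl | rfl) <;> assumption
  have hDσ : D ≤ stab C σ := fun z hz => mem_stab_corr h hC hinv hg (hDS hz) (hDM hz)
  have hDC : ∀ a ∈ D, ∀ b ∈ D, Comm C a b := fun a ha b hb =>
    comm_closure (normalizes_fixed hC hx.1 hxS) (normalizes_fixed hC hy.1 hyS) hc ha hb
  have hCS : ∀ c ∈ C, ∀ s ∈ S, c * s = s * c := fun c hc' s hs => by
    rw [hC] at hc'
    exact (mem_centralizer_iff.1 (mem_inf.1 hc').2 s hs).symm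
  -- the section
  set N : Subgroup S := S₀.subgroupOf S with hNd
  haveI : N.Normal := ⟨fun n hn g => (mem_normalizer_iff.1 (hS₀n g g.2) _).1 hn⟩
  letI : CommGroup (S ⧸ N) :=
    { mul_comm := fun q r => by
        obtain ⟨s, rfl⟩ := QuotientGroup.mk'_surjective N q
        obtain ⟨t, rfl⟩ := QuotientGroup.mk'_surjective N r
        rw [← map_mul, ← map_mul]
        refine QuotientGroup.eq.2 ?_
        show ((s * t)⁻¹ * (t * s) : S).1 ∈ S₀
        have := hab _ (inv_mem t.2) _ (inv_mem s.2)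
        simpa [mul_assoc] using this }
  haveI : Nontrivial (S ⧸ N) := by
    rw [QuotientGroup.nontrivial_iff, hNd]
    intro htop
    exact hS₀ne (le_antisymm hS₀ fun s hs => subgroupOf_eq_top.1 htop hs)
  have hmap : ∀ a : D, N ≤ N.comap (conjEquiv S (hDS a.2)).toMonoidHom := fun a n hn =>
    (mem_normalizer_iff.1 (hD₀ a.2) _).1 hn
  let F : D → AddMonoid.End (Additive (S ⧸ N)) := fun a =>
    MonoidHom.toAdditive (QuotientGroup.map N N (conjEquiv S (hDS a.2)).toMonoidHom (hmap a))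
  have hF : ∀ (a : D) (s : S), F a (Additive.ofMul (QuotientGroup.mk' N s)) =
      Additive.ofMul (QuotientGroup.mk' N (conjEquiv S (hDS a.2) s)) := fun a s => rfl
  have hext : ∀ f f' : AddMonoid.End (Additive (S ⧸ N)),
      (∀ s : S, f (Additive.ofMul (QuotientGroup.mk' N s)) =
        f' (Additive.ofMul (QuotientGroup.mk' N s))) → f = f' := fun f f' hff =>
    AddMonoidHom.ext fun q => by
      obtain ⟨s, hs⟩ := QuotientGroup.mk'_surjective N q.toMul
      have := hff s
      rw [hs] at this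
      exact this
  let Φ : D →* AddMonoid.End (Additive (S ⧸ N)) :=
    { toFun := F
      map_one' := hext _ _ fun s => by
        rw [hF, show conjEquiv S (hDS (1 : D).2) s = s from Subtype.ext (by simp)]
        rfl
      map_mul' := fun a b => hext _ _ fun s => by
        rw [hF, show conjEquiv S (hDS (a * b).2) s =
          conjEquiv S (hDS a.2) (conjEquiv S (hDS b.2) s) from Subtype.ext (by simp [mul_assoc])]
        show _ = F a (F b _)
        rw [hF, hF] }
  have hker : ∀ k : D, Φ k = 1 → ∀ s ∈ S, s⁻¹ * (k * s * (k : G)⁻¹) ∈ S₀ := by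
    intro k hk s hs
    have := DFunLike.congr_fun hk (Additive.ofMul (QuotientGroup.mk' N ⟨s, hs⟩))
    have h2 : QuotientGroup.mk' N (⟨s, hs⟩ : S) =
        QuotientGroup.mk' N (conjEquiv S (hDS k.2) ⟨s, hs⟩) := this.symm
    have h3 := QuotientGroup.eq.1 (show ((⟨s, hs⟩ : S) : S ⧸ N) = ((conjEquiv S (hDS k.2) ⟨s, hs⟩ : S) : S ⧸ N) from h2)
    exact h3
  let A := Φ.toHomUnits.range
  let φ : A →* AddMonoid.End (Additive (S ⧸ N)) := (Units.coeHom _).comp A.subtype
  have hφ : Function.Injective φ := fun a b e => Subtype.ext (Units.ext e)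
  have hAcomm : ∀ a b : A, a * b = b * a := by
    rintro ⟨_, a, rfl⟩ ⟨_, b, rfl⟩
    refine hφ ?_
    show Φ a * Φ b = Φ b * Φ a
    rw [← map_mul, ← map_mul]
    refine hext _ _ fun s => ?_
    show F (a * b) _ = F (b * a) _
    rw [hF, hF]
    congr 2
    apply Subtype.ext
    have hba := hCS _ (hDC _ a.2 _ b.2) (s : G) s.2
    simp only [coe_conjEquiv, Subgroup.coe_mul]
    have e1 : (b : G) * a = a * ((a : G)⁻¹ * (b * a * (b : G)⁻¹)) * b := by group
    rw [e1]
    set d : G := (a : G)⁻¹ * (b * a * (b : G)⁻¹) with hd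
    have hbs : (b : G) * s * (b : G)⁻¹ ∈ S := conj_mem_of_normalizes (hDS b.2) s
    have hd2 := hCS d (hDC _ a.2 _ b.2) _ hbs
    calc (a : G) * b * s * ((a : G) * b)⁻¹ = a * ((b : G) * s * (b : G)⁻¹) * (a : G)⁻¹ := by group
      _ = a * (d * ((b : G) * s * (b : G)⁻¹) * d⁻¹) * (a : G)⁻¹ := by rw [hd2, mul_inv_cancel_right]
      _ = a * d * b * s * (a * d * b)⁻¹ := by group
  have hirr : Cfsg.Lib.Chars.OneNonvanishing.IrredOn (Set.range φ) := by
    intro L hL
    let T : Subgroup G := ((AddSubgroup.toSubgroup' L).comap (QuotientGroup.mk' N)).map S.subtype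
    have hT0 : S₀ ≤ T := fun s hs => ⟨⟨s, hS₀ hs⟩, by
      show Additive.ofMul (QuotientGroup.mk' N ⟨s, hS₀ hs⟩) ∈ L
      rw [show QuotientGroup.mk' N (⟨s, hS₀ hs⟩ : S) = 1 from (QuotientGroup.eq_one_iff _).2 hs]
      exact L.zero_mem, rfl⟩
    have hTS : T ≤ S := map_subtype_le _
    have hTn : ∀ z : D, (z : G) ∈ normalizer (T : Set G) := fun z => mem_normalizer_fintype fun g hg => by
      obtain ⟨s, hs, rfl⟩ := hg
      exact ⟨conjEquiv S (hDS z.2) s, hL _ ⟨⟨_, z, rfl⟩, rfl⟩ _ hs, rfl⟩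
    rcases hmax T hT0 hTS (hTn ⟨x, hxD⟩) (hTn ⟨y, hyD⟩) with e | e
    · refine Or.inl (AddSubgroup.eq_bot_iff_forall _ |>.2 fun q hq => ?_)
      obtain ⟨s, hs⟩ := QuotientGroup.mk'_surjective N q.toMul
      have hmem : (s : G) ∈ T := ⟨s, by
        show Additive.ofMul (QuotientGroup.mk' N s) ∈ L
        rw [hs]; exact hq, rfl⟩
      rw [e] at hmem
      rw [← ofMul_toMul q, ← hs, show QuotientGroup.mk' N s = 1 from (QuotientGroup.eq_one_iff _).2 hmem]
      rfl
    · refine Or.inr (top_le_iff.1 fun q _ => ?_)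
      obtain ⟨s, hs⟩ := QuotientGroup.mk'_surjective N q.toMul
      obtain ⟨s', hs', he⟩ : (s : G) ∈ T := by rw [e]; exact s.2
      rw [← ofMul_toMul q, ← hs, ← show s' = s from Subtype.ext he]
      exact hs'
  have hcyc := Cfsg.Lib.Chars.OneNonvanishing.isCyclic_of_irred φ hφ hAcomm hirr
  obtain ⟨⟨_, g, rfl⟩, hgen⟩ := hcyc.exists_monoid_generator
  have hdec : ∀ a : D, ∃ (k : D) (i : ℕ), Φ k = 1 ∧ a = k * g ^ i := fun a => by
    obtain ⟨i, hi⟩ := hgen ⟨_, a, rfl⟩
    refine ⟨a * (g ^ i)⁻¹, i, ?_, (inv_mul_cancel_right _ _).symm⟩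
    have h1 : Φ.toHomUnits g ^ i = Φ.toHomUnits a := congrArg Subtype.val hi
    show ((Φ.toHomUnits (a * (g ^ i)⁻¹) : (AddMonoid.End (Additive (S ⧸ N)))ˣ) :
      AddMonoid.End (Additive (S ⧸ N))) = 1
    rw [map_mul, map_inv, map_pow, h1, mul_inv_cancel, Units.val_one]
  -- elements acting trivially on the section
  have hK : ∀ k : D, Φ k = 1 → ∀ b ∈ D, Agree ρ σ (k : G) b := by
    intro k hk b hb
    let S₂ : Subgroup G := S ⊓ centralizer {(k : G)}
    have hfix : C = M ⊓ centralizer (S₂ : Set G) := by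
      refine le_antisymm ?_ ?_
      · rw [hC]; exact inf_le_inf_left _ (centralizer_le inf_le_left)
      · intro z hz
        rw [mem_inf] at hz
        rw [hC, mem_inf]
        refine ⟨hz.1, mem_centralizer_iff.2 fun s hs => ?_⟩
        have hzp : ∀ a ∈ zpowers (k : G), s⁻¹ * a * s * a⁻¹ ∈ S₀ := fun a ha => by
          obtain ⟨i, rfl⟩ := mem_zpowers_iff.1 ha
          have hki : Φ (k ^ i) = 1 := by
            rw [show Φ (k ^ i) = ((Φ.toHomUnits (k ^ i) : (AddMonoid.End (Additive (S ⧸ N)))ˣ) :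
              AddMonoid.End (Additive (S ⧸ N))) from rfl, map_zpow,
              show Φ.toHomUnits k = 1 from Units.ext hk, one_zpow, Units.val_one]
          have := hker (k ^ i) hki s hs
          simpa [mul_assoc] using this
        obtain ⟨d, hd, hsd⟩ := Cfsg.Lib.Coprime.exists_fixed_in_coset
          (A := zpowers (k : G)) (D := S₀) (zpowers_le.2 (hD₀ k.2))
          (by
            obtain ⟨e, he⟩ := IsPGroup.iff_card.1 (h.pS.to_le hS₀)
            rw [he]
            refine Nat.Coprime.pow_right e ((Fact.out : p.Prime).coprime_iff_not_dvd.2 ?_).symm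
            exact fun hd' => hp (hd'.trans (card_dvd_of_le (zpowers_le.2 k.2))))
          (Or.inl inferInstance) hzp
        have h2 : s * d ∈ S₂ := mem_inf.2 ⟨mul_mem hs (hS₀ hd),
          mem_centralizer_singleton_iff.2
            (mem_centralizer_iff.1 hsd (k : G) (mem_zpowers _)).symm⟩
        have hz2 := mem_centralizer_iff.1 hz.2 _ h2
        have hzd := mem_centralizer_iff.1 (hS₀M hd) z hz.1
        have hd' : d⁻¹ * z = z * d⁻¹ := by
          rw [inv_mul_eq_iff_eq_mul, ← mul_assoc, ← hzd, mul_inv_cancel_right]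
        calc s * z = (s * d) * (d⁻¹ * z) := by group
          _ = (s * d) * z * d⁻¹ := by rw [hd']; group
          _ = z * s := by rw [hz2]; group
    refine agree_of_centralizes (h.mono inf_le_left) hfix (fun s hs => hinv s (mem_inf.1 hs).1) hg
      (mem_centralizer_iff.2 fun s hs => mem_centralizer_singleton_iff.1 (mem_inf.1 hs).2) ?_
      (hDM k.2) (hDM hb) (hDC _ k.2 _ hb) ?_
    · refine mem_normalizer_fintype fun s hs => mem_inf.2 ⟨conj_mem_of_normalizes (hDS hb)
        ⟨s, (mem_inf.1 hs).1⟩, mem_centralizer_singleton_iff.2 ?_⟩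
      have hsk := mem_centralizer_singleton_iff.1 (mem_inf.1 hs).2
      have hc' := hCS _ (hDC _ k.2 _ (inv_mem hb)) s (mem_inf.1 hs).1
      set c : G := (k : G)⁻¹ * (b⁻¹ * k * b⁻¹⁻¹) with hcd
      have hk' : (k : G) = b * k * c * b⁻¹ := by simp [hcd, mul_assoc]
      calc b * s * b⁻¹ * k = b * s * b⁻¹ * (b * k * c * b⁻¹) := by rw [← hk']
        _ = b * (s * k) * c * b⁻¹ := by group
        _ = b * k * (c * s) * b⁻¹ := by rw [hsk, hc']; group
        _ = b * k * c * b⁻¹ * (b * s * b⁻¹) := by group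
        _ = k * (b * s * b⁻¹) := by rw [← hk']
    · exact not_dvd_card_sup (zpowers_le.2 (hDM k.2).1) h.pM
        fun hd' => hp (hd'.trans (card_dvd_of_le (zpowers_le.2 k.2)))
  -- conclusion
  have hg1 : ∀ b : D, Agree ρ σ (g : G) b := fun b => by
    obtain ⟨k, i, hk, rfl⟩ := hdec b
    rw [Subgroup.coe_mul, SubgroupClass.coe_pow]
    exact ((hK k hk g g.2).symm (hDM k.2) (hDM g.2) (hDσ k.2) (hDσ g.2)).mul_right
      ((agree_self (hDM g.2) (hDσ g.2)).pow_right (hDM g.2) (hDM g.2) (hDσ g.2) (hDσ g.2) i)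
      (hDM g.2) (hDM k.2) (pow_mem (hDM g.2) i) (hDσ g.2) (hDσ k.2) (pow_mem (hDσ g.2) i)
  obtain ⟨k, i, hk, e⟩ := hdec ⟨y, hyD⟩
  have e' : y = (k : G) * (g : G) ^ i := congrArg Subtype.val e
  rw [e']
  exact ((hK k hk x hxD).symm (hDM k.2) hx (hDσ k.2) (hDσ hxD)).mul_right
    (((hg1 ⟨x, hxD⟩).symm (hDM g.2) hx (hDσ g.2) (hDσ hxD)).pow_right hx (hDM g.2) (hDσ hxD)
      (hDσ g.2) i)
    hx (hDM k.2) (pow_mem (hDM g.2) i) (hDσ hxD) (hDσ k.2) (pow_mem (hDσ g.2) i)

/-- The pairings of Glauberman correspondents coincide. -/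
theorem agree_of_gc (h : Acts p M S) (hC : C = M ⊓ centralizer (S : Set G))
    (hinv : InvBy M S ρ.character) (hg : GC p (fixed_le hC) ρ.character σ.character) {x y : G}
    (hx : x ∈ stab M ρ) (hy : y ∈ stab M ρ) (hxS : x ∈ normalizer (S : Set G))
    (hyS : y ∈ normalizer (S : Set G)) (hc : Comm C x y)
    (hp : ¬ p ∣ Nat.card (closure ({x, y} : Set G))) : Agree ρ σ x y := by
  suffices key : ∀ (n : ℕ) (S C : Subgroup G) (W : Type) [AddCommGroup W] [Module ℂ W]
      [FiniteDimensional ℂ W] (σ : Representation ℂ C W) [σ.IsIrreducible],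
      Nat.card S = n → Acts p M S → (hC : C = M ⊓ centralizer (S : Set G)) →
      InvBy M S ρ.character → GC p (fixed_le hC) ρ.character σ.character →
      x ∈ normalizer (S : Set G) → y ∈ normalizer (S : Set G) → Comm C x y → Agree ρ σ x y from
    key _ S C W σ rfl h hC hinv hg hxS hyS hc
  intro n
  induction n using Nat.strong_induction_on with
  | _ n ih =>
    intro S C W _ _ _ σ _ hn h hC hinv hg hxS hyS hc
    by_cases hxc : x ∈ centralizer (S : Set G)
    · exact agree_of_centralizes h hC hinv hg hxc hyS hx hy hc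
        (not_dvd_card_sup (zpowers_le.2 hx.1) h.pM fun hd => hp (hd.trans
          (card_dvd_of_le (zpowers_le.2 (subset_closure (Set.mem_insert _ _))))))
    have hSne : S ≠ ⊥ := fun e => hxc (mem_centralizer_iff.2 fun s hs => by
      rw [e] at hs
      rw [show s = 1 from hs, one_mul, mul_one])
    -- a maximal invariant normal subgroup
    let P : Set (Subgroup G) := {T | T < S ∧ (∀ s ∈ S, s ∈ normalizer (T : Set G)) ∧
      x ∈ normalizer (T : Set G) ∧ y ∈ normalizer (T : Set G)}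
    have hbot : ⊥ ∈ P := ⟨bot_lt_iff_ne_bot.2 hSne,
      fun s _ => by rw [normalizer_eq_top]; exact mem_top _,
      by rw [normalizer_eq_top]; exact mem_top _, by rw [normalizer_eq_top]; exact mem_top _⟩
    obtain ⟨S₀, hS₀max⟩ := (Set.toFinite P).exists_maximal ⟨⊥, hbot⟩
    obtain ⟨hS₀, hS₀n, hx₀, hy₀⟩ := hS₀max.prop
    have hab : ∀ s ∈ S, ∀ t ∈ S, s * t * s⁻¹ * t⁻¹ ∈ S₀ := by
      let N : Subgroup S := S₀.subgroupOf S
      haveI : N.Normal := ⟨fun n hn g => (mem_normalizer_iff.1 (hS₀n g g.2) _).1 hn⟩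
      let S₁ : Subgroup G := (N ⊔ commutator S).map S.subtype
      have hS₁S : S₁ ≤ S := map_subtype_le _
      have hS₀S₁ : S₀ ≤ S₁ := fun s hs => ⟨⟨s, hS₀.le hs⟩, mem_sup_left hs, rfl⟩
      have hcj : ∀ a (ha : a ∈ normalizer (S : Set G)), a ∈ normalizer (S₀ : Set G) →
          a ∈ normalizer (S₁ : Set G) := fun a ha ha₀ => by
        have hle : N ⊔ commutator S ≤ (N ⊔ commutator S).comap (conjEquiv S ha).toMonoidHom := by
          refine sup_le (fun z hz => mem_sup_left ((mem_normalizer_iff.1 ha₀ _).1 hz)) ?_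
          rw [← map_le_iff_le_comap, _root_.commutator_def, Subgroup.map_commutator]
          exact le_sup_of_le_right (commutator_mono le_top le_top)
        exact mem_normalizer_fintype fun z hz => by
          obtain ⟨w, hw, rfl⟩ := hz
          exact ⟨conjEquiv S ha w, hle hw, rfl⟩
      have hne : S₁ ≠ S := by
        intro e
        have htop : N ⊔ commutator S = ⊤ := map_injective S.subtype_injective (by
          show S₁ = _
          rw [e, ← MonoidHom.range_eq_map, S.range_subtype])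
        haveI : Nontrivial (S ⧸ N) := by
          rw [QuotientGroup.nontrivial_iff]
          intro ht
          exact hS₀.not_ge fun s hs => subgroupOf_eq_top.1 ht hs
        haveI : Group.IsNilpotent (S ⧸ N) := (h.pS.to_quotient N).isNilpotent
        have hq : commutator (S ⧸ N) = ⊤ := by
          have h1 := congrArg (Subgroup.map (QuotientGroup.mk' N)) htop
          rw [Subgroup.map_sup, QuotientGroup.map_mk'_self, bot_sup_eq, _root_.commutator_def,
            Subgroup.map_commutator, map_top_of_surjective (QuotientGroup.mk' N)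
              (QuotientGroup.mk'_surjective N), ← _root_.commutator_def] at h1
          exact h1
        exact (Group.IsSolvable.commutator_lt_top_of_nontrivial (S ⧸ N)).ne hq
      have hS₁P : S₁ ∈ P := ⟨lt_of_le_of_ne hS₁S hne,
        fun s hs => hcj s (le_normalizer hs) (hS₀n s hs), hcj x hxS hx₀, hcj y hyS hy₀⟩
      have heq : S₁ = S₀ := le_antisymm (hS₀max.le_of_ge hS₁P hS₀S₁) hS₀S₁
      intro s hs t ht
      rw [← heq]
      refine ⟨⟨s, hs⟩ * ⟨t, ht⟩ * ⟨s, hs⟩⁻¹ * ⟨t, ht⟩⁻¹, mem_sup_right ?_, rfl⟩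
      rw [_root_.commutator_def, ← commutatorElement_def]
      exact commutator_mem_commutator (mem_top _) (mem_top _)
    -- first step
    obtain ⟨C₁, hC₁⟩ : ∃ C₁, C₁ = M ⊓ centralizer (S₀ : Set G) := ⟨_, rfl⟩
    have hinv₀ : InvBy M S₀ ρ.character := fun s hs => hinv s (hS₀.le hs)
    obtain ⟨θ₁, hθ₁, hg₁⟩ := exists_gc (h.mono hS₀.le) hC₁ (isIrrCharacter_character ρ) hinv₀
    obtain ⟨m, τ, hτ, rfl⟩ := hθ₁
    haveI := hτ
    have hCC₁ : C ≤ C₁ := by
      rw [hC, hC₁]
      exact inf_le_inf_left _ (centralizer_le hS₀.le)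
    have hstep1 : Agree ρ τ x y := ih _ (hn ▸ Set.Finite.card_lt_card (Set.toFinite _) hS₀) S₀ C₁ _ τ rfl
      (h.mono hS₀.le) hC₁ hinv₀ hg₁ hx₀ hy₀ (hCC₁ hc)
    have hxτ := mem_stab_corr (h.mono hS₀.le) hC₁ hinv₀ hg₁ hx₀ hx
    have hyτ := mem_stab_corr (h.mono hS₀.le) hC₁ hinv₀ hg₁ hy₀ hy
    -- second step
    have hSC₁ : S ≤ normalizer (C₁ : Set G) := fun s hs =>
      normalizes_fixed hC₁ (h.norm hs) (hS₀n s hs)
    have h₁ : Acts p C₁ S := ⟨h.pS, hSC₁, fun hd => h.pM (hd.trans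
      (card_dvd_of_le (fixed_le hC₁)))⟩
    have hC' : C = C₁ ⊓ centralizer (S : Set G) := by
      refine le_antisymm (le_inf hCC₁ (hC ▸ inf_le_right)) ?_
      rw [hC]
      exact inf_le_inf_right _ (fixed_le hC₁)
    have hinv₁ : InvBy C₁ S τ.character := fun s hs g g' hg' =>
      character_eq_of_mem_stab (mem_stab_corr (h.mono hS₀.le) hC₁ hinv₀ hg₁ (hS₀n s hs)
        (mem_stab_of_character (h.norm hs) fun a a' ha => hinv s hs a a' ha)) hg'
    have hgτ : GC p (fixed_le hC') τ.character σ.character :=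
      gc_trans h hC hS₀.le hC₁ (isIrrCharacter_character ρ) hinv (isIrrCharacter_character σ) hg
        (isIrrCharacter_character τ) hg₁ hCC₁
    have hS₀c : S₀ ≤ centralizer (C₁ : Set G) := fun s hs => mem_centralizer_iff.2 fun c hc' => by
      have hc'' : c ∈ M ⊓ centralizer (S₀ : Set G) := hC₁ ▸ hc'
      exact (mem_centralizer_iff.1 (mem_inf.1 hc'').2 s hs).symm
    refine hstep1.trans (agree_irred h₁ hC' hinv₁ hgτ hxτ hyτ hxS hyS hc hp hS₀.le hS₀.ne hS₀c
      hS₀n hx₀ hy₀ hab fun T hT hTS hxT hyT => ?_) hxτ hyτ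
    by_cases hTeq : T = S
    · exact Or.inr hTeq
    refine Or.inl (le_antisymm (hS₀max.le_of_ge ⟨lt_of_le_of_ne hTS hTeq, fun s hs => ?_, hxT, hyT⟩
      hT) hT)
    refine mem_normalizer_fintype fun t ht => ?_
    have := mul_mem (hT (hab s hs t (hTS ht))) ht
    rwa [inv_mul_cancel_right] at this

end Cfsg.Lib.RelMcKay
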