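import Mathlib
import Cfsg.Agent.Chars.DegreeTools
import Cfsg.Agent.Chars.RelMcKay.Corr

/-!
# Characters of subgroups lying over characters of normalised subgroups

Everything is phrased with subgroups of a fixed ambient group.
-/

set_option autoImplicit false
set_option linter.unusedSectionVars false

namespace Cfsg.Lib.RelMcKay

open Cfsg Cfsg.Lib.Chars Subgroup
open scoped ComplexConjugate

universe u

attribute [local instance high] Fintype.ofFinite

variable {G : Type u} [Group G] [Finite G]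

/-- `χ` lies over `θ`. -/
def Over (M H : Subgroup G) (χ : H → ℂ) (θ : M → ℂ) : Prop :=
  ∃ h : M ≤ H, classInner (fun m : M => χ (inclusion h m)) θ ≠ 0

/-- `θ'` is conjugate to `θ` under `K`. -/
def ConjBy (M K : Subgroup G) (θ θ' : M → ℂ) : Prop :=
  ∃ g ∈ K, IsConjCharOf M g θ θ'

variable {M L H K S : Subgroup G}

lemma isConjCharOf_one (θ : M → ℂ) : IsConjCharOf M 1 θ θ :=
  fun k k' h => by rw [show k' = k from Subtype.ext (by simpa using h)]

lemma isConjCharOf_inv {g : G} (hg : g ∈ normalizer (M : Set G)) {θ θ' : M → ℂ}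
    (h : IsConjCharOf M g θ θ') : IsConjCharOf M g⁻¹ θ' θ :=
  fun k k' hk => (h k' k (by rw [hk]; group)).symm

lemma isConjCharOf_mul {g g' : G} (hg : g ∈ normalizer (M : Set G)) {θ θ' θ'' : M → ℂ}
    (h : IsConjCharOf M g θ θ') (h' : IsConjCharOf M g' θ' θ'') :
    IsConjCharOf M (g' * g) θ θ'' := fun k k' hk => by
  rw [h' (conjEquiv M hg k) k' (by simp [hk, mul_assoc]), h k (conjEquiv M hg k) rfl]

/-- The conjugate written as a composition. -/
lemma isConjCharOf_iff {g : G} (hg : g ∈ normalizer (M : Set G)) {θ θ' : M → ℂ} :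
    IsConjCharOf M g θ θ' ↔ θ = fun k => θ' (conjEquiv M hg k) := by
  refine ⟨fun h => funext fun k => (h k (conjEquiv M hg k) rfl).symm, fun h k k' hk => ?_⟩
  rw [h, show k' = conjEquiv M hg k from Subtype.ext hk]

lemma isConjCharOf_unique {g : G} (hg : g ∈ normalizer (M : Set G)) {θ θ' θ'' : M → ℂ}
    (h : IsConjCharOf M g θ θ') (h' : IsConjCharOf M g θ θ'') : θ' = θ'' := by
  funext k
  obtain ⟨k₀, rfl⟩ := (conjEquiv M hg).surjective k
  rw [h k₀ _ rfl, h' k₀ _ rfl]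

lemma isConjCharOf_mem {θ : M → ℂ} (hθ : IsClassFunction M θ) {g : G} (hg : g ∈ M) :
    IsConjCharOf M g θ θ := fun k k' hk => by
  rw [show k' = (⟨g, hg⟩ : M) * k * (⟨g, hg⟩ : M)⁻¹ from Subtype.ext hk]
  exact hθ k ⟨g, hg⟩

lemma invBy_self {θ : M → ℂ} (hθ : IsClassFunction M θ) : InvBy M M θ :=
  fun _ hs => isConjCharOf_mem hθ hs

lemma invBy_mono {θ : M → ℂ} (h : InvBy M K θ) (hSK : S ≤ K) : InvBy M S θ :=
  fun s hs => h s (hSK hs)

variable (M H) in
/-- The elements of `H` fixing `θ`. -/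
def stabF (hH : H ≤ normalizer (M : Set G)) (θ : M → ℂ) : Subgroup G where
  carrier := {g | g ∈ H ∧ IsConjCharOf M g θ θ}
  one_mem' := ⟨one_mem H, isConjCharOf_one θ⟩
  mul_mem' := fun ⟨ha, ha'⟩ ⟨hb, hb'⟩ => ⟨mul_mem ha hb, isConjCharOf_mul (hH hb) hb' ha'⟩
  inv_mem' := fun ⟨ha, ha'⟩ => ⟨inv_mem ha, isConjCharOf_inv (hH ha) ha'⟩

lemma mem_stabF {hH : H ≤ normalizer (M : Set G)} {θ : M → ℂ} {g : G} :
    g ∈ stabF M H hH θ ↔ g ∈ H ∧ IsConjCharOf M g θ θ := Iff.rfl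

lemma stabF_le {hH : H ≤ normalizer (M : Set G)} {θ : M → ℂ} : stabF M H hH θ ≤ H :=
  fun _ h => h.1

lemma le_stabF {hH : H ≤ normalizer (M : Set G)} {θ : M → ℂ} (hSH : S ≤ H) (h : InvBy M S θ) :
    S ≤ stabF M H hH θ := fun s hs => ⟨hSH hs, h s hs⟩

lemma invBy_sup {θ : M → ℂ} (hK : K ≤ normalizer (M : Set G))
    (hS : S ≤ normalizer (M : Set G)) (h1 : InvBy M K θ) (h2 : InvBy M S θ) :
    InvBy M (K ⊔ S) θ := by
  intro g hg
  have : K ⊔ S ≤ stabF M _ le_rfl θ :=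
    sup_le (le_stabF hK h1) (le_stabF hS h2)
  exact (this hg).2

/-! ### Transfer to the subgroup type -/

/-- The function on `M.subgroupOf H`. -/
noncomputable def pull (hMH : M ≤ H) (θ : M → ℂ) : M.subgroupOf H → ℂ :=
  fun x => θ (subgroupOfEquivOfLe hMH x)

lemma pull_irr (hMH : M ≤ H) {θ : M → ℂ} (hθ : IsIrrCharacter M θ) :
    IsIrrCharacter _ (pull hMH θ) := IsIrrCharacter.comp_mulEquiv hθ _

lemma pull_injective (hMH : M ≤ H) {θ θ' : M → ℂ} (h : pull hMH θ = pull hMH θ') : θ = θ' :=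
  funext fun m => by simpa [pull] using congrFun h ((subgroupOfEquivOfLe hMH).symm m)

lemma over_iff (hMH : M ≤ H) {χ : H → ℂ} {θ : M → ℂ} :
    Over M H χ θ ↔ classInner (fun x : M.subgroupOf H => χ x) (pull hMH θ) ≠ 0 := by
  have : classInner (fun m : M => χ (inclusion hMH m)) θ =
      classInner (fun x : M.subgroupOf H => χ x) (pull hMH θ) := by
    rw [← classInner_comp_equiv (subgroupOfEquivOfLe hMH).toEquiv]
    rfl
  rw [← this]
  exact ⟨fun ⟨_, h⟩ => h, fun h => ⟨hMH, h⟩⟩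

lemma normal_subgroupOf' (hH : H ≤ normalizer (M : Set G)) : (M.subgroupOf H).Normal :=
  ⟨fun n hn g => conj_mem_of_normalizes (hH g.2) ⟨_, hn⟩⟩

lemma conjN_pull (hMH : M ≤ H) [(M.subgroupOf H).Normal] {θ θ' : M → ℂ} (g : H) :
    conjN (M.subgroupOf H) g (pull hMH θ') = pull hMH θ ↔ IsConjCharOf M (g : G) θ θ' := by
  constructor
  · intro h k k' hk
    have := congrFun h ((subgroupOfEquivOfLe hMH).symm k)
    simp only [conjN, pull, MulEquiv.apply_symm_apply] at this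
    rw [← this]
    congr 1
    apply Subtype.ext
    rw [hk]
    rfl
  · intro h
    funext x
    exact h _ _ rfl

/-- Constituents exist. -/
lemma exists_over_below (hMH : M ≤ H) (hH : H ≤ normalizer (M : Set G)) {χ : H → ℂ}
    (hχ : IsIrrCharacter H χ) : ∃ θ : M → ℂ, IsIrrCharacter M θ ∧ Over M H χ θ := by
  haveI := normal_subgroupOf' hH
  obtain ⟨θ, hθ, hc⟩ := exists_constituent (M.subgroupOf H) (isCharacter_of_irr hχ)
    (IsIrrCharacter.apply_one_ne_zero hχ)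
  refine ⟨fun m => θ ((subgroupOfEquivOfLe hMH).symm m),
    IsIrrCharacter.comp_mulEquiv hθ _, (over_iff hMH).2 ?_⟩
  rwa [show pull hMH (fun m => θ ((subgroupOfEquivOfLe hMH).symm m)) = θ from
    funext fun x => by simp [pull]]

lemma Over.conj (hH : H ≤ normalizer (M : Set G)) {χ : H → ℂ} (hχ : IsClassFunction H χ)
    {θ θ' : M → ℂ} (h : Over M H χ θ) {g : G} (hg : g ∈ H) (hc : IsConjCharOf M g θ θ') :
    Over M H χ θ' := by
  obtain ⟨hMH, h⟩ := h
  refine ⟨hMH, ?_⟩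
  rw [(isConjCharOf_iff (hH hg)).1 hc] at h
  rwa [← classInner_comp_equiv (conjEquiv M (hH hg)).toEquiv,
    show (fun x : M => χ (inclusion hMH ((conjEquiv M (hH hg)).toEquiv x))) =
      fun x : M => χ (inclusion hMH x) from funext fun x => by
        rw [show inclusion hMH ((conjEquiv M (hH hg)).toEquiv x) =
          (⟨g, hg⟩ : H) * inclusion hMH x * (⟨g, hg⟩ : H)⁻¹ from Subtype.ext rfl]
        exact hχ _ _]

/-- Constituents are conjugate. -/
lemma conjBy_of_over (hH : H ≤ normalizer (M : Set G)) {χ : H → ℂ} (hχ : IsIrrCharacter H χ)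
    {θ θ' : M → ℂ} (hθ : IsIrrCharacter M θ) (hθ' : IsIrrCharacter M θ') (h : Over M H χ θ)
    (h' : Over M H χ θ') : ConjBy M H θ θ' := by
  haveI := normal_subgroupOf' hH
  obtain ⟨hMH, -⟩ := id h
  obtain ⟨g, hg⟩ := exists_conjN_of_constituents (M.subgroupOf H) hχ (pull_irr hMH hθ')
    (pull_irr hMH hθ) ((over_iff hMH).1 h') ((over_iff hMH).1 h)
  exact ⟨g, g.2, (conjN_pull hMH g).1 hg.symm⟩

/-- The degree of a constituent divides the degree. -/
lemma deg_dvd_of_over (hH : H ≤ normalizer (M : Set G)) {χ : H → ℂ} (hχ : IsIrrCharacter H χ)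
    {θ : M → ℂ} (hθ : IsIrrCharacter M θ) (h : Over M H χ θ) :
    ∃ e : ℕ, deg χ = e * deg θ ∧ e ∣ M.relIndex H := by
  haveI := normal_subgroupOf' hH
  obtain ⟨hMH, -⟩ := id h
  obtain ⟨e, he, he'⟩ := deg_over (M.subgroupOf H) hχ (pull_irr hMH hθ) ((over_iff hMH).1 h)
  refine ⟨e, ?_, he'⟩
  rw [he]
  congr 1

lemma not_dvd_deg_of_over {p : ℕ} (hH : H ≤ normalizer (M : Set G)) {χ : H → ℂ}
    (hχ : IsIrrCharacter H χ) {θ : M → ℂ} (hθ : IsIrrCharacter M θ) (h : Over M H χ θ)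
    (hp : ¬ p ∣ deg χ) : ¬ p ∣ deg θ := by
  obtain ⟨e, he, -⟩ := deg_dvd_of_over hH hχ hθ h
  exact fun hd => hp (he ▸ hd.mul_left e)

lemma not_dvd_deg_of_under {p : ℕ} [Fact p.Prime] (hH : H ≤ normalizer (M : Set G))
    {χ : H → ℂ} (hχ : IsIrrCharacter H χ) {θ : M → ℂ} (hθ : IsIrrCharacter M θ)
    (h : Over M H χ θ) (hi : ¬ p ∣ M.relIndex H) (hp : ¬ p ∣ deg θ) : ¬ p ∣ deg χ := by
  obtain ⟨e, he, he'⟩ := deg_dvd_of_over hH hχ hθ h
  rw [he]
  exact fun hd => ((Fact.out : p.Prime).dvd_mul.1 hd).elim (fun h => hi (h.trans he')) hp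

/-- The number of constituents divides the degree. -/
lemma card_constituents_dvd (hH : H ≤ normalizer (M : Set G)) {χ : H → ℂ}
    (hχ : IsIrrCharacter H χ) {θ : M → ℂ} (hθ : IsIrrCharacter M θ) (h : Over M H χ θ) :
    Nat.card {θ' : IrrCharacter M // Over M H χ (θ' : M → ℂ)} ∣ deg χ := by
  classical
  haveI := normal_subgroupOf' hH
  obtain ⟨hMH, -⟩ := id h
  set N := M.subgroupOf H
  have hc := (over_iff hMH).1 h
  have hθ₀ := pull_irr hMH hθ
  have hcard : Nat.card {θ' : IrrCharacter M // Over M H χ (θ' : M → ℂ)} =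
      (conjOrbit N (pull hMH θ)).card := by
    have hmem : ∀ θ' : {θ' : IrrCharacter M // Over M H χ (θ' : M → ℂ)},
        pull hMH (θ'.1 : M → ℂ) ∈ conjOrbit N (pull hMH θ) := fun θ' => by
      obtain ⟨g, hg, hc'⟩ := conjBy_of_over hH hχ θ'.1.2 hθ θ'.2 h
      exact (mem_conjOrbit N).2 ⟨⟨g, hg⟩, (conjN_pull hMH _).2 hc'⟩
    rw [← Fintype.card_coe, ← Nat.card_eq_fintype_card]
    refine Nat.card_congr (Equiv.ofBijective (fun θ' => ⟨_, hmem θ'⟩) ⟨fun a b hab => ?_, fun φ => ?_⟩)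
    · exact Subtype.ext (Subtype.ext (pull_injective hMH (congrArg Subtype.val hab)))
    · obtain ⟨g, hg⟩ := (mem_conjOrbit N).1 φ.2
      let θ' : M → ℂ := fun m => θ (conjEquiv M (hH g.2) m)
      refine ⟨⟨⟨θ', IsIrrCharacter.comp_mulEquiv hθ _⟩,
        h.conj hH (isClassFunction_isChar (isCharacter_of_irr hχ)) (inv_mem g.2)
          (isConjCharOf_inv (hH g.2) ((isConjCharOf_iff (hH g.2)).2 rfl))⟩, Subtype.ext ?_⟩
      rw [← hg]
      exact ((conjN_pull hMH g).2 ((isConjCharOf_iff (hH g.2)).2 rfl)).symm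
  obtain ⟨k, hk⟩ := IsCharacter.exists_mult (IsCharacter.restrict (isCharacter_of_irr hχ) N) hθ₀
  have h1 := congrFun (clifford N hχ hθ₀ hc) 1
  simp only [OneMemClass.coe_one, Pi.smul_apply, Finset.sum_apply, smul_eq_mul] at h1
  rw [Finset.sum_congr rfl (g := fun _ => (deg θ : ℂ)) fun φ hφ => by
    obtain ⟨g, rfl⟩ := (mem_conjOrbit N).1 hφ
    rw [← IsCharacter.apply_one_eq_deg (isCharacter_of_irr hθ)]
    simp [conjN, pull]
    rfl, Finset.sum_const, nsmul_eq_mul, hk,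
    IsCharacter.apply_one_eq_deg (isCharacter_of_irr hχ)] at h1
  rw [hcard, show deg χ = k * ((conjOrbit N (pull hMH θ)).card * deg θ) by exact_mod_cast h1]
  exact Dvd.dvd.mul_left (dvd_mul_right _ _) k

/-- Lying over is transitive. -/
lemma Over.trans {χ : H → ℂ} (hχ : IsCharacter H χ) {θ : M → ℂ} (hθ : IsIrrCharacter M θ)
    {ν : L → ℂ} (hν : IsIrrCharacter L ν) (h : Over M H χ θ) (h' : Over L M θ ν) :
    Over L H χ ν := by
  obtain ⟨hMH, h⟩ := h
  obtain ⟨hLM, h'⟩ := h'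
  refine ⟨hLM.trans hMH, ?_⟩
  exact classInner_pullback_ne_zero (inclusion hLM) (IsCharacter.comp_hom hχ (inclusion hMH)) hθ h hν h'

/-- A constituent lies over the invariant character. -/
lemma Over.down (hLM : L ≤ M) (hHM : H ≤ normalizer (M : Set G))
    (hHL : H ≤ normalizer (L : Set G)) {χ : H → ℂ} (hχ : IsIrrCharacter H χ) {θ : M → ℂ}
    (hθ : IsIrrCharacter M θ) {ν : L → ℂ} (hν : IsIrrCharacter L ν) (hinv : InvBy L H ν)
    (h : Over M H χ θ) (h' : Over L H χ ν) : Over L M θ ν := by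
  obtain ⟨hMH, -⟩ := id h
  obtain ⟨ν', hν', hc⟩ := exists_over_below hLM (hMH.trans hHL) hθ
  obtain ⟨g, hg, hg'⟩ := conjBy_of_over hHL hχ hν hν' h'
    (h.trans (isCharacter_of_irr hχ) hθ hν' hc)
  rwa [isConjCharOf_unique (hHL hg) hg' (hinv g hg)] at hc

end Cfsg.Lib.RelMcKay
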