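import Mathlib
import Cfsg.Agent.Chars.RelMcKay.Over

/-!
# Counting characters through the invariant constituents
-/

set_option autoImplicit false
set_option linter.unusedSectionVars false

namespace Cfsg.Lib.RelMcKay

open Cfsg Cfsg.Lib.Chars Subgroup
open scoped ComplexConjugate

universe u

attribute [local instance high] Fintype.ofFinite

variable {G : Type u} [Group G] [Finite G] {M L H K S : Subgroup G}

/-- The number of characters of `p'`-degree over `ν`. -/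
noncomputable def cntP (p : ℕ) (L H : Subgroup G) (ν : L → ℂ) : ℕ :=
  Nat.card {χ : IrrCharacter H // ¬ p ∣ deg (χ : H → ℂ) ∧ Over L H (χ : H → ℂ) ν}

/-- An invariant constituent of a character of `p'`-degree. -/
lemma exists_invBy_constituent {p : ℕ} [Fact p.Prime] (hMH : M ≤ H)
    (hH : H ≤ normalizer (M : Set G)) (hSH : S ≤ H) (hpS : IsPGroup p S) {χ : H → ℂ}
    (hχ : IsIrrCharacter H χ) (hp : ¬ p ∣ deg χ) :
    ∃ θ : IrrCharacter M, Over M H χ (θ : M → ℂ) ∧ InvBy M S (θ : M → ℂ) := by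
  let X := {θ : IrrCharacter M // Over M H χ (θ : M → ℂ)}
  have hcf := isClassFunction_isChar (isCharacter_of_irr hχ)
  have hn : ∀ s : S, (s : G)⁻¹ ∈ normalizer (M : Set G) := fun s => inv_mem (hH (hSH s.2))
  have hcj : ∀ (s : S) (θ : M → ℂ),
      IsConjCharOf M (s : G) θ (fun k => θ (conjEquiv M (hn s) k)) := fun s θ k k' hk => by
    show θ _ = θ k
    congr 1
    apply Subtype.ext
    simp [hk, mul_assoc]
  letI : SMul S X := ⟨fun s θ => ⟨⟨fun k => (θ.1 : M → ℂ) (conjEquiv M (hn s) k),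
    IsIrrCharacter.comp_mulEquiv θ.1.2 _⟩, θ.2.conj hH hcf (hSH s.2) (hcj s _)⟩⟩
  have hsmul : ∀ (s : S) (θ : X) (k : M),
      ((s • θ : X).1 : M → ℂ) k = (θ.1 : M → ℂ) (conjEquiv M (hn s) k) := fun _ _ _ => rfl
  letI : MulAction S X :=
    { one_smul := fun θ => Subtype.ext (Subtype.ext (funext fun k => by
        rw [hsmul]
        refine congrArg (θ.1 : M → ℂ) (Subtype.ext ?_)
        show ((1 : S) : G)⁻¹ * (k : G) * ((1 : S) : G)⁻¹⁻¹ = k
        simp))
      mul_smul := fun s t θ => Subtype.ext (Subtype.ext (funext fun k => by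
        rw [hsmul, hsmul, hsmul]
        refine congrArg (θ.1 : M → ℂ) (Subtype.ext ?_)
        show ((s * t : S) : G)⁻¹ * (k : G) * ((s * t : S) : G)⁻¹⁻¹ =
          (t : G)⁻¹ * ((s : G)⁻¹ * (k : G) * (s : G)⁻¹⁻¹) * (t : G)⁻¹⁻¹
        simp [mul_assoc])) }
  obtain ⟨θ₀, hθ₀, ho⟩ := exists_over_below hMH hH hχ
  obtain ⟨θ, hθ⟩ := hpS.nonempty_fixed_point_of_prime_not_dvd_card X
    fun hd => hp (hd.trans (card_constituents_dvd hH hχ hθ₀ ho))
  refine ⟨θ.1, θ.2, fun s hs => ?_⟩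
  have h := hcj ⟨s, hs⟩ (θ.1 : M → ℂ)
  rwa [show (fun k => (θ.1 : M → ℂ) (conjEquiv M (hn ⟨s, hs⟩) k)) = (θ.1 : M → ℂ) from
    funext fun k => by rw [← hsmul, hθ]] at h

open scoped Classical in
/-- Counting through the invariant constituents, each orbit weighted by its length. -/
theorem card_eq_sum_over {p : ℕ} [Fact p.Prime] (hMH : M ≤ H) (hH : H ≤ normalizer (M : Set G))
    (hSH : S ≤ H) (hpS : IsPGroup p S) (Q : IrrCharacter H → Prop)
    (hQ : ∀ χ : IrrCharacter H, Q χ → ¬ p ∣ deg (χ : H → ℂ)) (R : IrrCharacter M → Prop)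
    (hR : ∀ (χ : IrrCharacter H) (θ : IrrCharacter M), Q χ → Over M H (χ : H → ℂ) (θ : M → ℂ) →
      InvBy M S (θ : M → ℂ) → R θ) :
    (Nat.card {χ // Q χ} : ℚ) = ∑ θ : {θ // R θ},
      (Nat.card {θ' : {θ // R θ} // ConjBy M H (θ.1 : M → ℂ) (θ'.1 : M → ℂ)} : ℚ)⁻¹ *
        Nat.card {χ // Q χ ∧ Over M H (χ : H → ℂ) (θ.1 : M → ℂ)} := by
  have h1 : ∀ θ : {θ // R θ},
      (Nat.card {χ // Q χ ∧ Over M H (χ : H → ℂ) (θ.1 : M → ℂ)} : ℚ) =
        ∑ χ : {χ // Q χ}, if Over M H (χ.1 : H → ℂ) (θ.1 : M → ℂ) then 1 else 0 := fun θ => by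
    rw [Finset.sum_boole, ← Fintype.card_subtype, ← Nat.card_eq_fintype_card]
    exact congrArg Nat.cast (Nat.card_congr (Equiv.subtypeSubtypeEquivSubtypeInter Q
      fun χ : IrrCharacter H => Over M H (χ : H → ℂ) (θ.1 : M → ℂ)).symm)
  simp only [h1, Finset.mul_sum]
  rw [Finset.sum_comm, Nat.card_eq_fintype_card, ← Finset.card_univ, Finset.card_eq_sum_ones,
    Nat.cast_sum]
  refine Finset.sum_congr rfl fun χ _ => ?_
  let o : {θ // R θ} → Prop := fun θ => Over M H (χ.1 : H → ℂ) (θ.1 : M → ℂ)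
  obtain ⟨θ₀, ho, hi⟩ := exists_invBy_constituent hMH hH hSH hpS χ.1.2 (hQ _ χ.2)
  have hne : Nonempty {θ // o θ} := ⟨⟨⟨θ₀, hR _ _ χ.2 ho hi⟩, ho⟩⟩
  have hfib : ∀ θ, o θ →
      Nat.card {θ' : {θ // R θ} // ConjBy M H (θ.1 : M → ℂ) (θ'.1 : M → ℂ)} =
        Nat.card {θ // o θ} := fun θ hθ => by
    refine Nat.card_congr (Equiv.subtypeEquivRight fun θ' => ⟨fun h => ?_, fun h => ?_⟩)
    · obtain ⟨g, hg, hc⟩ := h
      exact Over.conj hH (isClassFunction_isChar (isCharacter_of_irr χ.1.2)) hθ hg hc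
    · exact conjBy_of_over hH χ.1.2 θ.1.2 θ'.1.2 hθ h
  simp only [mul_ite, mul_one, mul_zero]
  rw [← Finset.sum_filter, Finset.sum_congr rfl fun θ hθ => by rw [hfib θ (Finset.mem_filter.1 hθ).2],
    Finset.sum_const, ← Fintype.card_subtype, ← Nat.card_eq_fintype_card, nsmul_eq_mul, Nat.cast_one,
    mul_inv_cancel₀ (by exact_mod_cast Nat.card_pos.ne')]

/-- Fusion of invariant characters happens in the normaliser of a Sylow subgroup. -/
theorem conjBy_normalizer {p : ℕ} [Fact p.Prime] (hH : H ≤ normalizer (M : Set G)) (hSH : S ≤ H)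
    (hpS : IsPGroup p S) (hi : ¬ p ∣ S.relIndex H) {θ θ' : M → ℂ} (h : InvBy M S θ)
    (h' : InvBy M S θ') :
    ConjBy M H θ θ' ↔ ConjBy M (H ⊓ normalizer (S : Set G)) θ θ' := by
  refine ⟨fun ⟨g, hg, hc⟩ => ?_, fun ⟨g, hg, hc⟩ => ⟨g, (mem_inf.1 hg).1, hc⟩⟩
  have hgn := hH hg
  set I := stabF M H hH θ with hI
  have hSI : S ≤ I := le_stabF hSH h
  have hidx : ¬ p ∣ (S.subgroupOf I).index := fun hd => hi (hd.trans
    (Dvd.intro _ (relIndex_mul_relIndex S I H hSI stabF_le)))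
  let P := (hpS.comap_of_injective I.subtype I.subtype_injective).toSylow hidx
  let S' : Subgroup G := S.map (MulAut.conj g⁻¹).toMonoidHom
  have hS'I : S' ≤ I := by
    rintro _ ⟨s, hs, rfl⟩
    refine ⟨mul_mem (mul_mem (inv_mem hg) (hSH hs)) (by rw [inv_inv]; exact hg), ?_⟩
    have h1 := isConjCharOf_mul hgn hc (h' s hs)
    have h2 := isConjCharOf_mul (mul_mem (hH (hSH hs)) hgn) h1 (isConjCharOf_inv hgn hc)
    simpa [mul_assoc] using h2
  obtain ⟨Q, hQ⟩ := ((hpS.map (MulAut.conj g⁻¹).toMonoidHom).comap_of_injective I.subtype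
    I.subtype_injective).exists_le_sylow
  obtain ⟨i, hiQ⟩ := MulAction.exists_smul_eq I P Q
  have hi2 : IsConjCharOf M (i : G) θ θ := i.2.2
  refine ⟨g * i, mem_inf.2 ⟨mul_mem hg i.2.1, ?_⟩, isConjCharOf_mul (hH i.2.1) hi2 hc⟩
  rw [← inv_inv (g * (i : G))]
  refine inv_mem (mem_normalizer_fintype fun s hs => ?_)
  have hmem : (⟨g⁻¹ * s * g, by simpa using hS'I (mem_map_of_mem _ hs)⟩ : I) ∈ (Q : Subgroup I) := by
    refine hQ ?_
    show g⁻¹ * s * g ∈ S'
    exact ⟨s, hs, by simp [mul_assoc]⟩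
  rw [← hiQ, Sylow.coe_subgroup_smul, mem_pointwise_smul_iff_inv_smul_mem] at hmem
  have h3 : (i : G)⁻¹ * (g⁻¹ * s * g) * i ∈ S := by
    have := hmem
    simpa [P, MulAut.smul_def, MulAut.conj_inv_apply, mem_subgroupOf] using this
  simpa [mul_assoc] using h3

/-- A character of an overgroup. -/
lemma exists_over_above {T : Subgroup G} (hTH : T ≤ H) {ξ : T → ℂ} (hξ : IsIrrCharacter T ξ) :
    ∃ χ : H → ℂ, IsIrrCharacter H χ ∧ Over T H χ ξ := by
  let e := subgroupOfEquivOfLe hTH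
  by_contra hno
  push Not at hno
  have h0 := eq_zero_of_classInner_eq_zero (isClassFunction_indFun (G := H) (T.subgroupOf H) (pull hTH ξ))
    fun χ => by
      rw [frobenius_reciprocity _ _ (isClassFunction_irr χ), ← classInner_conj_symm,
        not_not.1 fun h => hno χ χ.2 ((over_iff hTH).2 h), map_zero]
  have h1 := congrFun h0 1
  rw [indFun_one, Pi.zero_apply, mul_eq_zero, Nat.cast_eq_zero] at h1
  exact h1.elim (T.subgroupOf H).index_ne_zero_of_finite
    (IsIrrCharacter.apply_one_ne_zero (pull_irr hTH hξ))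

/-- The Clifford correspondence. -/
theorem exists_clifford_equiv (hLH : L ≤ H) (hH : H ≤ normalizer (L : Set G)) {ν : L → ℂ}
    (hν : IsIrrCharacter L ν) {T : Subgroup G} (hT : T = stabF L H hH ν) :
    ∃ f : {ξ : IrrCharacter T // Over L T (ξ : T → ℂ) ν} →
        {χ : IrrCharacter H // Over L H (χ : H → ℂ) ν},
      Function.Bijective f ∧ ∀ ξ, deg ((f ξ).1 : H → ℂ) = T.relIndex H * deg (ξ.1 : T → ℂ) := by
  haveI := normal_subgroupOf' hH
  have hTH : T ≤ H := hT ▸ stabF_le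
  have hLT : L ≤ T := hT ▸ le_stabF hLH (invBy_self (isClassFunction_isChar (isCharacter_of_irr hν)))
  have hinert : T.subgroupOf H = inertia (L.subgroupOf H) (pull hLH ν) := by
    ext g
    rw [mem_inertia, conjN_pull, mem_subgroupOf, hT, mem_stabF]
    exact and_iff_right g.2
  have hLT' : L.subgroupOf H ≤ T.subgroupOf H := fun x hx => hLT hx
  have hν' := pull_irr hLH hν
  let eT := subgroupOfEquivOfLe hTH
  have hover : ∀ ξ : T → ℂ, classInner
      (fun n : L.subgroupOf H => pull hTH ξ ⟨n, hLT' n.2⟩) (pull hLH ν) =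
      classInner (fun l : L => ξ (inclusion hLT l)) ν := fun ξ => by
    rw [← classInner_comp_equiv (subgroupOfEquivOfLe hLH).toEquiv (fun l : L => ξ (inclusion hLT l))]
    rfl
  have hcc : ∀ (χ : IrrCharacter H) (ξ : IrrCharacter T), Over T H (χ : H → ℂ) (ξ : T → ℂ) →
      Over L T (ξ : T → ℂ) ν → indFun (T.subgroupOf H) (pull hTH (ξ : T → ℂ)) = (χ : H → ℂ) ∧
      ∀ ξ' : IrrCharacter T, Over T H (χ : H → ℂ) (ξ' : T → ℂ) → Over L T (ξ' : T → ℂ) ν → ξ' = ξ := by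
    intro χ ξ h1 h2
    obtain ⟨a, -, c⟩ := clifford_correspondence hν' (T.subgroupOf H) hinert hLT' χ.2
      (pull_irr hTH ξ.2) ((over_iff hTH).1 h1) (by rw [hover]; exact h2.2)
    refine ⟨a, fun ξ' h3 h4 => Subtype.ext (pull_injective hTH (c _ (pull_irr hTH ξ'.2)
      ((over_iff hTH).1 h3) (by rw [hover]; exact h4.2)))⟩
  have hex : ∀ ξ : {ξ : IrrCharacter T // Over L T (ξ : T → ℂ) ν},
      ∃ χ : {χ : IrrCharacter H // Over L H (χ : H → ℂ) ν},
        Over T H (χ.1 : H → ℂ) (ξ.1 : T → ℂ) := fun ξ => by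
    obtain ⟨χ, hχ, ho⟩ := exists_over_above hTH ξ.1.2
    exact ⟨⟨⟨χ, hχ⟩, ho.trans (isCharacter_of_irr hχ) ξ.1.2 hν ξ.2⟩, ho⟩
  choose f hf using hex
  refine ⟨f, ⟨fun ξ ξ' e => ?_, fun χ => ?_⟩, fun ξ => ?_⟩
  · exact Subtype.ext ((hcc _ _ (hf ξ') ξ'.2).2 _ (e ▸ hf ξ) ξ.2)
  · obtain ⟨ψ, hψ, h1, h2⟩ := exists_constituent_over (T.subgroupOf H) hLT'
      (isCharacter_of_irr χ.1.2) ((over_iff hLH).1 χ.2)
    let ξ : IrrCharacter T := ⟨fun t => ψ (eT.symm t), IsIrrCharacter.comp_mulEquiv hψ _⟩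
    have e : pull hTH (ξ : T → ℂ) = ψ := funext fun x => congrArg ψ (eT.symm_apply_apply x)
    have ho : Over L T (ξ : T → ℂ) ν := ⟨hLT, by rw [← hover, e]; exact h2⟩
    have hoT : Over T H (χ.1 : H → ℂ) (ξ : T → ℂ) := (over_iff hTH).2 (by rw [e]; exact h1)
    refine ⟨⟨ξ, ho⟩, Subtype.ext (Subtype.ext ?_)⟩
    rw [← (hcc _ _ hoT ho).1, ← (hcc _ _ (hf ⟨ξ, ho⟩) ho).1]
  · apply Nat.cast_injective (R := ℂ)
    rw [← IsCharacter.apply_one_eq_deg (isCharacter_of_irr (f ξ).1.2), ← (hcc _ _ (hf ξ) ξ.2).1,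
      indFun_one, Nat.cast_mul, ← IsCharacter.apply_one_eq_deg (isCharacter_of_irr ξ.1.2)]
    simp [pull, relIndex]

theorem card_over_stabF (hLH : L ≤ H) (hH : H ≤ normalizer (L : Set G)) {ν : L → ℂ}
    (hν : IsIrrCharacter L ν) {T : Subgroup G} (hT : T = stabF L H hH ν) :
    Nat.card {ξ : IrrCharacter T // Over L T (ξ : T → ℂ) ν} =
      Nat.card {χ : IrrCharacter H // Over L H (χ : H → ℂ) ν} := by
  obtain ⟨f, hf, -⟩ := exists_clifford_equiv hLH hH hν hT
  exact Nat.card_congr (Equiv.ofBijective f hf)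

theorem cntP_stabF {p : ℕ} [Fact p.Prime] (hLH : L ≤ H) (hH : H ≤ normalizer (L : Set G))
    {ν : L → ℂ} (hν : IsIrrCharacter L ν) {T : Subgroup G} (hT : T = stabF L H hH ν)
    (hp : ¬ p ∣ T.relIndex H) : cntP p L T ν = cntP p L H ν := by
  obtain ⟨f, hf, hd⟩ := exists_clifford_equiv hLH hH hν hT
  let F := Equiv.ofBijective f hf
  refine Nat.card_congr ((Equiv.subtypeEquivRight fun ξ => and_comm).trans
    ((Equiv.subtypeSubtypeEquivSubtypeInter _ _).symm.trans ((F.subtypeEquiv fun ξ => ?_).trans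
      ((Equiv.subtypeSubtypeEquivSubtypeInter _ _).trans (Equiv.subtypeEquivRight fun χ => and_comm)))))
  show ¬ p ∣ deg (ξ.1 : T → ℂ) ↔ ¬ p ∣ deg ((f ξ).1 : H → ℂ)
  rw [hd ξ, (Fact.out : p.Prime).dvd_mul, or_iff_right hp]

/-- Twisting by a linear character. -/
theorem card_over_twist (hLH : L ≤ H) (μ : H →* ℂˣ) (ν : L → ℂ) :
    Nat.card {χ : IrrCharacter H // Over L H (χ : H → ℂ) ν} =
      Nat.card {χ : IrrCharacter H //
        Over L H (χ : H → ℂ) (fun l => (μ (inclusion hLH l) : ℂ) * ν l)} := by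
  let F : IrrCharacter H ≃ IrrCharacter H :=
    { toFun := fun χ => ⟨_, IsIrrCharacter.mul_linear χ.2 μ⟩
      invFun := fun χ => ⟨_, IsIrrCharacter.mul_linear χ.2 μ⁻¹⟩
      left_inv := fun χ => Subtype.ext (funext fun h => by simp)
      right_inv := fun χ => Subtype.ext (funext fun h => by simp) }
  refine Nat.card_congr (F.subtypeEquiv fun χ => ?_)
  have hu : ∀ h : H, (μ h : ℂ) * conj (μ h : ℂ) = 1 := fun h => by
    rw [← IsCharacter.conj_inv (isCharacter_linear μ) h, ← Units.val_mul, ← map_mul,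
      mul_inv_cancel, map_one, Units.val_one]
  have he : classInner (fun l : L => (μ (inclusion hLH l) : ℂ) * (χ : H → ℂ) (inclusion hLH l))
      (fun l => (μ (inclusion hLH l) : ℂ) * ν l) =
      classInner (fun l : L => (χ : H → ℂ) (inclusion hLH l)) ν := by
    rw [classInner_def, classInner_def]
    congr 1
    refine Finset.sum_congr rfl fun l _ => ?_
    linear_combination ((χ : H → ℂ) (inclusion hLH l) * conj (ν l)) * hu (inclusion hLH l) +
      ((μ (inclusion hLH l) : ℂ) * (χ : H → ℂ) (inclusion hLH l)) *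
        (map_mul (starRingEnd ℂ) ((μ (inclusion hLH l) : ℂ)) (ν l))
  exact ⟨fun ⟨_, h⟩ => ⟨hLH, he ▸ h⟩, fun ⟨_, h⟩ => ⟨hLH, he ▸ h⟩⟩

/-- Counts are unchanged by an embedding of the ambient group. -/
theorem cntP_map {G' : Type u} [Group G'] [Finite G'] (f : G' →* G) (hf : Function.Injective f)
    {L' H' : Subgroup G'} (hLH : L' ≤ H') (p : ℕ) (ν : L'.map f → ℂ) :
    cntP p L' H' (fun l => ν (L'.equivMapOfInjective f hf l)) = cntP p (L'.map f) (H'.map f) ν := by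
  let e := H'.equivMapOfInjective f hf
  let el := L'.equivMapOfInjective f hf
  let F : IrrCharacter (H'.map f) ≃ IrrCharacter H' :=
    { toFun := fun χ => ⟨_, IsIrrCharacter.comp_mulEquiv χ.2 e⟩
      invFun := fun χ => ⟨_, IsIrrCharacter.comp_mulEquiv χ.2 e.symm⟩
      left_inv := fun χ => Subtype.ext (funext fun h => by simp)
      right_inv := fun χ => Subtype.ext (funext fun h => by simp) }
  refine (Nat.card_congr (F.subtypeEquiv fun χ => ?_)).symm
  have hdeg : deg (F χ : H' → ℂ) = deg (χ : H'.map f → ℂ) := by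
    apply Nat.cast_injective (R := ℂ)
    rw [← IsCharacter.apply_one_eq_deg (isCharacter_of_irr (F χ).2),
      ← IsCharacter.apply_one_eq_deg (isCharacter_of_irr χ.2)]
    exact congrArg _ (map_one e)
  rw [hdeg]
  have he : classInner (fun l : L' => (F χ : H' → ℂ) (inclusion hLH l)) (fun l => ν (el l)) =
      classInner (fun l : L'.map f => (χ : H'.map f → ℂ) (inclusion (map_mono hLH) l)) ν := by
    rw [← classInner_comp_equiv el.toEquiv
      (fun l : L'.map f => (χ : H'.map f → ℂ) (inclusion (map_mono hLH) l))]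
    congr 1
  exact and_congr_right' ⟨fun ⟨_, h⟩ => ⟨hLH, fun h' => h (he ▸ h')⟩,
    fun ⟨_, h⟩ => ⟨map_mono hLH, fun h' => h (he.trans h')⟩⟩

end Cfsg.Lib.RelMcKay
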