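import Mathlib
import Cfsg.Agent.Chars.Galois
import Cfsg.Agent.Blocks.RelativeGlauberman
import Cfsg.Agent.Chars.RelMcKay.Agree
import Cfsg.Agent.Chars.RelMcKay.OverCount

/-!
# Canonical extensions from a normalised `p'`-subgroup, and central values
-/

set_option autoImplicit false
set_option linter.unusedSectionVars false

namespace Cfsg.Lib.RelMcKay

open Cfsg Cfsg.Lib.Chars Subgroup
open scoped ComplexConjugate

universe u

attribute [local instance high] Fintype.ofFinite

variable {G : Type u} [Group G] [Finite G] {M K Z H : Subgroup G} {p : ℕ} [Fact p.Prime]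

/-- A normalised `p'`-subgroup of `p`-power index. -/
structure Semi (p : ℕ) (M K : Subgroup G) : Prop where
  le : M ≤ K
  norm : K ≤ normalizer (M : Set G)
  pM : ¬ p ∣ Nat.card M
  idx : ∃ k, M.relIndex K = p ^ k

/-- An irreducible extension with determinantal order prime to `p`. -/
def Cano (p : ℕ) (M K : Subgroup G) (η : K → ℂ) : Prop :=
  IsIrrCharacter K η ∧ (∃ h : M ≤ K, IsIrrCharacter M (fun m => η (inclusion h m))) ∧
    ¬ p ∣ detOrder η

lemma detOrder_dvd_card {G : Type u} [Group G] [Finite G] {χ : G → ℂ} (hχ : IsCharacter G χ) :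
    detOrder χ ∣ Nat.card G := by
  obtain ⟨δ, hδ⟩ := detChar_is_hom hχ
  refine orderOf_dvd_of_pow_eq_one ?_
  funext g
  rw [hδ, Pi.pow_apply, Pi.one_apply, ← Units.val_pow_eq_pow_val, ← map_pow, pow_card_eq_one',
    map_one, Units.val_one]

lemma deg_eq_of_apply_one {G G' : Type u} [Group G] [Finite G] [Group G'] [Finite G'] {χ : G → ℂ}
    {χ' : G' → ℂ} (h : IsCharacter G χ) (h' : IsCharacter G' χ') (e : χ 1 = χ' 1) :
    deg χ = deg χ' := by
  apply Nat.cast_injective (R := ℂ)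
  rw [← IsCharacter.apply_one_eq_deg h, ← IsCharacter.apply_one_eq_deg h', e]

lemma Semi.not_dvd_deg (hs : Semi p M K) {η : K → ℂ} (hη : Cano p M K η) : ¬ p ∣ deg η := by
  obtain ⟨hi, ⟨h, hr⟩, -⟩ := hη
  rw [deg_eq_of_apply_one (isCharacter_of_irr hi) (isCharacter_of_irr hr)
    (congrArg η (map_one (inclusion h))).symm]
  exact fun hd => hs.pM (hd.trans (IsIrrCharacter.deg_dvd hr))

/-- Existence. -/
lemma exists_cano (hs : Semi p M K) {θ : M → ℂ} (hθ : IsIrrCharacter M θ) (hinv : InvBy M K θ) :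
    ∃ η, Cano p M K η ∧ ∀ m : M, η (inclusion hs.le m) = θ m := by
  haveI := normal_subgroupOf' hs.norm
  have hp : p.Prime := Fact.out
  have hθ' := pull_irr hs.le hθ
  obtain ⟨k, hk⟩ := hs.idx
  have hc := Nat.card_congr (subgroupOfEquivOfLe hs.le).toEquiv
  have hpd : ¬ p ∣ detOrder (pull hs.le θ) := fun hd => hs.pM
    (hd.trans (hc ▸ detOrder_dvd_card (isCharacter_of_irr hθ')))
  have hpg : ¬ p ∣ deg (pull hs.le θ) := fun hd => hs.pM
    (hd.trans (hc ▸ IsIrrCharacter.deg_dvd hθ'))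
  obtain ⟨η, ⟨hη, hres, hdet⟩, -⟩ := exists_canonical_extension (M.subgroupOf K) hθ'
    (fun g => (conjN_pull hs.le g).2 (hinv g g.2))
    (IsCharacter.apply_one_eq_deg (isCharacter_of_irr hθ')) (by
      rw [show (M.subgroupOf K).index = p ^ k from hk]
      exact Nat.Coprime.pow_left k (hp.coprime_iff_not_dvd.2 fun hd =>
        (hp.dvd_mul.1 hd).elim hpd hpg))
  have e : (fun m : M => η (inclusion hs.le m)) = θ := funext fun m =>
    (hres ((subgroupOfEquivOfLe hs.le).symm m)).trans (by simp [pull])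
  exact ⟨η, ⟨hη, ⟨hs.le, e.symm ▸ hθ⟩, hdet ▸ hpd⟩, congrFun e⟩

/-- Uniqueness. -/
lemma cano_unique (hs : Semi p M K) {η η' : K → ℂ} (h : Cano p M K η) (h' : Cano p M K η')
    (he : ∀ m : M, η (inclusion hs.le m) = η' (inclusion hs.le m)) : η = η' := by
  haveI := normal_subgroupOf' hs.norm
  have hp : p.Prime := Fact.out
  obtain ⟨k, hk⟩ := hs.idx
  obtain ⟨hη, ⟨_, hr⟩, hd⟩ := h
  have hθ' := pull_irr hs.le hr
  have hc := Nat.card_congr (subgroupOfEquivOfLe hs.le).toEquiv
  obtain ⟨χ, -, huniq⟩ := exists_canonical_extension (M.subgroupOf K) hθ'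
    (fun g => funext fun n => isClassFunction_isChar (isCharacter_of_irr hη) (n : K) g)
    (IsCharacter.apply_one_eq_deg (isCharacter_of_irr hθ')) (by
      rw [show (M.subgroupOf K).index = p ^ k from hk]
      exact Nat.Coprime.pow_left k (hp.coprime_iff_not_dvd.2 fun hd => (hp.dvd_mul.1 hd).elim
        (fun hd => hs.pM (hd.trans (hc ▸ detOrder_dvd_card (isCharacter_of_irr hθ'))))
        (fun hd => hs.pM (hd.trans (hc ▸ IsIrrCharacter.deg_dvd hθ')))))
  have hco : ∀ o, ¬ p ∣ o → Nat.Coprime (M.subgroupOf K).index o := fun o ho => by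
    rw [show (M.subgroupOf K).index = p ^ k from hk]
    exact Nat.Coprime.pow_left k (hp.coprime_iff_not_dvd.2 ho)
  rw [huniq η hη (fun n => rfl) (hco _ hd),
    huniq η' h'.1 (fun n => (he (subgroupOfEquivOfLe hs.le n)).symm) (hco _ h'.2.2)]

/-- Conjugates of canonical extensions. -/
lemma Cano.conj {η : K → ℂ} (h : Cano p M K η) {g : G} (hgM : g ∈ normalizer (M : Set G))
    (hgK : g ∈ normalizer (K : Set G)) : Cano p M K (fun k => η (conjEquiv K hgK k)) := by
  obtain ⟨hη, ⟨hle, hr⟩, hd⟩ := h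
  refine ⟨IsIrrCharacter.comp_mulEquiv hη _, ⟨hle, ?_⟩, ?_⟩
  · rw [show (fun m : M => η (conjEquiv K hgK (inclusion hle m))) =
      fun m : M => η (inclusion hle (conjEquiv M hgM m)) from funext fun m => congrArg η rfl]
    exact IsIrrCharacter.comp_mulEquiv hr _
  · rwa [Cfsg.Lib.RelGlauberman.detOrder_comp_equiv (isCharacter_of_irr hη) (conjEquiv K hgK)]

/-- Central `p`-elements act trivially. -/
lemma cano_central (hs : Semi p M K) {η : K → ℂ} (h : Cano p M K η) {z : K}
    (hz : ∀ k : K, k * z = z * k) {j : ℕ} (hj : z ^ p ^ j = 1) : η z = η 1 := by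
  have hp : p.Prime := Fact.out
  have hdeg := hs.not_dvd_deg h
  obtain ⟨hη, -, hd⟩ := h
  obtain ⟨n, ρ, hρ, rfl⟩ := hη
  haveI := hρ
  obtain ⟨a, ha⟩ := schur_scalar ρ (ρ z) fun k v => by
    rw [← Module.End.mul_apply, ← Module.End.mul_apply, ← map_mul, ← map_mul, hz]
  replace ha : ρ z = a • (1 : Module.End ℂ (Fin n → ℂ)) := ha
  have := nontrivial_of_irreducible ρ
  obtain ⟨δ, hδ⟩ := detChar_is_hom (isCharacter_character ρ)
  have h1 : (a ^ deg ρ.character) ^ detOrder ρ.character = 1 := by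
    have e1 : detChar ρ.character z = a ^ deg ρ.character := by
      rw [detChar_character ρ z, ha, LinearMap.det_smul, map_one, mul_one]
      congr 1
      have := IsCharacter.apply_one_eq_deg (isCharacter_character ρ)
      rw [ρ.char_one] at this
      exact_mod_cast this
    rw [← e1, ← Pi.pow_apply, show detChar ρ.character ^ detOrder ρ.character = 1 from
      pow_orderOf_eq_one _, Pi.one_apply]
  have h2 : a ^ p ^ j = 1 := by
    have e2 : ρ (z ^ p ^ j) = (a ^ p ^ j) • (1 : Module.End ℂ (Fin n → ℂ)) := by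
      rw [map_pow, ha, smul_pow, one_pow]
    rw [hj, map_one] at e2
    exact (smul_left_injective ℂ (one_ne_zero (α := Module.End ℂ (Fin n → ℂ)))
      ((one_smul ℂ _).trans e2)).symm
  have h3 : a = 1 := by
    rw [← pow_mul] at h1
    refine eq_one_of_pow_pow ?_ h2 h1
    exact Nat.Coprime.pow_left j (hp.coprime_iff_not_dvd.2 fun hd' =>
      (hp.dvd_mul.1 hd').elim hdeg hd)
  show LinearMap.trace ℂ _ (ρ z) = LinearMap.trace ℂ _ (ρ 1)
  rw [ha, h3, one_smul, map_one ρ]

/-- A character of `p'`-degree is a twisted canonical extension. -/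
lemma exists_cano_twist (hs : Semi p M K) {η : K → ℂ} (hη : IsIrrCharacter K η)
    (hp : ¬ p ∣ deg η) : ∃ η₀ : K → ℂ, ∃ μ : K →* ℂˣ, Cano p M K η₀ ∧
      (∀ m : M, μ (inclusion hs.le m) = 1) ∧ η = fun k => (μ k : ℂ) * η₀ k := by
  haveI := normal_subgroupOf' hs.norm
  obtain ⟨k, hk⟩ := hs.idx
  obtain ⟨θ, hθ, ho⟩ := exists_over_below hs.le hs.norm hη
  obtain ⟨e, he, he'⟩ := deg_dvd_of_over hs.norm hη hθ ho
  rw [hk, Nat.dvd_prime_pow (Fact.out : p.Prime)] at he'
  obtain ⟨j, -, rfl⟩ := he'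
  have hj : j = 0 := by
    by_contra hj
    exact hp (he ▸ (dvd_pow_self p hj).mul_right _)
  rw [hj, pow_zero, one_mul] at he
  have hr : (fun m : M => η (inclusion hs.le m)) = θ :=
    eq_of_inner_ne_zero_of_deg (IsCharacter.comp_hom (isCharacter_of_irr hη) _) hθ ho.2 (by
      show η (inclusion hs.le 1) = θ 1
      rw [map_one, IsCharacter.apply_one_eq_deg (isCharacter_of_irr hη),
        IsCharacter.apply_one_eq_deg (isCharacter_of_irr hθ), he])
  have hinv : InvBy M K θ := fun g hg a a' ha => by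
    rw [← hr]
    show η (inclusion hs.le a') = η (inclusion hs.le a)
    rw [show inclusion hs.le a' = (⟨g, hg⟩ : K) * inclusion hs.le a * (⟨g, hg⟩ : K)⁻¹ from
      Subtype.ext ha]
    exact isClassFunction_isChar (isCharacter_of_irr hη) _ _
  obtain ⟨η₀, hη₀, hη₀r⟩ := exists_cano hs hθ hinv
  obtain ⟨μ, hμ, hμη⟩ := exists_linear_of_extensions (M.subgroupOf K) (pull_irr hs.le hθ) hη₀.1 hη
    (fun n => hη₀r (subgroupOfEquivOfLe hs.le n))
    (fun n => congrFun hr (subgroupOfEquivOfLe hs.le n))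
  exact ⟨η₀, μ, hη₀, fun m => hμ ⟨inclusion hs.le m, m.2⟩, hμη⟩

/-- The twist is unique. -/
lemma cano_twist_inj (hs : Semi p M K) {η₀ η₁ : K → ℂ} (h0 : Cano p M K η₀) (h1 : Cano p M K η₁)
    {μ₀ μ₁ : K →* ℂˣ} (hμ0 : ∀ m : M, μ₀ (inclusion hs.le m) = 1)
    (hμ1 : ∀ m : M, μ₁ (inclusion hs.le m) = 1)
    (he : (fun k => (μ₀ k : ℂ) * η₀ k) = fun k => (μ₁ k : ℂ) * η₁ k) : η₀ = η₁ ∧ μ₀ = μ₁ := by
  haveI := normal_subgroupOf' hs.norm
  have e : η₀ = η₁ := cano_unique hs h0 h1 fun m => by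
    have := congrFun he (inclusion hs.le m)
    simpa only [hμ0, hμ1, Units.val_one, one_mul] using this
  subst e
  refine ⟨rfl, ?_⟩
  obtain ⟨_, hr⟩ := h0.2.1
  have hN : ∀ μ : K →* ℂˣ, (∀ m : M, μ (inclusion hs.le m) = 1) → ∀ n : M.subgroupOf K,
      (fun k => (μ k : ℂ)) (n : K) = (fun k => (μ k : ℂ)) 1 := fun μ hμ n => by
    show (μ (inclusion hs.le (subgroupOfEquivOfLe hs.le n)) : ℂ) = (μ 1 : ℂ)
    rw [hμ, map_one]
  have := (gallagher_trivial (M.subgroupOf K) h0.1 (pull_irr hs.le hr) (isIrrCharacter_linear μ₀)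
    (isIrrCharacter_linear μ₁) (hN _ hμ0) (hN _ hμ1)).2 he
  exact MonoidHom.ext fun k => Units.ext (congrFun this k)

/-- The scalar by which a central subgroup acts. -/
lemma exists_central_char (hZH : Z ≤ H) (hc : H ≤ centralizer (Z : Set G)) {χ : H → ℂ}
    (hχ : IsIrrCharacter H χ) :
    ∃ ω : Z →* ℂˣ, ∀ z : Z, χ (inclusion hZH z) = χ 1 * (ω z : ℂ) := by
  have hn : H ≤ normalizer (Z : Set G) := hc.trans (centralizer_le_normalizer _)
  haveI := normal_subgroupOf' hn
  obtain ⟨θ, hθ, ho⟩ := exists_over_below hZH hn hχ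
  have h1 := irr_deg_one_of_comm (G := Z)
    (fun a b => Subtype.ext (mem_centralizer_iff.1 (hc (hZH b.2)) a a.2)) hθ
  obtain ⟨ω, rfl⟩ := exists_hom_of_deg_one (isCharacter_of_irr hθ) h1
  have hinv : ∀ g : H, conjN (Z.subgroupOf H) g (pull hZH fun z => (ω z : ℂ)) =
      pull hZH fun z => (ω z : ℂ) := fun g => (conjN_pull hZH g).2 fun k k' hk => by
    rw [show k' = k from Subtype.ext (by
      rw [hk, ← mem_centralizer_iff.1 (hc g.2) k k.2, mul_inv_cancel_right])]
  obtain ⟨e, -, he⟩ := restrict_eq_mult_of_invariant (Z.subgroupOf H) hχ (pull_irr hZH hθ) hinv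
    ((over_iff hZH).1 ho)
  have hval : ∀ z : Z, χ (inclusion hZH z) = (e : ℂ) * (ω z : ℂ) := fun z => by
    have := congrFun he ((subgroupOfEquivOfLe hZH).symm z)
    simp only [pull, Pi.smul_apply, MulEquiv.apply_symm_apply, smul_eq_mul] at this
    exact this
  refine ⟨ω, fun z => ?_⟩
  have := hval 1
  rw [map_one, map_one, Units.val_one, mul_one] at this
  rw [this, hval z]

lemma over_central_iff (hZH : Z ≤ H) (hc : H ≤ centralizer (Z : Set G)) {χ : H → ℂ}
    (hχ : IsIrrCharacter H χ) (lam : Z →* ℂˣ) :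
    Over Z H χ (fun z => (lam z : ℂ)) ↔ ∀ z : Z, χ (inclusion hZH z) = χ 1 * (lam z : ℂ) := by
  obtain ⟨ω, hω⟩ := exists_central_char hZH hc hχ
  have h0 := IsIrrCharacter.apply_one_ne_zero hχ
  have he : classInner (fun z : Z => χ (inclusion hZH z)) (fun z => (lam z : ℂ)) =
      χ 1 * classInner (fun z : Z => (ω z : ℂ)) (fun z => (lam z : ℂ)) := by
    rw [← classInner_smul_left]
    congr 1
    exact funext hω
  constructor
  · rintro ⟨_, h⟩ z
    rw [he, classInner_irrChar (isIrrCharacter_linear ω) (isIrrCharacter_linear lam)] at h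
    by_cases e : (fun z : Z => (ω z : ℂ)) = fun z => (lam z : ℂ)
    · rw [hω, congrFun e z]
    · exact absurd (by rw [if_neg e, mul_zero]) h
  · refine fun h => ⟨hZH, ?_⟩
    rw [he, show (fun z : Z => (ω z : ℂ)) = fun z => (lam z : ℂ) from
      funext fun z => mul_left_cancel₀ h0 ((hω z).symm.trans (h z)),
      classInner_self_irr (isIrrCharacter_linear lam), mul_one]
    exact h0

end Cfsg.Lib.RelMcKay
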