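import Mathlib
import Cfsg.Agent.Chars.Sums
import Cfsg.Agent.Chars.RelMcKay.Agree

/-!
# The number of characters over an invariant character as a sum of pairings
-/

set_option autoImplicit false
set_option linter.unusedSectionVars false

namespace Cfsg.Lib.RelMcKay

open Cfsg Cfsg.Lib.Chars Module Subgroup
open scoped ComplexConjugate

universe u v

attribute [local instance high] Fintype.ofFinite

section Schur

variable {H : Type u} [Group H] [Finite H] {V : Type v} [AddCommGroup V] [Module ℂ V]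
  [FiniteDimensional ℂ V] (ρ : Representation ℂ H V) [ρ.IsIrreducible]

/-- Averaging an endomorphism. -/
lemma sum_conj_endo (X : Module.End ℂ V) :
    ∑ m, ρ m * X * ρ m⁻¹ =
      ((Nat.card H : ℂ) / (finrank ℂ V : ℂ) * LinearMap.trace ℂ V X) • (1 : Module.End ℂ V) := by
  obtain ⟨a, ha⟩ := schur_scalar ρ (∑ m, ρ m * X * ρ m⁻¹) fun g v => by
    simp only [LinearMap.sum_apply, map_sum, Module.End.mul_apply]
    refine Fintype.sum_equiv (Equiv.mulLeft g⁻¹) _ _ fun m => ?_
    simp only [Equiv.coe_mulLeft, ← Module.End.mul_apply, ← map_mul, ← mul_assoc]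
    simp [mul_assoc]
  have htr : LinearMap.trace ℂ V (∑ m, ρ m * X * ρ m⁻¹) =
      (Nat.card H : ℂ) * LinearMap.trace ℂ V X := by
    rw [map_sum, Finset.sum_congr rfl fun m _ => show LinearMap.trace ℂ V (ρ m * X * ρ m⁻¹) =
      LinearMap.trace ℂ V X by rw [LinearMap.trace_mul_comm, ← mul_assoc, ← map_mul,
        inv_mul_cancel, map_one, one_mul]]
    simp [Nat.card_eq_fintype_card]
  rw [ha, map_smul, LinearMap.trace_id, smul_eq_mul] at htr
  rw [ha]
  congr 1
  rw [div_mul_eq_mul_div, ← htr,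
    mul_div_assoc, div_self (by exact_mod_cast (finrank_pos_of_irreducible ρ).ne'), mul_one]

/-- Orthogonality of matrix coefficients. -/
lemma sum_trace_mul_trace (A B : Module.End ℂ V) :
    ∑ n, LinearMap.trace ℂ V (A * ρ n) * LinearMap.trace ℂ V (ρ n⁻¹ * B) =
      (Nat.card H : ℂ) / (finrank ℂ V : ℂ) * LinearMap.trace ℂ V (A * B) := by
  classical
  let b := Module.finBasis ℂ V
  have htr : ∀ f : Module.End ℂ V, LinearMap.trace ℂ V f = ∑ i, b.coord i (f (b i)) := fun f => by
    rw [LinearMap.trace_eq_matrix_trace ℂ b]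
    simp [Matrix.trace, Matrix.diag, LinearMap.toMatrix_apply]
  have key : ∀ (f g : V →ₗ[ℂ] ℂ) (v w : V), ∑ n, g (ρ n v) * f (ρ n⁻¹ w) =
      (Nat.card H : ℂ) / (finrank ℂ V : ℂ) * f v * g w := by
    intro f g v w
    have h := LinearMap.congr_fun (sum_conj_endo ρ (f.smulRight v)) w
    simp only [LinearMap.sum_apply, Module.End.mul_apply, LinearMap.smulRight_apply,
      LinearMap.smul_apply, Module.End.one_apply, map_smul] at h
    have h2 := congrArg g h
    simp only [map_sum, map_smul, smul_eq_mul] at h2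
    rw [Finset.sum_congr rfl fun n _ => mul_comm (g (ρ n v)) (f (ρ n⁻¹ w)), h2]
    rw [show LinearMap.trace ℂ V (f.smulRight v) = f v from LinearMap.trace_smulRight f v]
  simp only [htr, Module.End.mul_apply, Finset.sum_mul_sum]
  rw [Finset.sum_comm, Finset.mul_sum]
  refine Finset.sum_congr rfl fun i _ => ?_
  rw [Finset.sum_comm]
  refine (Finset.sum_congr rfl fun j _ =>
    key (b.coord j) ((b.coord i).comp A) (b i) (B (b j))).trans ?_
  simp only [Basis.coord_apply, Basis.repr_self, Finsupp.single_apply, LinearMap.comp_apply]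
  rw [Finset.sum_eq_single i (fun j _ hj => by rw [if_neg hj.symm]; simp)
    (fun hh => absurd (Finset.mem_univ _) hh), if_pos rfl, mul_one]

end Schur

/-- The sum of an irreducible character over all commutators. -/
lemma sum_commutator {G : Type u} [Group G] [Finite G] {χ : G → ℂ} (hχ : IsIrrCharacter G χ) :
    ∑ g, ∑ h, χ (g * h * g⁻¹ * h⁻¹) = (Nat.card G : ℂ) ^ 2 / χ 1 := by
  have hnorm := classInner_self_irr hχ
  rw [classInner_def, inv_mul_eq_iff_eq_mul₀ (by exact_mod_cast Nat.card_pos.ne'), mul_one] at hnorm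
  obtain ⟨n, ρ, hρ, rfl⟩ := hχ
  haveI := hρ
  have h1 : ∀ g, ∑ h, ρ.character (g * h * g⁻¹ * h⁻¹) =
      (Nat.card G : ℂ) / ρ.character 1 * (ρ.character g * conj (ρ.character g)) := by
    intro g
    rw [Finset.sum_congr rfl fun h _ => show ρ.character (g * h * g⁻¹ * h⁻¹) =
      LinearMap.trace ℂ _ (ρ g * (ρ h * ρ g⁻¹ * ρ h⁻¹)) by
        rw [← map_mul, ← map_mul, ← map_mul, ← mul_assoc, ← mul_assoc]; rfl,
      ← map_sum, ← Finset.mul_sum, sum_conj_endo, mul_smul_comm, mul_one, map_smul, smul_eq_mul,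
      ρ.char_one, show conj (ρ.character g) = ρ.character g⁻¹ from (character_inv ρ g).symm]
    simp only [Representation.character]
    ring
  rw [Finset.sum_congr rfl fun g _ => h1 g, ← Finset.mul_sum, hnorm]
  ring

variable {G : Type u} [Group G] [Finite G] (K : Subgroup G) {V : Type v} [AddCommGroup V]
  [Module ℂ V] [FiniteDimensional ℂ V] (ρ : Representation ℂ K V) [ρ.IsIrreducible]

open scoped Classical in
/-- The pairing, zero where it is undefined. -/
noncomputable def pval (x y : G) : ℂ := if h : ∃ c, Pair K ρ x y c then h.choose else 0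

variable {K ρ}

lemma pval_eq {x y : G} {c : ℂ} (h : Pair K ρ x y c) (hx : x ∈ stab K ρ) (hy : y ∈ stab K ρ) :
    pval K ρ x y = c := by
  unfold pval
  rw [dif_pos ⟨c, h⟩]
  exact (Exists.choose_spec (⟨c, h⟩ : ∃ c, Pair K ρ x y c)).unique h hx hy

lemma pval_eq_zero {x y : G} (h : ¬ Comm K x y) : pval K ρ x y = 0 := by
  unfold pval
  rw [dif_neg fun ⟨_, _, _, d, _, _, hd, _⟩ => h (show x⁻¹ * (y * x * y⁻¹) ∈ K from hd ▸ d.2)]

lemma comm_mul_right_iff {x y : G} (hx : x ∈ normalizer (K : Set G))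
    (hy : y ∈ normalizer (K : Set G)) (m : K) : Comm K x (y * m) ↔ Comm K x y := by
  have h1 : x⁻¹ * (y * m * x * (y * m)⁻¹) =
      (x⁻¹ * (y * x * y⁻¹)) * (y * (x⁻¹ * (m : G) * x * (m : G)⁻¹) * y⁻¹) := by group
  have h2 : y * (x⁻¹ * (m : G) * x * (m : G)⁻¹) * y⁻¹ ∈ K := by
    refine (mem_normalizer_iff.1 hy _).1 (mul_mem ?_ (inv_mem m.2))
    exact (mem_normalizer_iff''.1 hx _).1 m.2
  unfold Comm
  rw [h1]
  refine ⟨fun h => ?_, fun h => mul_mem h h2⟩
  have := mul_mem h (inv_mem h2)
  rwa [mul_inv_cancel_right] at this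

lemma pval_mul_right {x y : G} (hx : x ∈ stab K ρ) (hy : y ∈ stab K ρ) (m : K) :
    pval K ρ x (y * m) = pval K ρ x y := by
  by_cases h : Comm K x y
  · obtain ⟨c, -, hc⟩ := exists_pair hx hy h
    have := hc.mul_right (pair_mem hx m) hx hy (le_stab m.2)
    rw [mul_one] at this
    rw [pval_eq this hx (mul_mem hy (le_stab m.2)), pval_eq hc hx hy]
  · rw [pval_eq_zero h, pval_eq_zero ((comm_mul_right_iff hx.1 hy.1 m).not.2 h)]

lemma pval_symm {x y : G} (hx : x ∈ stab K ρ) (hy : y ∈ stab K ρ) :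
    pval K ρ y x = (pval K ρ x y)⁻¹ := by
  by_cases h : Comm K x y
  · obtain ⟨c, -, hc⟩ := exists_pair hx hy h
    rw [pval_eq hc hx hy, pval_eq (hc.symm hx hy) hy hx]
  · rw [pval_eq_zero h, pval_eq_zero fun h' => h (h'.symm hy.1 hx.1), inv_zero]

lemma pval_mul_left {x y : G} (hx : x ∈ stab K ρ) (hy : y ∈ stab K ρ) (m : K) :
    pval K ρ (x * m) y = pval K ρ x y := by
  rw [pval_symm hy (mul_mem hx (le_stab m.2)), pval_mul_right hy hx, ← pval_symm hy hx]

variable (K ρ) in
/-- The count formula. -/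
theorem card_over_mul_eq (H : Subgroup G) (hKH : K ≤ H) (hH : H ≤ stab K ρ) :
    (Nat.card {χ : IrrCharacter H //
        classInner (fun k : K => (χ : H → ℂ) (inclusion hKH k)) ρ.character ≠ 0} : ℂ) *
        Nat.card H * Nat.card K =
      ∑ g : H, ∑ h : H, pval K ρ (g : G) h := by
  classical
  haveI hnorm : (K.subgroupOf H).Normal :=
    ⟨fun n hn' g => conj_mem_of_normalizes (hH g.2).1 ⟨_, hn'⟩⟩
  let e := subgroupOfEquivOfLe hKH
  let θ : K.subgroupOf H → ℂ := fun n => ρ.character (e n)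
  have hθ : IsIrrCharacter _ θ := IsIrrCharacter.comp_mulEquiv (isIrrCharacter_character ρ) e
  have hinv : ∀ g : H, conjN (K.subgroupOf H) g θ = θ := fun g => funext fun n =>
    character_eq_of_mem_stab (hH g.2) (n := e n) (n' := e ⟨_, _⟩) rfl
  have hov : ∀ χ : IrrCharacter H,
      classInner (fun k : K => (χ : H → ℂ) (inclusion hKH k)) ρ.character =
        classInner (fun n : K.subgroupOf H => (χ : H → ℂ) n) θ := fun χ => by
    rw [← classInner_comp_equiv e.toEquiv]
    rfl
  set d : ℂ := (finrank ℂ V : ℂ) with hdd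
  have hd0 : d ≠ 0 := by rw [hdd]; exact_mod_cast (finrank_pos_of_irreducible ρ).ne'
  have hθ1 : θ 1 = d := by show ρ.character (e 1) = d; rw [map_one, ρ.char_one]
  -- the weighted sum of the characters over `θ`
  obtain ⟨a, ha⟩ := IsCharacter.exists_decomp (IsCharacter.indFun (G := H) (isCharacter_of_irr hθ))
  have hval : ∀ χ : IrrCharacter H,
      classInner (fun n : K.subgroupOf H => (χ : H → ℂ) n) θ = (a χ : ℂ) := fun χ => by
    have h1 : classInner (indFun (K.subgroupOf H) θ) (χ : H → ℂ) = (a χ : ℂ) := by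
      rw [ha]
      simp only [← Nat.cast_smul_eq_nsmul ℂ]
      exact classInner_irrSum (fun χ => (a χ : ℂ)) χ
    rw [frobenius_reciprocity _ θ (isClassFunction_irr χ)] at h1
    rw [← classInner_conj_symm, h1, Complex.conj_natCast]
  have hterm : ∀ χ : IrrCharacter H, (a χ : ℂ) * d / (χ : H → ℂ) 1 =
      if classInner (fun k : K => (χ : H → ℂ) (inclusion hKH k)) ρ.character ≠ 0 then 1 else 0 := by
    intro χ
    rw [hov, hval]
    by_cases h0 : (a χ : ℂ) = 0
    · simp [h0]
    rw [if_pos h0]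
    obtain ⟨k, -, hk⟩ := restrict_eq_mult_of_invariant _ χ.2 hθ hinv (by rw [hval]; exact h0)
    have h2 : (k : ℂ) = (a χ : ℂ) := by
      rw [← hval, hk, classInner_smul_left, classInner_self_irr hθ, mul_one]
    have h3 := congrFun hk 1
    simp only [Pi.smul_apply, OneMemClass.coe_one, smul_eq_mul, hθ1, h2] at h3
    rw [h3, div_self (mul_ne_zero h0 hd0)]
  -- sum over commutators
  have key : d * ∑ g : H, ∑ h : H, indFun (K.subgroupOf H) θ (g * h * g⁻¹ * h⁻¹) =
      (Nat.card H : ℂ) ^ 2 * (Nat.card {χ : IrrCharacter H //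
        classInner (fun k : K => (χ : H → ℂ) (inclusion hKH k)) ρ.character ≠ 0} : ℂ) := by
    rw [Nat.card_eq_fintype_card (α := {χ : IrrCharacter H // _}), Fintype.card_subtype,
      ← Finset.sum_boole, Finset.mul_sum (a := (Nat.card H : ℂ) ^ 2), ha]
    simp only [Finset.sum_apply, Pi.smul_apply, nsmul_eq_mul, Pi.mul_apply, Pi.natCast_apply]
    rw [Finset.sum_congr rfl fun g _ => Finset.sum_comm, Finset.sum_comm, Finset.mul_sum]
    refine Finset.sum_congr rfl fun χ _ => ?_
    simp only [← Finset.mul_sum]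
    rw [sum_commutator χ.2, ← hterm]
    field_simp
  -- the inner sum over a pair of cosets
  have inner : ∀ g h : H, ∑ m : K, ∑ n : K,
      extendByZero (K.subgroupOf H) θ
        ((g * inclusion hKH m) * (h * inclusion hKH n) * (g * inclusion hKH m)⁻¹ *
          (h * inclusion hKH n)⁻¹) =
      (Nat.card K : ℂ) ^ 2 / d * (pval K ρ (h : G) g)⁻¹ := by
    intro g h
    have hg := hH g.2
    have hh := hH h.2
    have hgm : ∀ m : K, (g : G) * m ∈ stab K ρ := fun m => mul_mem hg (le_stab m.2)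
    by_cases hc : Comm K (h : G) g
    · obtain ⟨c, hc0, hpair⟩ := exists_pair hh hg hc
      rw [pval_eq hpair hh hg]
      obtain ⟨-, A, hA⟩ := id hh
      obtain ⟨-, B, hB⟩ := id hg
      have hterm2 : ∀ m n : K, extendByZero (K.subgroupOf H) θ
          ((g * inclusion hKH m) * (h * inclusion hKH n) * (g * inclusion hKH m)⁻¹ *
            (h * inclusion hKH n)⁻¹) =
          c⁻¹ * LinearMap.trace ℂ V ((B : Module.End ℂ V) *
            ((ρ m * ((A : Module.End ℂ V) * ρ n) * ρ m⁻¹) *
              ((↑B⁻¹ : Module.End ℂ V) * (ρ n⁻¹ * (↑A⁻¹ : Module.End ℂ V))))) := by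
        intro m n
        have hhn : (h : G) * n ∈ stab K ρ := mul_mem hh (le_stab n.2)
        have hP : Pair K ρ ((h : G) * n) ((g : G) * m) c := by
          have h1 := hpair.mul_right (pair_mem hh m) hh hg (le_stab m.2)
          rw [mul_one] at h1
          have h2 := (h1.symm hh (hgm m)).mul_right (pair_mem (hgm m) n) (hgm m) hh (le_stab n.2)
          rw [mul_one] at h2
          have h3 := h2.symm (hgm m) hhn
          rwa [inv_inv] at h3
        obtain ⟨-, -, dd, -, -, hdd', -⟩ := id hP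
        let A' := A * MonoidHom.toHomUnits ρ n
        let B' := B * MonoidHom.toHomUnits ρ m
        have hA' : Tw K ρ ((h : G) * n) (A' : Module.End ℂ V) :=
          hA.mul (tw_self n) (le_normalizer n.2)
        have hB' : Tw K ρ ((g : G) * m) (B' : Module.End ℂ V) :=
          hB.mul (tw_self m) (le_normalizer m.2)
        have he := hP.eqn hhn (hgm m) hA' hB' hdd'
        let w : K := ⟨((h : G) * n) * dd * ((h : G) * n)⁻¹, conj_mem_of_normalizes hhn.1 dd⟩
        have hwH : (g * inclusion hKH m) * (h * inclusion hKH n) * (g * inclusion hKH m)⁻¹ *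
            (h * inclusion hKH n)⁻¹ = inclusion hKH w := Subtype.ext (by simp [w, hdd', mul_assoc])
        rw [hwH, extendByZero_mem θ (show inclusion hKH w ∈ K.subgroupOf H from w.2)]
        show ρ.character w = _
        have hw : ρ w = c⁻¹ • ((B' : Module.End ℂ V) * A' * (↑B'⁻¹ : Module.End ℂ V) *
            (↑A'⁻¹ : Module.End ℂ V)) := by
          rw [he, smul_mul_assoc, smul_smul, inv_mul_cancel₀ hc0, one_smul, hA' dd w rfl, mul_assoc,
            Units.mul_inv, mul_one]
        show LinearMap.trace ℂ V (ρ w) = _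
        rw [hw, map_smul, smul_eq_mul]
        congr 2
      simp only [hterm2, ← Finset.mul_sum]
      rw [Finset.sum_comm]
      simp only [← map_sum, ← Finset.mul_sum, ← Finset.sum_mul, sum_conj_endo, smul_mul_assoc,
        one_mul, mul_smul_comm, Units.mul_inv_cancel_left, map_smul, smul_eq_mul]
      simp only [mul_assoc ((Nat.card K : ℂ) / (finrank ℂ V : ℂ))]
      rw [← Finset.mul_sum, sum_trace_mul_trace, Units.mul_inv, LinearMap.trace_one]
      rw [← hdd]
      field_simp
    · rw [pval_eq_zero hc, inv_zero, mul_zero]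
      refine Finset.sum_eq_zero fun m _ => Finset.sum_eq_zero fun n _ => ?_
      apply extendByZero_not_mem
      intro hmem
      apply hc
      have hhn : (h : G) * n ∈ stab K ρ := mul_mem hh (le_stab n.2)
      have hmem' : ((g : G) * m) * ((h : G) * n) * ((g : G) * m)⁻¹ * ((h : G) * n)⁻¹ ∈ K := hmem
      have h1 : Comm K ((h : G) * n) ((g : G) * m) := by
        have := (mem_normalizer_iff''.1 hhn.1 _).1 hmem'
        show _ ∈ K
        simpa [mul_assoc] using this
      have h2 := (h1.symm hhn.1 (hgm m).1)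
      have h3 := (comm_mul_right_iff (hgm m).1 hh.1 n).1 h2
      exact (comm_mul_right_iff hh.1 hg.1 m).1 (h3.symm (hgm m).1 hh.1)
  -- induced values
  have hind : ∀ z : H, indFun (K.subgroupOf H) θ z =
      (Nat.card H : ℂ) / (Nat.card K : ℂ) * extendByZero (K.subgroupOf H) θ z := by
    intro z
    by_cases hz : z ∈ K.subgroupOf H
    · rw [extendByZero_mem θ hz]
      refine (indFun_normal_mem (K.subgroupOf H) θ ⟨z, hz⟩).trans ?_
      rw [Finset.sum_congr rfl fun g _ => show θ ⟨g * z * g⁻¹, hnorm.conj_mem z hz g⟩ = θ ⟨z, hz⟩ from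
        congrFun (hinv g) ⟨z, hz⟩]
      simp [Nat.card_eq_fintype_card, Fintype.card_congr e.toEquiv, div_eq_inv_mul, mul_assoc]
    · rw [indFun_normal_not_mem _ _ hz, extendByZero_not_mem θ hz, mul_zero]
  -- shift by the normal subgroup
  have hshift : (Nat.card K : ℂ) ^ 2 *
        ∑ g : H, ∑ h : H, extendByZero (K.subgroupOf H) θ (g * h * g⁻¹ * h⁻¹) =
      (Nat.card K : ℂ) ^ 2 / d * ∑ g : H, ∑ h : H, pval K ρ (g : G) h := by
    set f : H → H → ℂ := fun g h => extendByZero (K.subgroupOf H) θ (g * h * g⁻¹ * h⁻¹) with hf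
    have h1 : ∀ m n : K, ∑ g : H, ∑ h : H, f (g * inclusion hKH m) (h * inclusion hKH n) =
        ∑ g : H, ∑ h : H, f g h := fun m n =>
      Fintype.sum_equiv (Equiv.mulRight (inclusion hKH m)) _ _ fun g =>
        Fintype.sum_equiv (Equiv.mulRight (inclusion hKH n)) _ _ fun h => rfl
    have h2 : (Nat.card K : ℂ) ^ 2 * ∑ g : H, ∑ h : H, f g h =
        ∑ m : K, ∑ n : K, ∑ g : H, ∑ h : H, f (g * inclusion hKH m) (h * inclusion hKH n) := by
      simp only [h1, Finset.sum_const, Finset.card_univ, nsmul_eq_mul, Nat.card_eq_fintype_card]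
      ring
    rw [h2, Finset.sum_congr rfl fun m _ => Finset.sum_comm, Finset.sum_comm,
      Finset.mul_sum]
    refine Finset.sum_congr rfl fun g _ => ?_
    rw [Finset.sum_congr rfl fun m _ => Finset.sum_comm, Finset.sum_comm, Finset.mul_sum]
    refine Finset.sum_congr rfl fun h _ => ?_
    rw [show (pval K ρ (g : G) h) = (pval K ρ (h : G) g)⁻¹ from pval_symm (hH h.2) (hH g.2)]
    exact inner g h
  have hK0 : (Nat.card K : ℂ) ≠ 0 := by exact_mod_cast Nat.card_pos.ne'
  have hH0 : (Nat.card H : ℂ) ≠ 0 := by exact_mod_cast Nat.card_pos.ne'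
  simp only [hind, ← Finset.mul_sum] at key
  field_simp at key hshift
  linear_combination hshift - key

end Cfsg.Lib.RelMcKay
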