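import Mathlib
import Cfsg.Agent.Chars.RelMcKay.AgreeAll
import Cfsg.Agent.Chars.RelMcKay.Count
import Cfsg.Agent.Chars.RelMcKay.Over

/-!
# The count over corresponding invariant canonical characters
-/

set_option autoImplicit false
set_option linter.unusedSectionVars false

namespace Cfsg.Lib.RelMcKay

open Cfsg Cfsg.Lib.Chars Module Subgroup
open scoped ComplexConjugate

universe u

attribute [local instance high] Fintype.ofFinite

variable {G : Type u} [Group G] [Finite G]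

/-- Summation over a product of two subgroups. -/
lemma sum_mul_eq {A B U : Subgroup G} (hA : A ≤ U) (hB : B ≤ U)
    (hU : ∀ u ∈ U, ∃ a ∈ A, ∃ b ∈ B, u = a * b) {R : Type*} [CommSemiring R] (F : G → R) :
    ∑ a : A, ∑ b : B, F ((a : G) * b) = (Nat.card ↥(A ⊓ B) : R) * ∑ u : U, F u := by
  classical
  rw [← Fintype.sum_prod_type' (f := fun (a : A) (b : B) => F ((a : G) * b))]
  refine (Finset.sum_congr (s₂ := (Finset.univ : Finset (A × B))) (by ext; simp) fun _ _ => rfl).trans ?_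
  rw [← Finset.sum_fiberwise (Finset.univ : Finset (A × B))
    (fun x => (⟨(x.1 : G) * x.2, mul_mem (hA x.1.2) (hB x.2.2)⟩ : U)) (fun x => F ((x.1 : G) * x.2)),
    Finset.mul_sum]
  refine Finset.sum_congr rfl fun u _ => ?_
  rw [Finset.sum_congr rfl (g := fun _ => F (u : G)) fun x hx => by
    rw [show (x.1 : G) * x.2 = u from congrArg Subtype.val (Finset.mem_filter.1 hx).2],
    Finset.sum_const, ← Fintype.card_subtype, nsmul_eq_mul, ← Nat.card_eq_fintype_card]
  congr 2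
  obtain ⟨a, ha, b, hb, hu⟩ := hU u u.2
  refine Nat.card_congr (Equiv.symm
    { toFun := fun c => ⟨(⟨a * c, mul_mem ha c.2.1⟩, ⟨(c : G)⁻¹ * b, mul_mem (inv_mem c.2.2) hb⟩),
        Subtype.ext (by simp [hu, mul_assoc])⟩
      invFun := fun x => ⟨a⁻¹ * x.1.1, mem_inf.2 ⟨mul_mem (inv_mem ha) x.1.1.2, by
        have h : (x.1.1 : G) * x.1.2 = a * b := (congrArg Subtype.val x.2).trans hu
        rw [show a⁻¹ * (x.1.1 : G) = b * (x.1.2 : G)⁻¹ by
          rw [inv_mul_eq_iff_eq_mul, ← mul_assoc, ← h, mul_inv_cancel_right]]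
        exact mul_mem hb (inv_mem x.1.2.2)⟩⟩
      left_inv := fun c => Subtype.ext (by simp)
      right_inv := fun x => by
        have h : (x.1.1 : G) * x.1.2 = a * b := (congrArg Subtype.val x.2).trans hu
        refine Subtype.ext (Prod.ext (Subtype.ext (by simp)) (Subtype.ext ?_))
        show (a⁻¹ * (x.1.1 : G))⁻¹ * b = x.1.2
        rw [mul_inv_rev, inv_inv, mul_assoc, ← h, inv_mul_cancel_left] })

lemma card_mul_card {A B U : Subgroup G} (hA : A ≤ U) (hB : B ≤ U)
    (hU : ∀ u ∈ U, ∃ a ∈ A, ∃ b ∈ B, u = a * b) :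
    Nat.card A * Nat.card B = Nat.card ↥(A ⊓ B) * Nat.card U := by
  have := sum_mul_eq hA hB hU (fun _ => (1 : ℕ))
  simpa [Nat.card_eq_fintype_card] using this

lemma eq_one_of_mem_of_mem {p : ℕ} [Fact p.Prime] {M S : Subgroup G} (hS : IsPGroup p S)
    (hM : ¬ p ∣ Nat.card M) {x : G} (hxM : x ∈ M) (hxS : x ∈ S) : x = 1 := by
  obtain ⟨k, hk⟩ := hS ⟨x, hxS⟩
  refine eq_one_of_pow_pow ?_ (congrArg Subtype.val hk)
    (congrArg Subtype.val (pow_card_eq_one' (x := (⟨x, hxM⟩ : M))))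
  exact Nat.Coprime.pow_left k ((Fact.out : p.Prime).coprime_iff_not_dvd.2 hM)

lemma Tw.res {V : Type} [AddCommGroup V] [Module ℂ V] {M K : Subgroup G} (hMK : M ≤ K)
    {ρ : Representation ℂ K V} {g : G} {A : Module.End ℂ V} (h : Tw K ρ g A) :
    Tw M (ρ.comp (inclusion hMK)) g A :=
  fun n n' hn => h (inclusion hMK n) (inclusion hMK n') hn

section Res

variable {V : Type} [AddCommGroup V] [Module ℂ V] [FiniteDimensional ℂ V] {M K : Subgroup G}
  (hMK : M ≤ K) {ρ : Representation ℂ K V} [ρ.IsIrreducible]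

lemma mem_stab_res {g : G} (hg : g ∈ stab K ρ) (hgM : g ∈ normalizer (M : Set G)) :
    g ∈ stab M (ρ.comp (inclusion hMK)) :=
  ⟨hgM, hg.2.elim fun A hA => ⟨A, hA.res hMK⟩⟩

lemma pair_res {x y : G} {c : ℂ} (h : Pair K ρ x y c) (hd : Comm M x y) :
    Pair M (ρ.comp (inclusion hMK)) x y c := by
  obtain ⟨A, B, d, hA, hB, hd', he⟩ := h
  refine ⟨A, B, ⟨_, hd⟩, hA.res hMK, hB.res hMK, rfl, ?_⟩
  rw [he, show d = inclusion hMK ⟨_, hd⟩ from Subtype.ext hd']
  rfl

end Res

variable {p : ℕ} [Fact p.Prime] {M S C K K' H : Subgroup G}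

lemma mem_fixed_of_normalizes (hA : Acts p M S) (hC : C = M ⊓ centralizer (S : Set G)) {m : G}
    (hm : m ∈ M) (hmS : m ∈ normalizer (S : Set G)) : m ∈ C := by
  rw [hC]
  refine mem_inf.2 ⟨hm, mem_centralizer_iff.2 fun s hs => ?_⟩
  have h1 : m * s * m⁻¹ * s⁻¹ ∈ S :=
    mul_mem ((mem_normalizer_iff.1 hmS s).1 hs) (inv_mem hs)
  have h2 : m * s * m⁻¹ * s⁻¹ ∈ M := by
    rw [show m * s * m⁻¹ * s⁻¹ = m * (s * m⁻¹ * s⁻¹) by group]
    exact mul_mem hm (hA.conj_mem s hs _ (inv_mem hm))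
  have := eq_one_of_mem_of_mem hA.pS hA.pM h2 h1
  rw [mul_inv_eq_one, mul_inv_eq_iff_eq_mul] at this
  exact this.symm

lemma mem_sup_exists (hS : S ≤ normalizer (M : Set G)) {x : G} (hx : x ∈ M ⊔ S) :
    ∃ m ∈ M, ∃ s ∈ S, x = m * s := by
  have h : x ∈ ((M ⊔ S : Subgroup G) : Set G) := hx
  rw [coe_mul_of_right_le_normalizer_left M S hS] at h
  obtain ⟨m, hm, s, hs, rfl⟩ := h
  exact ⟨m, hm, s, hs, rfl⟩

/-- The equality of the two counts. -/
theorem card_over_eq (hA : Acts p M S) (hC : C = M ⊓ centralizer (S : Set G)) (hK : K = M ⊔ S)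
    (hK' : K' = C ⊔ S) (hMK : M ≤ K) (hCK' : C ≤ K') {V W : Type} [AddCommGroup V] [Module ℂ V]
    [FiniteDimensional ℂ V] [AddCommGroup W] [Module ℂ W] [FiniteDimensional ℂ W]
    (ρ : Representation ℂ K V) [ρ.IsIrreducible]
    [Representation.IsIrreducible (ρ.comp (inclusion hMK) : Representation ℂ M V)]
    (σ : Representation ℂ K' W) [σ.IsIrreducible]
    [Representation.IsIrreducible (σ.comp (inclusion hCK') : Representation ℂ C W)]
    (hg : GC p (fixed_le hC) (Representation.character (ρ.comp (inclusion hMK) : Representation ℂ M V))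
      (Representation.character (σ.comp (inclusion hCK') : Representation ℂ C W)))
    (hKH : K ≤ H) (hH : H ≤ stab K ρ) (hHM : H ≤ normalizer (M : Set G))
    (hN : H ⊓ normalizer (S : Set G) ≤ stab K' σ)
    (hdec : ∀ h ∈ H, ∃ m ∈ M, ∃ n ∈ H ⊓ normalizer (S : Set G), h = m * n)
    (hidx : ¬ p ∣ K.relIndex H) :
    Nat.card {χ : IrrCharacter H // Over K H (χ : H → ℂ) ρ.character} =
      Nat.card {χ : IrrCharacter ↥(H ⊓ normalizer (S : Set G)) //
        Over K' (H ⊓ normalizer (S : Set G)) (χ : ↥(H ⊓ normalizer (S : Set G)) → ℂ) σ.character} := by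
  classical
  set NH := H ⊓ normalizer (S : Set G) with hNH
  have hCM := fixed_le hC
  have hSK : S ≤ K := hK ▸ le_sup_right
  have hSK' : S ≤ K' := hK' ▸ le_sup_right
  have hMH : M ≤ H := hMK.trans hKH
  have hSH : S ≤ H := hSK.trans hKH
  have hSN : S ≤ NH := le_inf hSH le_normalizer
  have hCS : C ≤ normalizer (S : Set G) :=
    (hC ▸ inf_le_right : C ≤ centralizer (S : Set G)).trans (centralizer_le_normalizer _)
  have hK'N : K' ≤ NH := hK' ▸ sup_le (le_inf (hCM.trans hMH) hCS) hSN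
  have hK'K : K' ≤ K := hK' ▸ sup_le (hCM.trans hMK) hSK
  have hMN : M ⊓ NH = C := le_antisymm
    (fun x hx => mem_fixed_of_normalizes hA hC hx.1 hx.2.2)
    (le_inf hCM (le_inf (hCM.trans hMH) hCS))
  have hKN : ∀ x ∈ K, x ∈ NH → x ∈ K' := by
    intro x hx hxN
    rw [hK] at hx
    obtain ⟨m, hm, s, hs, rfl⟩ := mem_sup_exists hA.norm hx
    refine mul_mem (hCK' (mem_fixed_of_normalizes hA hC hm ?_)) (hSK' hs)
    have := mul_mem (mem_inf.1 hxN).2 (inv_mem (le_normalizer hs))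
    rwa [mul_inv_cancel_right] at this
  -- orders
  have hCS' : S ≤ normalizer (C : Set G) := fun s hs =>
    normalizes_fixed hC (hA.norm hs) (le_normalizer hs)
  have hMS : M ⊓ S = ⊥ := eq_bot_iff.2 fun x hx => eq_one_of_mem_of_mem hA.pS hA.pM hx.1 hx.2
  have hCbot : C ⊓ S = ⊥ := eq_bot_iff.2 fun x hx => hMS.le ⟨hCM hx.1, hx.2⟩
  have cK : Nat.card M * Nat.card S = Nat.card K := by
    rw [card_mul_card hMK hSK (fun u hu => mem_sup_exists hA.norm (hK ▸ hu)), hMS, card_bot, one_mul]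
  have cK' : Nat.card C * Nat.card S = Nat.card K' := by
    rw [card_mul_card hCK' hSK' (fun u hu => mem_sup_exists hCS' (hK' ▸ hu)), hCbot, card_bot,
      one_mul]
  have cH : Nat.card M * Nat.card NH = Nat.card C * Nat.card H := by
    rw [card_mul_card hMH inf_le_left hdec, hMN]
  -- a complement
  haveI : (S.subgroupOf NH).Normal := ⟨fun n hn g => conj_mem_of_normalizes g.2.2 ⟨_, hn⟩⟩
  have hrel : ¬ p ∣ S.relIndex NH := by
    have hri : ∀ (A B : Subgroup G), A ≤ B → A.relIndex B * Nat.card A = Nat.card B := fun A B h => by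
      rw [← Nat.card_congr (subgroupOfEquivOfLe h).toEquiv]
      exact index_mul_card _
    have h1 := hri S NH hSN
    have h2 := hri K H hKH
    have h3 : Nat.card M * (S.relIndex NH * Nat.card S) =
        Nat.card M * (Nat.card C * K.relIndex H * Nat.card S) := by
      rw [h1, cH, ← h2, ← cK]; ring
    rw [Nat.eq_of_mul_eq_mul_right Nat.card_pos (Nat.eq_of_mul_eq_mul_left Nat.card_pos h3)]
    exact fun hd => ((Fact.out : p.Prime).dvd_mul.1 hd).elim
      (fun hd => hA.pM (hd.trans (card_dvd_of_le hCM))) hidx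
  obtain ⟨A, hAc⟩ := exists_right_complement'_of_coprime (N := S.subgroupOf NH) (by
    rw [Nat.card_congr (subgroupOfEquivOfLe hSN).toEquiv]
    obtain ⟨k, hk⟩ := IsPGroup.iff_card.1 hA.pS
    rw [hk]
    exact Nat.Coprime.pow_left k ((Fact.out : p.Prime).coprime_iff_not_dvd.2 hrel))
  have hAp : ¬ p ∣ Nat.card A := by
    rw [← hAc.symm.index_eq_card]
    exact hrel
  have hdecN : ∀ n : NH, ∃ a ∈ A, ∃ s : S, (n : G) = (a : G) * s := by
    intro n
    obtain ⟨⟨s, a⟩, hsa⟩ := hAc.2 n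
    refine ⟨a, a.2, ⟨(a : G)⁻¹ * (s : G) * ((a : G)⁻¹)⁻¹,
      conj_mem_of_normalizes (inv_mem (a : NH).2.2) ⟨((s : NH) : G), s.2⟩⟩, ?_⟩
    rw [← hsa]
    simp [mul_assoc]
  -- the values agree on the complement
  have hSstab : S ≤ stab M (ρ.comp (inclusion hMK) : Representation ℂ M V) := fun s hs =>
    mem_stab_res hMK (hH (hSH hs)) (hA.norm hs)
  have hbase : ∀ a ∈ A, ∀ b ∈ A, pval K ρ (a : G) b = pval K' σ (a : G) b := by
    intro a ha b hb
    have haK := hH a.2.1
    have hbK := hH b.2.1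
    have haK' := hN a.2
    have hbK' := hN b.2
    set z : NH := a⁻¹ * (b * a * b⁻¹) with hz
    by_cases hc : Comm K (a : G) b
    · have hzK' : (z : G) ∈ K' := hKN _ hc z.2
      have hzC : (z : G) ∈ C := by
        obtain ⟨c, hc', s, hs, he⟩ := mem_sup_exists hCS' (hK' ▸ hzK')
        have hcs : Commute c s :=
          (mem_centralizer_iff.1 ((hC ▸ hc' : c ∈ M ⊓ centralizer (S : Set G))).2 s hs).symm
        have hzA : z ∈ A := mul_mem (inv_mem ha) (mul_mem (mul_mem hb ha) (inv_mem hb))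
        have hzpow : (z : G) ^ Nat.card A = 1 := by
          exact congrArg (fun t : A => ((t : NH) : G)) (pow_card_eq_one' (x := (⟨z, hzA⟩ : A)))
        have hs1 : s = 1 := by
          obtain ⟨k, hk⟩ := hA.pS ⟨s, hs⟩
          refine eq_one_of_pow_pow (n := Nat.card C * Nat.card A) (Nat.Coprime.pow_left k
            ((Fact.out : p.Prime).coprime_iff_not_dvd.2 fun hd => ((Fact.out : p.Prime).dvd_mul.1 hd).elim
              (fun hd => hA.pM (hd.trans (card_dvd_of_le hCM))) hAp)) (congrArg Subtype.val hk) ?_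
          have hcC : c ^ (Nat.card C * Nat.card A) = 1 := by
            rw [pow_mul, show c ^ Nat.card C = 1 from
              congrArg Subtype.val (pow_card_eq_one' (x := (⟨c, hc'⟩ : C))), one_pow]
          have h4 : (c * s) ^ (Nat.card C * Nat.card A) = 1 := by
            rw [← he, mul_comm, pow_mul, hzpow, one_pow]
          rwa [hcs.mul_pow, hcC, one_mul] at h4
        rwa [he, hs1, mul_one]
      have hcC : Comm C (a : G) b := hzC
      obtain ⟨c₁, -, hp₁⟩ := exists_pair haK hbK hc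
      obtain ⟨c₂, -, hp₂⟩ := exists_pair haK' hbK' hzK'
      have ha0 := mem_stab_res hMK haK (hHM a.2.1)
      have hb0 := mem_stab_res hMK hbK (hHM b.2.1)
      have hclp : ¬ p ∣ Nat.card (closure ({(a : G), (b : G)} : Set G)) := fun hd => hAp <| by
        have hle : closure ({(a : G), (b : G)} : Set G) ≤ A.map NH.subtype :=
          (closure_le _).2 (by
            rintro x (rfl | rfl)
            exacts [⟨a, ha, rfl⟩, ⟨b, hb, rfl⟩])
        rw [← Nat.card_congr (A.equivMapOfInjective NH.subtype NH.subtype_injective).symm.toEquiv]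
        exact hd.trans (card_dvd_of_le hle)
      obtain ⟨c, hcM', hcC'⟩ := agree_of_gc hA hC (invBy_of_le_stab hSstab) hg ha0 hb0 a.2.2 b.2.2
        hcC hclp
      rw [pval_eq hp₁ haK hbK, pval_eq hp₂ haK' hbK',
        (pair_res hMK hp₁ (hCM hzC)).unique hcM' ha0 hb0,
        (pair_res hCK' hp₂ hzC).unique hcC' (mem_stab_res hCK' haK' (normalizes_fixed hC (hHM a.2.1) a.2.2))
          (mem_stab_res hCK' hbK' (normalizes_fixed hC (hHM b.2.1) b.2.2))]
    · rw [pval_eq_zero hc, pval_eq_zero fun h => hc (hK'K h)]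
  have hval : ∀ n n' : NH, pval K ρ (n : G) n' = pval K' σ (n : G) n' := by
    intro n n'
    obtain ⟨a, ha, s, hs⟩ := hdecN n
    obtain ⟨b, hb, t, ht⟩ := hdecN n'
    rw [hs, ht, pval_mul_left (hH a.2.1) (mul_mem (hH b.2.1) (le_stab (hSK t.2))) ⟨s, hSK s.2⟩,
      pval_mul_right (hH a.2.1) (hH b.2.1) ⟨t, hSK t.2⟩,
      pval_mul_left (hN a.2) (mul_mem (hN b.2) (le_stab (hSK' t.2))) ⟨s, hSK' s.2⟩,
      pval_mul_right (hN a.2) (hN b.2) ⟨t, hSK' t.2⟩]
    exact hbase a ha b hb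
  -- shift to the normaliser
  have hshift : ∀ (m : M) (n : NH) (g : G), g ∈ H →
      pval K ρ ((m : G) * n) g = pval K ρ (n : G) g ∧ pval K ρ g ((m : G) * n) = pval K ρ g n := by
    intro m n g hg'
    let m' : K := ⟨(n : G)⁻¹ * (m : G) * (n : G)⁻¹⁻¹, hMK (conj_mem_of_normalizes (inv_mem (hHM n.2.1)) m)⟩
    rw [show (m : G) * n = n * (m' : G) by simp [m', mul_assoc]]
    exact ⟨pval_mul_left (hH n.2.1) (hH hg') m', pval_mul_right (hH hg') (hH n.2.1) m'⟩
  have inner : ∀ g ∈ H, (Nat.card C : ℂ) * ∑ h : H, pval K ρ g h =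
      (Nat.card M : ℂ) * ∑ n : NH, pval K ρ g n := by
    intro g hg'
    rw [← hMN, ← sum_mul_eq hMH inf_le_left hdec (fun h => pval K ρ g h)]
    simp only [fun (m : M) (n : NH) => (hshift m n g hg').2, Finset.sum_const, Finset.card_univ,
      nsmul_eq_mul, Nat.card_eq_fintype_card]
    rfl
  have hsum : (Nat.card C : ℂ) ^ 2 * ∑ g : H, ∑ h : H, pval K ρ (g : G) h =
      (Nat.card M : ℂ) ^ 2 * ∑ n : NH, ∑ n' : NH, pval K' σ (n : G) n' := by
    rw [pow_two, mul_assoc, Finset.mul_sum (a := (Nat.card C : ℂ)),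
      Finset.sum_congr rfl fun (g : H) _ => inner g g.2, ← Finset.mul_sum, mul_left_comm,
      show (Nat.card C : ℂ) * ∑ g : H, ∑ n : NH, pval K ρ (g : G) n =
        (Nat.card M : ℂ) * ∑ n : NH, ∑ n' : NH, pval K' σ (n : G) n' by
      rw [← hMN, ← sum_mul_eq hMH inf_le_left hdec (fun g => ∑ n : NH, pval K ρ g n)]
      simp only [fun (m : M) (n n' : NH) => (hshift m n (n' : G) n'.2.1).1, hval, Finset.sum_const,
        Finset.card_univ, nsmul_eq_mul, Nat.card_eq_fintype_card]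
      rfl]
    ring
  rw [← card_over_mul_eq K ρ H hKH hH, ← card_over_mul_eq K' σ NH hK'N hN] at hsum
  have e1 : ∀ χ : IrrCharacter H, Over K H (χ : H → ℂ) ρ.character ↔
      classInner (fun k : K => (χ : H → ℂ) (inclusion hKH k)) ρ.character ≠ 0 := fun χ =>
    ⟨fun h => h.2, fun h => ⟨hKH, h⟩⟩
  have e2 : ∀ χ : IrrCharacter NH, Over K' NH (χ : NH → ℂ) σ.character ↔
      classInner (fun k : K' => (χ : NH → ℂ) (inclusion hK'N k)) σ.character ≠ 0 := fun χ =>
    ⟨fun h => h.2, fun h => ⟨hK'N, h⟩⟩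
  rw [Nat.card_congr (Equiv.subtypeEquivRight e1), Nat.card_congr (Equiv.subtypeEquivRight e2)]
  set a := Nat.card {χ : IrrCharacter H //
    classInner (fun k : K => (χ : H → ℂ) (inclusion hKH k)) ρ.character ≠ 0}
  set b := Nat.card {χ : IrrCharacter NH //
    classInner (fun k : K' => (χ : NH → ℂ) (inclusion hK'N k)) σ.character ≠ 0}
  have hsum' : Nat.card C ^ 2 * (a * Nat.card H * Nat.card K) =
      Nat.card M ^ 2 * (b * Nat.card NH * Nat.card K') := by exact_mod_cast hsum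
  rw [← cK, ← cK'] at hsum'
  have h2 : a * (Nat.card C * (Nat.card C * Nat.card H) * Nat.card M * Nat.card S) =
      b * (Nat.card C * (Nat.card M * Nat.card NH) * Nat.card M * Nat.card S) := by
    linear_combination hsum'
  rw [cH] at h2
  exact Nat.eq_of_mul_eq_mul_right (Nat.mul_pos (Nat.mul_pos (Nat.mul_pos Nat.card_pos
    (Nat.mul_pos Nat.card_pos Nat.card_pos)) Nat.card_pos) Nat.card_pos) h2

end Cfsg.Lib.RelMcKay
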