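import Mathlib
import Cfsg.Agent.Chars.RelMcKay.Cano
import Cfsg.Agent.Chars.RelMcKay.CoreCount

/-!
# The correspondence of characters of `p'`-degree of the two extensions by the `p`-group
-/

set_option autoImplicit false
set_option linter.unusedSectionVars false

namespace Cfsg.Lib.RelMcKay

open Cfsg Cfsg.Lib.Chars Subgroup
open scoped ComplexConjugate

universe u

attribute [local instance high] Fintype.ofFinite

variable {G : Type u} [Group G] [Finite G] {p : ℕ} [Fact p.Prime]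

/-- A `p`-group acting on a `p'`-group, the fixed points and the two extensions. -/
structure Ctx (p : ℕ) (M S C K K' : Subgroup G) : Prop where
  acts : Acts p M S
  fixed : C = M ⊓ centralizer (S : Set G)
  supM : K = M ⊔ S
  supC : K' = C ⊔ S

variable {M S C K K' : Subgroup G}

namespace Ctx

lemma le_M (c : Ctx p M S C K K') : M ≤ K := c.supM ▸ le_sup_left
lemma S_le (c : Ctx p M S C K K') : S ≤ K := c.supM ▸ le_sup_right
lemma le_C (c : Ctx p M S C K K') : C ≤ K' := c.supC ▸ le_sup_left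
lemma S_le' (c : Ctx p M S C K K') : S ≤ K' := c.supC ▸ le_sup_right
lemma C_le (c : Ctx p M S C K K') : C ≤ M := fixed_le c.fixed

lemma K'_le (c : Ctx p M S C K K') : K' ≤ K :=
  c.supC ▸ sup_le (c.C_le.trans c.le_M) c.S_le

lemma S_norm_C (c : Ctx p M S C K K') : S ≤ normalizer (C : Set G) := fun _ hs =>
  normalizes_fixed c.fixed (c.acts.norm hs) (le_normalizer hs)

lemma C_norm_S (c : Ctx p M S C K K') : C ≤ normalizer (S : Set G) :=
  (c.fixed ▸ inf_le_right : C ≤ centralizer (S : Set G)).trans (centralizer_le_normalizer _)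

lemma invBy_fixed (c : Ctx p M S C K K') (β : C → ℂ) : InvBy C S β := by
  intro s hs a a' ha
  rw [show a' = a from Subtype.ext (by
    rw [ha, mem_centralizer_iff.1 (c.fixed ▸ a.2 : (a : G) ∈ M ⊓ centralizer (S : Set G)).2 s hs,
      mul_inv_cancel_right])]

lemma relIndex_eq {A B : Subgroup G} (hB : B ≤ normalizer (A : Set G)) (h : A ⊓ B = ⊥) :
    A.relIndex (A ⊔ B) = Nat.card B := by
  have h1 := card_mul_card (U := A ⊔ B) le_sup_left le_sup_right fun u hu => mem_sup_exists hB hu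
  rw [h, card_bot, one_mul] at h1
  have h2 : A.relIndex (A ⊔ B) * Nat.card A = Nat.card ↥(A ⊔ B) := by
    rw [← Nat.card_congr (subgroupOfEquivOfLe (le_sup_left : A ≤ A ⊔ B)).toEquiv]
    exact index_mul_card _
  rw [← h1, mul_comm (Nat.card A)] at h2
  exact Nat.eq_of_mul_eq_mul_right Nat.card_pos h2

lemma semi (c : Ctx p M S C K K') : Semi p M K := by
  refine ⟨c.le_M, c.supM ▸ sup_le le_normalizer c.acts.norm, c.acts.pM, ?_⟩
  rw [c.supM, relIndex_eq c.acts.norm (eq_bot_iff.2 fun x hx =>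
    eq_one_of_mem_of_mem c.acts.pS c.acts.pM hx.1 hx.2)]
  exact IsPGroup.iff_card.1 c.acts.pS

lemma semi' (c : Ctx p M S C K K') : Semi p C K' := by
  refine ⟨c.le_C, c.supC ▸ sup_le le_normalizer c.S_norm_C,
    fun hd => c.acts.pM (hd.trans (card_dvd_of_le c.C_le)), ?_⟩
  rw [c.supC, relIndex_eq c.S_norm_C (eq_bot_iff.2 fun x hx =>
    eq_one_of_mem_of_mem c.acts.pS c.acts.pM (c.C_le hx.1) hx.2)]
  exact IsPGroup.iff_card.1 c.acts.pS

lemma norm_K (c : Ctx p M S C K K') {g : G} (hgM : g ∈ normalizer (M : Set G))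
    (hgS : g ∈ normalizer (S : Set G)) : g ∈ normalizer (K : Set G) := by
  refine mem_normalizer_fintype fun x hx => ?_
  rw [SetLike.mem_coe, c.supM] at hx ⊢
  obtain ⟨m, hm, s, hs, rfl⟩ := mem_sup_exists c.acts.norm hx
  rw [show g * (m * s) * g⁻¹ = (g * m * g⁻¹) * (g * s * g⁻¹) by group]
  exact mul_mem (mem_sup_left ((mem_normalizer_iff.1 hgM m).1 hm))
    (mem_sup_right ((mem_normalizer_iff.1 hgS s).1 hs))

lemma norm_K' (c : Ctx p M S C K K') {g : G} (hgM : g ∈ normalizer (M : Set G))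
    (hgS : g ∈ normalizer (S : Set G)) : g ∈ normalizer (K' : Set G) := by
  refine mem_normalizer_fintype fun x hx => ?_
  rw [SetLike.mem_coe, c.supC] at hx ⊢
  obtain ⟨m, hm, s, hs, rfl⟩ := mem_sup_exists c.S_norm_C hx
  rw [show g * (m * s) * g⁻¹ = (g * m * g⁻¹) * (g * s * g⁻¹) by group]
  exact mul_mem (mem_sup_left ((mem_normalizer_iff.1 (normalizes_fixed c.fixed hgM hgS) m).1 hm))
    (mem_sup_right ((mem_normalizer_iff.1 hgS s).1 hs))

/-- Invariance of the restriction of a class function. -/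
lemma invBy_res (c : Ctx p M S C K K') {η : K → ℂ} (hη : IsIrrCharacter K η) :
    InvBy M S (fun m => η (inclusion c.le_M m)) := fun s hs a a' ha => by
  show η _ = η _
  rw [show inclusion c.le_M a' = (⟨s, c.S_le hs⟩ : K) * inclusion c.le_M a *
    (⟨s, c.S_le hs⟩ : K)⁻¹ from Subtype.ext ha]
  exact isClassFunction_isChar (isCharacter_of_irr hη) _ _

/-- Corresponding characters of the two extensions. -/
def Rel (c : Ctx p M S C K K') (η : K → ℂ) (η' : K' → ℂ) : Prop :=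
  ∃ (η₀ : K → ℂ) (η₀' : K' → ℂ) (μ : K →* ℂˣ), Cano p M K η₀ ∧ Cano p C K' η₀' ∧
    GC p c.C_le (fun m => η₀ (inclusion c.le_M m)) (fun x => η₀' (inclusion c.le_C x)) ∧
    (∀ m : M, μ (inclusion c.le_M m) = 1) ∧ (η = fun k => (μ k : ℂ) * η₀ k) ∧
    η' = fun k => (μ (inclusion c.K'_le k) : ℂ) * η₀' k

lemma res_twist (c : Ctx p M S C K K') {μ : K →* ℂˣ} (hμ : ∀ m : M, μ (inclusion c.le_M m) = 1)
    (x : C) : μ.comp (inclusion c.K'_le) (inclusion c.le_C x) = 1 :=
  hμ (inclusion c.C_le x)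

lemma exists_right (c : Ctx p M S C K K') {η : K → ℂ} (hη : IsIrrCharacter K η)
    (hp : ¬ p ∣ deg η) : ∃ η' : IrrCharacter K', c.Rel η (η' : K' → ℂ) := by
  obtain ⟨η₀, μ, h0, hμ, he⟩ := exists_cano_twist c.semi hη hp
  obtain ⟨_, hr⟩ := h0.2.1
  obtain ⟨β, hβ, hg⟩ := exists_gc c.acts c.fixed hr (c.invBy_res h0.1)
  obtain ⟨η₀', h0', he'⟩ := exists_cano c.semi' hβ (c.supC ▸
    invBy_sup le_normalizer c.S_norm_C (invBy_self (isClassFunction_isChar (isCharacter_of_irr hβ)))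
      (c.invBy_fixed β))
  refine ⟨⟨_, IsIrrCharacter.mul_linear h0'.1 (μ.comp (inclusion c.K'_le))⟩,
    η₀, η₀', μ, h0, h0', ?_, hμ, he, rfl⟩
  rw [funext he']
  exact hg

lemma exists_left (c : Ctx p M S C K K') {η' : K' → ℂ} (hη : IsIrrCharacter K' η')
    (hp : ¬ p ∣ deg η') : ∃ η : IrrCharacter K, c.Rel (η : K → ℂ) η' := by
  obtain ⟨η₀', μ', h0', hμ', he'⟩ := exists_cano_twist c.semi' hη hp
  obtain ⟨_, hr⟩ := h0'.2.1
  obtain ⟨θ, hθ, hinv, hg⟩ := gc_surjective c.acts c.fixed hr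
  obtain ⟨η₀, h0, he⟩ := exists_cano c.semi hθ (c.supM ▸
    invBy_sup le_normalizer c.acts.norm (invBy_self (isClassFunction_isChar (isCharacter_of_irr hθ)))
      hinv)
  haveI := normal_subgroupOf' c.semi.norm
  let e : S →* K ⧸ M.subgroupOf K := (QuotientGroup.mk' _).comp (inclusion c.S_le)
  have hbot : ∀ x : G, x ∈ M → x ∈ S → x = 1 := fun x h1 h2 =>
    eq_one_of_mem_of_mem c.acts.pS c.acts.pM h1 h2
  have hbij : Function.Bijective e := by
    refine ⟨(injective_iff_map_eq_one e).2 fun s hs => ?_, fun q => ?_⟩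
    · exact Subtype.ext (hbot _ ((QuotientGroup.eq_one_iff (inclusion c.S_le s)).1 hs) s.2)
    · obtain ⟨k, rfl⟩ := QuotientGroup.mk'_surjective _ q
      obtain ⟨m, hm, s, hs, hk⟩ := mem_sup_exists c.acts.norm (show (k : G) ∈ M ⊔ S from c.supM ▸ k.2)
      refine ⟨⟨s, hs⟩, QuotientGroup.eq.2 ?_⟩
      show s⁻¹ * (k : G) ∈ M
      rw [hk, ← mul_assoc]
      simpa using (mem_normalizer_iff.1 (inv_mem (c.acts.norm hs)) m).1 hm
  let π : K →* S := (MulEquiv.ofBijective e hbij).symm.toMonoidHom.comp (QuotientGroup.mk' _)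
  let μ : K →* ℂˣ := (μ'.comp (inclusion c.S_le')).comp π
  have hπM : ∀ m : M, π (inclusion c.le_M m) = 1 := fun m => by
    show (MulEquiv.ofBijective e hbij).symm (QuotientGroup.mk' _ (inclusion c.le_M m)) = 1
    rw [show QuotientGroup.mk' (M.subgroupOf K) (inclusion c.le_M m) = 1 from
      (QuotientGroup.eq_one_iff _).2 m.2, map_one]
  have hπS : ∀ s : S, π (inclusion c.S_le s) = s := fun s =>
    (MulEquiv.ofBijective e hbij).symm_apply_apply s
  have hres : ∀ k : K', μ (inclusion c.K'_le k) = μ' k := by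
    intro k
    obtain ⟨x, hx, s, hs, hk⟩ := mem_sup_exists c.S_norm_C (show (k : G) ∈ C ⊔ S from c.supC ▸ k.2)
    rw [show k = inclusion c.le_C ⟨x, hx⟩ * inclusion c.S_le' ⟨s, hs⟩ from Subtype.ext hk, map_mul,
      map_mul μ', hμ', one_mul, map_mul]
    show μ' (inclusion c.S_le' (π (inclusion c.le_M (inclusion c.C_le ⟨x, hx⟩)))) *
      μ' (inclusion c.S_le' (π (inclusion c.S_le ⟨s, hs⟩))) = _
    rw [hπM, hπS, map_one, map_one, one_mul]
  have hμM : ∀ m : M, μ (inclusion c.le_M m) = 1 := fun m => by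
    show μ' (inclusion c.S_le' (π (inclusion c.le_M m))) = 1
    rw [hπM, map_one, map_one]
  refine ⟨⟨_, IsIrrCharacter.mul_linear h0.1 μ⟩, η₀, η₀', μ, h0, h0', ?_, hμM, rfl, ?_⟩
  · rw [funext he]
    exact hg
  · rw [he']
    funext k
    rw [hres]

lemma left_unique (c : Ctx p M S C K K') {η η₁ : K → ℂ} {η' : K' → ℂ} (h : c.Rel η η')
    (h₁ : c.Rel η₁ η') : η = η₁ := by
  obtain ⟨a, a', μ, ha, ha', hg, hμ, rfl, rfl⟩ := h
  obtain ⟨b, b', ν, hb, hb', hg', hν, rfl, e⟩ := h₁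
  obtain ⟨rfl, e2⟩ := cano_twist_inj c.semi' ha' hb' (c.res_twist hμ) (c.res_twist hν) e
  obtain ⟨_, hr⟩ := ha.2.1
  obtain ⟨_, hr'⟩ := hb.2.1
  obtain ⟨_, hs⟩ := ha'.2.1
  have e1 : a = b := cano_unique c.semi ha hb (congrFun
    (gc_injective c.acts c.fixed hr (c.invBy_res ha.1) hr' (c.invBy_res hb.1) hs hg hg'))
  subst e1
  funext k
  congr 2
  obtain ⟨m, hm, s, hs, hk⟩ := mem_sup_exists c.acts.norm (show (k : G) ∈ M ⊔ S from c.supM ▸ k.2)
  rw [show k = inclusion c.le_M ⟨m, hm⟩ * inclusion c.K'_le (inclusion c.S_le' ⟨s, hs⟩) from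
    Subtype.ext hk, map_mul, map_mul, hμ, hν]
  exact congrArg (1 * ·) (DFunLike.congr_fun e2 (inclusion c.S_le' ⟨s, hs⟩))

lemma right_unique (c : Ctx p M S C K K') {η : K → ℂ} {η' η₁' : K' → ℂ} (h : c.Rel η η')
    (h₁ : c.Rel η η₁') : η' = η₁' := by
  obtain ⟨a, a', μ, ha, ha', hg, hμ, rfl, rfl⟩ := h
  obtain ⟨b, b', ν, hb, hb', hg', hν, e, rfl⟩ := h₁
  obtain ⟨rfl, rfl⟩ := cano_twist_inj c.semi ha hb hμ hν e
  obtain ⟨_, hr⟩ := ha.2.1
  obtain ⟨_, hs⟩ := ha'.2.1
  obtain ⟨_, hs'⟩ := hb'.2.1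
  have e1 : a' = b' := cano_unique c.semi' ha' hb' (congrFun
    (gc_unique c.acts c.fixed hr (c.invBy_res ha.1) hs hs' hg hg'))
  rw [e1]

lemma not_dvd_deg (c : Ctx p M S C K K') {η : K → ℂ} {η' : K' → ℂ} (h : c.Rel η η') :
    ¬ p ∣ deg η ∧ ¬ p ∣ deg η' := by
  obtain ⟨a, a', μ, ha, ha', hg, hμ, rfl, rfl⟩ := h
  constructor
  · rw [deg_eq_of_apply_one (isCharacter_of_irr (IsIrrCharacter.mul_linear ha.1 μ))
      (isCharacter_of_irr ha.1) (by simp)]
    exact c.semi.not_dvd_deg ha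
  · have := deg_eq_of_apply_one
      (isCharacter_of_irr (IsIrrCharacter.mul_linear ha'.1 (μ.comp (inclusion c.K'_le))))
      (isCharacter_of_irr ha'.1) (by simp)
    exact fun hd => c.semi'.not_dvd_deg ha' (this ▸ hd)

lemma rel_conj (c : Ctx p M S C K K') {η : K → ℂ} {η' : K' → ℂ} (h : c.Rel η η') {g : G}
    (hgM : g ∈ normalizer (M : Set G)) (hgS : g ∈ normalizer (S : Set G)) :
    c.Rel (fun k => η (conjEquiv K (c.norm_K hgM hgS) k))
      (fun k => η' (conjEquiv K' (c.norm_K' hgM hgS) k)) := by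
  obtain ⟨a, a', μ, ha, ha', hg, hμ, rfl, rfl⟩ := h
  have hgC := normalizes_fixed c.fixed hgM hgS
  refine ⟨_, _, μ.comp (conjEquiv K (c.norm_K hgM hgS)).toMonoidHom, ha.conj hgM (c.norm_K hgM hgS),
    ha'.conj hgC (c.norm_K' hgM hgS), ?_, fun m => ?_, rfl, ?_⟩
  · exact gc_conj c.fixed hgM hgS hg
  · show μ (conjEquiv K (c.norm_K hgM hgS) (inclusion c.le_M m)) = 1
    exact hμ (conjEquiv M hgM m)
  · funext k
    rfl

/-- Corresponding characters have the same central values. -/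
lemma rel_central (c : Ctx p M S C K K') {η : K → ℂ} {η' : K' → ℂ} (h : c.Rel η η') {x s : G}
    (hx : x ∈ C) (hs : s ∈ S) (hcx : x ∈ centralizer (M : Set G))
    (hcs : s ∈ centralizer (K : Set G)) :
    η (inclusion c.K'_le ⟨x * s, mul_mem (c.le_C hx) (c.S_le' hs)⟩) * η' 1 =
      η' ⟨x * s, mul_mem (c.le_C hx) (c.S_le' hs)⟩ * η 1 := by
  obtain ⟨a, a', μ, ha, ha', hg, hμ, rfl, rfl⟩ := h
  obtain ⟨j, hj⟩ := c.acts.pS ⟨s, hs⟩
  have hj' : s ^ p ^ j = 1 := congrArg Subtype.val hj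
  have hZ : zpowers x ≤ C := zpowers_le.2 hx
  obtain ⟨_, hr⟩ := ha.2.1
  obtain ⟨_, hr'⟩ := ha'.2.1
  -- `x` acts by the same scalar
  have hcentM : M ≤ centralizer (zpowers x : Set G) := fun m hm => mem_centralizer_iff.2 fun z hz =>
    (mem_centralizer_iff.1 ((centralizer (M : Set G)).zpow_mem hcx (mem_zpowers_iff.1 hz).choose) m
      hm).symm |> fun h => by rwa [(mem_zpowers_iff.1 hz).choose_spec] at h
  obtain ⟨ω, hω⟩ := exists_central_char (hZ.trans c.C_le) hcentM hr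
  have hover : Over C M (fun m => a (inclusion c.le_M m)) (fun y => a' (inclusion c.le_C y)) := by
    obtain ⟨n, hn, hpn⟩ := hg
    exact ⟨c.C_le, hn ▸ Nat.cast_ne_zero.2 fun h0 => hpn (h0 ▸ dvd_zero p)⟩
  have hω' : ∀ z : zpowers x, a' (inclusion c.le_C (inclusion hZ z)) = a' 1 * (ω z : ℂ) := by
    obtain ⟨ω', hω'⟩ := exists_central_char hZ (c.C_le.trans hcentM) hr'
    have h1 := hover.trans (isCharacter_of_irr hr) hr' (isIrrCharacter_linear ω')
      ((over_central_iff hZ (c.C_le.trans hcentM) hr' ω').2 hω')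
    have h2 := (over_central_iff (hZ.trans c.C_le) hcentM hr ω').1 h1
    intro z
    have e := (hω z).symm.trans (h2 z)
    have h0 := IsIrrCharacter.apply_one_ne_zero hr
    rw [mul_right_inj' h0] at e
    rw [e]
    simpa using hω' z
  -- `s` acts trivially
  let z₀ : zpowers x := ⟨x, mem_zpowers x⟩
  let X : K' := inclusion c.le_C (inclusion hZ z₀)
  let Y : K' := ⟨s, c.S_le' hs⟩
  have hXY : (⟨x * s, mul_mem (c.le_C hx) (c.S_le' hs)⟩ : K') = X * Y := rfl
  have key : ∀ (H : Subgroup G) (hK'H : K' ≤ H) (hcH : H ≤ centralizer ({s} : Set G)) (f : H → ℂ),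
      IsIrrCharacter H f → f (inclusion hK'H Y) = f 1 →
      f (inclusion hK'H (X * Y)) = f (inclusion hK'H X) := by
    intro H hK'H hcH f hf hY
    obtain ⟨n, ρ, hρ, rfl⟩ := hf
    have hY' : ρ (inclusion hK'H Y) = 1 := by
      have := (eq_id_of_character_eq_finrank ρ (inclusion hK'H Y)).mp (by rw [hY, ρ.char_one])
      exact this
    show LinearMap.trace ℂ _ _ = LinearMap.trace ℂ _ _
    rw [map_mul, map_mul ρ, hY', mul_one]
  have hYK : ∀ k : K, k * inclusion c.K'_le Y = inclusion c.K'_le Y * k := fun k => Subtype.ext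
    (mem_centralizer_iff.1 hcs k k.2)
  have hYK' : ∀ k : K', k * Y = Y * k := fun k => Subtype.ext
    (mem_centralizer_iff.1 hcs k (c.K'_le k.2))
  have ea : a (inclusion c.K'_le Y) = a 1 := cano_central c.semi ha hYK (j := j) (Subtype.ext hj')
  have ea' : a' Y = a' 1 := cano_central c.semi' ha' hYK' (j := j) (Subtype.ext hj')
  have hKs : K ≤ centralizer ({s} : Set G) := fun k hk =>
    mem_centralizer_singleton_iff.2 (mem_centralizer_iff.1 hcs k hk)
  have e1 : a (inclusion c.K'_le (X * Y)) = a 1 * (ω z₀ : ℂ) := by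
    rw [key K c.K'_le hKs a ha.1 ea]
    have := hω z₀
    rw [show inclusion c.le_M (1 : M) = 1 from map_one _] at this
    exact this
  have e2 : a' (X * Y) = a' 1 * (ω z₀ : ℂ) := by
    have := key K' le_rfl (c.K'_le.trans hKs) a' ha'.1 ea'
    exact this.trans (hω' z₀)
  simp only [hXY, e1, e2, map_one, Units.val_one, one_mul]
  ring

end Ctx

end Cfsg.Lib.RelMcKay
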