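import Mathlib
import Cfsg.Agent.Chars.RelMcKay.Rel

/-!
# The count for a central `ν`
-/

set_option autoImplicit false
set_option linter.unusedSectionVars false

namespace Cfsg.Lib.RelMcKay

open Cfsg Cfsg.Lib.Chars Subgroup
open scoped ComplexConjugate

universe u

attribute [local instance high] Fintype.ofFinite

variable {G : Type u} [Group G] [Finite G] {p : ℕ} [Fact p.Prime] {K H S Z : Subgroup G}

lemma irreducible_of_irr {H : Type u} [Group H] [Finite H] {V : Type} [AddCommGroup V] [Module ℂ V]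
    [FiniteDimensional ℂ V] (ρ : Representation ℂ H V) (h : IsIrrCharacter H ρ.character) :
    ρ.IsIrreducible := by
  obtain ⟨n, τ, hτ, e⟩ := h
  haveI := hτ
  obtain ⟨φ⟩ := nonempty_equiv_of_character_eq (Fin n → ℂ) V τ ρ e
  exact isIrreducible_of_equiv φ

open scoped Classical in
/-- The sum through a normal overgroup of a Sylow subgroup. -/
lemma cntP_eq_sum (hSK : S ≤ K) (hKH : K ≤ H) (hH : H ≤ normalizer (K : Set G))
    (hpS : IsPGroup p S) (hi : ¬ p ∣ K.relIndex H) (hZK : Z ≤ K)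
    (hc : H ≤ centralizer (Z : Set G)) (lam : Z →* ℂˣ) :
    (cntP p Z H (fun z => (lam z : ℂ)) : ℚ) =
      ∑ η : {η : IrrCharacter K // ¬ p ∣ deg (η : K → ℂ) ∧ Over Z K (η : K → ℂ) fun z => (lam z : ℂ)},
        (Nat.card {η' : {η : IrrCharacter K //
          ¬ p ∣ deg (η : K → ℂ) ∧ Over Z K (η : K → ℂ) fun z => (lam z : ℂ)} //
            ConjBy K H (η.1 : K → ℂ) (η'.1 : K → ℂ)} : ℚ)⁻¹ *
          Nat.card {χ : IrrCharacter H // Over K H (χ : H → ℂ) (η.1 : K → ℂ)} := by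
  have hlam := isIrrCharacter_linear lam
  have hinv : InvBy Z H (fun z => (lam z : ℂ)) := fun g hg k k' hk => by
    rw [show k' = k from Subtype.ext (by
      rw [hk, ← mem_centralizer_iff.1 (hc hg) k k.2, mul_inv_cancel_right])]
  have h := card_eq_sum_over (p := p) hKH hH (hSK.trans hKH) hpS
    (fun χ : IrrCharacter H => ¬ p ∣ deg (χ : H → ℂ) ∧ Over Z H (χ : H → ℂ) fun z => (lam z : ℂ))
    (fun χ h => h.1)
    (fun η : IrrCharacter K => ¬ p ∣ deg (η : K → ℂ) ∧ Over Z K (η : K → ℂ) fun z => (lam z : ℂ))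
    (fun χ η h ho _ => ⟨not_dvd_deg_of_over hH χ.2 η.2 ho h.1,
      ho.down hZK hH (hc.trans (centralizer_le_normalizer _)) χ.2 η.2 hlam hinv h.2⟩)
  rw [cntP, h]
  refine Finset.sum_congr rfl fun η _ => ?_
  congr 2
  refine Nat.card_congr (Equiv.subtypeEquivRight fun χ => ⟨fun h => h.2, fun h => ⟨⟨?_, ?_⟩, h⟩⟩)
  · exact not_dvd_deg_of_under hH χ.2 η.1.2 h hi η.2.1
  · exact h.trans (isCharacter_of_irr χ.2) η.1.2 hlam η.2.2

variable {M C K' : Subgroup G}

/-- The counts over corresponding characters. -/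
theorem card_over_rel (c : Ctx p M S C K K') [M.Normal] [K.Normal]
    (hdec : ∀ g : G, ∃ m ∈ M, ∃ n ∈ normalizer (S : Set G), g = m * n) (hi : ¬ p ∣ K.index)
    {η : K → ℂ} {η' : K' → ℂ} (hη : IsIrrCharacter K η) (hη' : IsIrrCharacter K' η')
    (hR : c.Rel η η') :
    Nat.card {χ : IrrCharacter (⊤ : Subgroup G) // Over K ⊤ (χ : (⊤ : Subgroup G) → ℂ) η} =
      Nat.card {χ : IrrCharacter ↥(normalizer (S : Set G)) //
        Over K' (normalizer (S : Set G)) (χ : ↥(normalizer (S : Set G)) → ℂ) η'} := by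
  obtain ⟨a, a', μ, ha, ha', hg, hμ, e, e'⟩ := id hR
  set N := normalizer (S : Set G) with hNd
  have hnM : ∀ g : G, g ∈ normalizer (M : Set G) := fun g => by
    rw [normalizer_eq_top]; exact mem_top g
  have hnK : (⊤ : Subgroup G) ≤ normalizer (K : Set G) := by rw [normalizer_eq_top]
  have hnK' : N ≤ normalizer (K' : Set G) := fun n hn => c.norm_K' (hnM n) hn
  have hK'N : K' ≤ N := c.supC ▸ sup_le c.C_norm_S le_normalizer
  have hηc := isClassFunction_isChar (isCharacter_of_irr hη)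
  have hac := isClassFunction_isChar (isCharacter_of_irr ha.1)
  obtain ⟨T, hT⟩ : ∃ T, T = stabF K ⊤ hnK η := ⟨_, rfl⟩
  have hKT : K ≤ T := hT ▸ le_stabF le_top (invBy_self hηc)
  have hidx : ¬ p ∣ K.relIndex T := fun hd => hi (hd.trans (relIndex_dvd_index_of_normal K T))
  -- the stabiliser fixes the extension and the linear character
  have hfix : ∀ g ∈ T, IsConjCharOf K g a a ∧
      ∀ k k' : K, (k' : G) = g * k * g⁻¹ → μ k' = μ k := by
    intro g hgT
    obtain ⟨m, hm, n, hn, rfl⟩ := hdec g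
    have hmK := c.le_M hm
    have hnT : n ∈ T := by
      have := mul_mem (inv_mem (hKT hmK)) hgT
      rwa [inv_mul_cancel_left] at this
    have hμm : ∀ k k' : K, (k' : G) = m * k * m⁻¹ → μ k' = μ k := fun k k' h => by
      rw [show k' = (⟨m, hmK⟩ : K) * k * (⟨m, hmK⟩ : K)⁻¹ from Subtype.ext h, map_mul, map_mul,
        mul_comm (μ ⟨m, hmK⟩), mul_assoc, ← map_mul, mul_inv_cancel, map_one, mul_one]
    have hnη : IsConjCharOf K n η η := (hT ▸ hnT : n ∈ stabF K ⊤ hnK η).2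
    let f := conjEquiv K (c.norm_K (hnM n) hn)
    obtain ⟨e1, e2⟩ := cano_twist_inj c.semi (ha.conj (hnM n) (c.norm_K (hnM n) hn)) ha
      (μ₀ := μ.comp f.toMonoidHom) (μ₁ := μ) (fun x => hμ (conjEquiv M (hnM n) x)) hμ
      (funext fun k => by
        have := hnη k (f k) rfl
        rw [e] at this
        exact this)
    have h1 : IsConjCharOf K n a a := (isConjCharOf_iff _).2 e1.symm
    refine ⟨isConjCharOf_mul (c.norm_K (hnM n) hn) h1 (isConjCharOf_mem hac hmK), fun k k' h => ?_⟩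
    rw [hμm (f k) k' (by rw [h]; simp [f, mul_assoc])]
    exact DFunLike.congr_fun e2 k
  -- on the side of the normaliser
  have hT' : T ⊓ N = stabF K' N hnK' η' := by
    ext n
    rw [mem_inf, mem_stabF, hT, mem_stabF]
    constructor
    · rintro ⟨⟨-, h1⟩, hn⟩
      have h2 := c.rel_conj hR (hnM n) hn
      rw [← (isConjCharOf_iff (c.norm_K (hnM n) hn)).1 h1] at h2
      exact ⟨hn, (isConjCharOf_iff _).2 (c.right_unique hR h2)⟩
    · rintro ⟨hn, h1⟩
      have h2 := c.rel_conj hR (hnM n) hn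
      rw [← (isConjCharOf_iff (c.norm_K' (hnM n) hn)).1 h1] at h2
      exact ⟨⟨mem_top _, (isConjCharOf_iff _).2 (c.left_unique hR h2)⟩, hn⟩
  have hK'T : K' ≤ T ⊓ N := le_inf (c.K'_le.trans hKT) hK'N
  have hfix' : ∀ n ∈ T ⊓ N, IsConjCharOf K' n a' a' := by
    intro n hn
    obtain ⟨h1, hμn⟩ := hfix n (mem_inf.1 hn).1
    have h2 : IsConjCharOf K' n η' η' := (hT' ▸ hn : n ∈ stabF K' N hnK' η').2
    intro k k' h
    have := h2 k k' h
    rw [e'] at this
    dsimp only at this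
    rw [hμn (inclusion c.K'_le k) (inclusion c.K'_le k') h] at this
    exact mul_left_cancel₀ (Units.ne_zero _) this
  -- extension of the linear character
  obtain ⟨ν, hν⟩ : ∃ ν : T →* ℂˣ, ∀ k : K, ν (inclusion hKT k) = μ k := by
    have hlin := isIrrCharacter_linear μ
    have hϑ := pull_irr hKT hlin
    have hϑ1 : pull hKT (fun k => (μ k : ℂ)) 1 = 1 := by simp [pull]
    obtain ⟨χ, ⟨hχ, hres, -⟩, -⟩ := exists_canonical_extension (K.subgroupOf T) hϑ
      (fun g => (conjN_pull hKT g).2 fun k k' h => congrArg Units.val ((hfix g g.2).2 k k' h))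
      (d := 1) (by rw [hϑ1, Nat.cast_one]) (by
        rw [mul_one]
        have hdvd : detOrder (pull hKT fun k => (μ k : ℂ)) ∣ Nat.card S := by
          rw [detOrder, detChar_of_linear (isCharacter_of_irr hϑ) hϑ1]
          refine orderOf_dvd_of_pow_eq_one (funext fun x => ?_)
          rw [Pi.pow_apply, Pi.one_apply]
          obtain ⟨m, hm, s, hs, hk⟩ := mem_sup_exists c.acts.norm
            (show ((subgroupOfEquivOfLe hKT x : K) : G) ∈ M ⊔ S from
              c.supM ▸ (subgroupOfEquivOfLe hKT x).2)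
          show ((μ (subgroupOfEquivOfLe hKT x) : ℂˣ) : ℂ) ^ Nat.card S = 1
          rw [show subgroupOfEquivOfLe hKT x = inclusion c.le_M ⟨m, hm⟩ * inclusion c.S_le ⟨s, hs⟩ from
            Subtype.ext hk, map_mul, hμ, one_mul, ← Units.val_pow_eq_pow_val, ← map_pow, ← map_pow,
            pow_card_eq_one', map_one, map_one, Units.val_one]
        obtain ⟨j, hj⟩ := IsPGroup.iff_card.1 c.acts.pS
        exact (Nat.Coprime.pow_right j (((Fact.out : p.Prime).coprime_iff_not_dvd.2 hidx).symm)).coprime_dvd_right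
          (hj ▸ hdvd))
    obtain ⟨ν, hν⟩ := exists_hom_of_deg_one (isCharacter_of_irr hχ) ((hres 1).trans hϑ1)
    refine ⟨ν, fun k => Units.ext ?_⟩
    have h := hres ((subgroupOfEquivOfLe hKT).symm k)
    rw [hν] at h
    simp only [pull, MulEquiv.apply_symm_apply] at h
    exact h
  -- reduce to the canonical extensions
  rw [← card_over_stabF le_top hnK hη hT, ← card_over_stabF hK'N hnK' hη' hT']
  have eη : η = fun k => (ν (inclusion hKT k) : ℂ) * a k := by simp only [e, hν]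
  have eη' : η' = fun k => ((ν.comp (inclusion (inf_le_left : T ⊓ N ≤ T))) (inclusion hK'T k) : ℂ) * a' k := by
    rw [e']
    funext k
    rw [MonoidHom.comp_apply, ← hν (inclusion c.K'_le k)]
    rfl
  rw [eη, eη', ← card_over_twist hKT ν a,
    ← card_over_twist hK'T (ν.comp (inclusion inf_le_left)) a']
  obtain ⟨n₁, ρ, hρ, rfl⟩ := ha.1
  obtain ⟨n₂, σ, hσ, rfl⟩ := ha'.1
  haveI := hρ
  haveI := hσ
  obtain ⟨_, hρr⟩ := ha.2.1
  obtain ⟨_, hσr⟩ := ha'.2.1
  haveI := irreducible_of_irr (ρ.comp (inclusion c.le_M) : Representation ℂ M (Fin n₁ → ℂ)) hρr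
  haveI := irreducible_of_irr (σ.comp (inclusion c.le_C) : Representation ℂ C (Fin n₂ → ℂ)) hσr
  refine card_over_eq c.acts c.fixed c.supM c.supC c.le_M c.le_C ρ σ hg hKT
    (fun t ht => mem_stab_of_character (hnK (mem_top t)) (hfix t ht).1)
    (fun t _ => hnM t) (fun t ht => mem_stab_of_character (hnK' (mem_inf.1 ht).2) (hfix' t ht))
    (fun t ht => ?_) hidx
  obtain ⟨m, hm, n, hn, rfl⟩ := hdec t
  refine ⟨m, hm, n, mem_inf.2 ⟨?_, hn⟩, rfl⟩
  have := mul_mem (inv_mem (hKT (c.le_M hm))) ht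
  rwa [inv_mul_cancel_left] at this

/-- A `p'`-complement. -/
lemma exists_hall (M : Subgroup G) [M.Normal] (hZM : Z ≤ M) (hZ : Z ≤ center G)
    (hidx : ¬ p ∣ Z.relIndex M) (hpS : IsPGroup p S) (hi : ¬ p ∣ S.index) :
    ∃ M₀ : Subgroup G, M₀.Normal ∧ ¬ p ∣ Nat.card M₀ ∧ M₀ ≤ M ∧
      ∀ m ∈ M, ∃ a ∈ M₀, ∃ z ∈ Z ⊓ S, m = a * z := by
  have hp : p.Prime := Fact.out
  have hSn : S ≤ normalizer (Z : Set G) := fun s _ => mem_normalizer_fintype fun z hz => by
    rw [SetLike.mem_coe, mem_center_iff.1 (hZ hz) s, mul_inv_cancel_right]; exact hz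
  have h1 : ¬ p ∣ (Z ⊓ S).relIndex Z := by
    rw [inf_relIndex_left]
    have hcm := card_mul_card (A := Z) (B := S) (U := Z ⊔ S) le_sup_left le_sup_right
      fun u hu => mem_sup_exists hSn hu
    have ha : (S.subgroupOf (Z ⊔ S)).index * Nat.card S = Nat.card ↥(Z ⊔ S) := by
      rw [← Nat.card_congr (subgroupOfEquivOfLe (le_sup_right : S ≤ Z ⊔ S)).toEquiv]
      exact index_mul_card _
    have hb : (S.subgroupOf Z).index * Nat.card ↥(Z ⊓ S) = Nat.card Z := by
      rw [show S.subgroupOf Z = (Z ⊓ S).subgroupOf Z by rw [inf_comm, inf_subgroupOf_right],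
        ← Nat.card_congr (subgroupOfEquivOfLe (inf_le_left : Z ⊓ S ≤ Z)).toEquiv]
      exact index_mul_card _
    rw [← ha, ← hb] at hcm
    have : S.relIndex Z = S.relIndex (Z ⊔ S) := by
      show (S.subgroupOf Z).index = (S.subgroupOf (Z ⊔ S)).index
      have hne : Nat.card ↥(Z ⊓ S) * Nat.card S ≠ 0 := (Nat.mul_pos Nat.card_pos Nat.card_pos).ne'
      apply mul_right_cancel₀ hne
      linear_combination hcm
    rw [this]
    exact fun hd => hi (hd.trans (Dvd.intro _ (relIndex_mul_index le_sup_right)))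
  have hPM : Z ⊓ S ≤ M := inf_le_left.trans hZM
  have h2 : ¬ p ∣ (Z ⊓ S).relIndex M := by
    rw [← relIndex_mul_relIndex (Z ⊓ S) Z M inf_le_left hZM]
    exact fun hd => (hp.dvd_mul.1 hd).elim h1 hidx
  haveI : ((Z ⊓ S).subgroupOf M).Normal := ⟨fun n hn g => by
    rw [mem_subgroupOf] at hn ⊢
    rw [Subgroup.coe_mul, Subgroup.coe_mul, mem_center_iff.1 (hZ (mem_inf.1 hn).1) g,
      InvMemClass.coe_inv, mul_inv_cancel_right]
    exact hn⟩
  obtain ⟨A, hA⟩ := exists_right_complement'_of_coprime (N := (Z ⊓ S).subgroupOf M) (by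
    rw [Nat.card_congr (subgroupOfEquivOfLe hPM).toEquiv]
    obtain ⟨k, hk⟩ := IsPGroup.iff_card.1 (hpS.to_le (inf_le_right : Z ⊓ S ≤ S))
    rw [hk]
    exact Nat.Coprime.pow_left k (hp.coprime_iff_not_dvd.2 h2))
  have hcA : Nat.card (A.map M.subtype) = Nat.card A :=
    Nat.card_congr (A.equivMapOfInjective M.subtype M.subtype_injective).symm.toEquiv
  have hAp : ¬ p ∣ Nat.card A := by
    rw [← hA.symm.index_eq_card]
    exact h2
  have hsplit : ∀ m ∈ M, ∃ a ∈ A.map M.subtype, ∃ z ∈ Z ⊓ S, m = a * z := by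
    intro m hm
    obtain ⟨⟨z, a⟩, hza⟩ := hA.2 ⟨m, hm⟩
    refine ⟨_, mem_map_of_mem _ a.2, _, z.2, ?_⟩
    rw [show m = ((z : M) : G) * ((a : M) : G) from (congrArg Subtype.val hza).symm]
    exact (mem_center_iff.1 (hZ (mem_inf.1 z.2).1) _).symm
  refine ⟨A.map M.subtype, ⟨fun n hn g => ?_⟩, hcA ▸ hAp, map_subtype_le A, hsplit⟩
  obtain ⟨a, ha, z, hz, hza⟩ := hsplit _ (Subgroup.Normal.conj_mem ‹M.Normal› n (map_subtype_le A hn) g)
  have hn1 : n ^ Nat.card A = 1 := by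
    obtain ⟨n', hn', rfl⟩ := hn
    exact congrArg (fun t : A => ((t : M) : G)) (pow_card_eq_one' (x := (⟨n', hn'⟩ : A)))
  have ha1 : a ^ Nat.card A = 1 := by
    obtain ⟨n', hn', rfl⟩ := ha
    exact congrArg (fun t : A => ((t : M) : G)) (pow_card_eq_one' (x := (⟨n', hn'⟩ : A)))
  have hz1 : z ^ Nat.card A = 1 := by
    have h3 : (g * n * g⁻¹) ^ Nat.card A = 1 := by rw [conj_pow, hn1, mul_one, mul_inv_cancel]
    have hc : Commute a z := mem_center_iff.1 (hZ (mem_inf.1 hz).1) a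
    rwa [hza, hc.mul_pow, ha1, one_mul] at h3
  obtain ⟨j, hj⟩ := hpS ⟨z, (mem_inf.1 hz).2⟩
  have : z = 1 := eq_one_of_pow_pow (Nat.Coprime.pow_left j (hp.coprime_iff_not_dvd.2 hAp))
    (congrArg Subtype.val hj) hz1
  rwa [hza, this, mul_one]

/-- The count for a central subgroup. -/
theorem core (M : Subgroup G) [M.Normal] (hZM : Z ≤ M) (hZ : Z ≤ center G)
    (hidx : ¬ p ∣ Z.relIndex M) (hpS : IsPGroup p S) (hi : ¬ p ∣ S.index)
    (hMS : (M ⊔ S).Normal) (lam : Z →* ℂˣ) :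
    cntP p Z ⊤ (fun z => (lam z : ℂ)) =
      cntP p Z (normalizer (S : Set G)) (fun z => (lam z : ℂ)) := by
  classical
  obtain ⟨M₀, hM₀, hpM, hM₀M, hsplit⟩ := exists_hall M hZM hZ hidx hpS hi
  haveI := hM₀
  have hnM : ∀ g : G, g ∈ normalizer (M₀ : Set G) := fun g => by
    rw [normalizer_eq_top]; exact mem_top g
  have hsup : M₀ ⊔ S = M ⊔ S := le_antisymm (sup_le_sup_right hM₀M S) (sup_le (fun m hm => by
    obtain ⟨a, ha, z, hz, rfl⟩ := hsplit m hm
    exact mul_mem (mem_sup_left ha) (mem_sup_right hz.2)) le_sup_right)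
  set K : Subgroup G := M₀ ⊔ S with hK
  haveI : K.Normal := hsup ▸ hMS
  set C : Subgroup G := M₀ ⊓ centralizer (S : Set G) with hC
  set K' : Subgroup G := C ⊔ S with hK'
  have c : Ctx p M₀ S C K K' := ⟨⟨hpS, fun s _ => hnM s, hpM⟩, hC, hK, hK'⟩
  set N := normalizer (S : Set G) with hN
  have hdec : ∀ g : G, ∃ m ∈ M₀, ∃ n ∈ N, g = m * n := by
    intro g
    have hg : g ∈ K ⊔ N := by
      rw [sup_comm, hN]
      have := Sylow.normalizer_sup_eq_top' (hpS.toSylow hi) (N := K) c.S_le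
      rw [show ((hpS.toSylow hi : Sylow p G) : Set G) = (S : Set G) from rfl] at this
      rw [this]
      exact mem_top g
    rw [← SetLike.mem_coe, normal_mul K N] at hg
    obtain ⟨k, hk, n, hn, rfl⟩ := hg
    obtain ⟨m, hm, s, hs, rfl⟩ := mem_sup_exists c.acts.norm (show k ∈ M₀ ⊔ S from hk)
    exact ⟨m, hm, s * n, mul_mem (le_normalizer hs) hn, mul_assoc _ _ _⟩
  have hiK : ¬ p ∣ K.index := fun hd => hi (hd.trans (index_dvd_of_le c.S_le))
  have hK'N : K' ≤ N := sup_le c.C_norm_S le_normalizer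
  have hZd : ∀ z ∈ Z, ∃ a ∈ C, ∃ s ∈ Z ⊓ S, z = a * s := by
    intro z hz
    obtain ⟨a, ha, s, hs, e⟩ := hsplit z (hZM hz)
    refine ⟨a, ?_, s, hs, e⟩
    have haZ : a ∈ Z := by
      rw [show a = z * s⁻¹ by rw [e, mul_inv_cancel_right]]
      exact mul_mem hz (inv_mem (mem_inf.1 hs).1)
    exact mem_inf.2 ⟨ha, mem_centralizer_iff.2 fun t _ => (mem_center_iff.1 (hZ haZ) t)⟩
  have hZK' : Z ≤ K' := fun z hz => by
    obtain ⟨a, ha, s, hs, rfl⟩ := hZd z hz
    exact mul_mem (c.le_C ha) (c.S_le' (mem_inf.1 hs).2)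
  have hcent : ∀ H : Subgroup G, H ≤ centralizer (Z : Set G) := fun H h _ =>
    mem_centralizer_iff.2 fun z hz => (mem_center_iff.1 (hZ hz) h).symm
  -- the bijection
  let R := {η : IrrCharacter K // ¬ p ∣ deg (η : K → ℂ) ∧ Over Z K (η : K → ℂ) fun z => (lam z : ℂ)}
  let R' := {η : IrrCharacter K' //
    ¬ p ∣ deg (η : K' → ℂ) ∧ Over Z K' (η : K' → ℂ) fun z => (lam z : ℂ)}
  have hlam : ∀ (η : IrrCharacter K) (η' : IrrCharacter K'), c.Rel (η : K → ℂ) (η' : K' → ℂ) →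
      (Over Z K (η : K → ℂ) (fun z => (lam z : ℂ)) ↔ Over Z K' (η' : K' → ℂ) fun z => (lam z : ℂ)) := by
    intro η η' h
    rw [over_central_iff (hZK'.trans c.K'_le) (hcent _) η.2, over_central_iff hZK' (hcent _) η'.2]
    have key : ∀ z : Z, (η : K → ℂ) (inclusion (hZK'.trans c.K'_le) z) * (η' : K' → ℂ) 1 =
        (η' : K' → ℂ) (inclusion hZK' z) * (η : K → ℂ) 1 := by
      intro z
      obtain ⟨a, ha, s, hs, e⟩ := hZd z z.2
      have haZ : a ∈ Z := by
        rw [show a = (z : G) * s⁻¹ by rw [e, mul_inv_cancel_right]]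
        exact mul_mem z.2 (inv_mem (mem_inf.1 hs).1)
      have := c.rel_central h ha (mem_inf.1 hs).2
        (mem_centralizer_iff.2 fun t _ => mem_center_iff.1 (hZ haZ) t)
        (mem_centralizer_iff.2 fun t _ => mem_center_iff.1 (hZ (mem_inf.1 hs).1) t)
      rw [show inclusion hZK' z = ⟨a * s, mul_mem (c.le_C ha) (c.S_le' (mem_inf.1 hs).2)⟩ from
        Subtype.ext e, show inclusion (hZK'.trans c.K'_le) z = inclusion c.K'_le
          ⟨a * s, mul_mem (c.le_C ha) (c.S_le' (mem_inf.1 hs).2)⟩ from Subtype.ext e]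
      exact this
    constructor <;> intro h1 z
    · have h3 := key z
      rw [h1 z] at h3
      apply mul_right_cancel₀ (IsIrrCharacter.apply_one_ne_zero η.2)
      rw [← h3]; ring
    · have h3 := key z
      rw [h1 z] at h3
      apply mul_right_cancel₀ (IsIrrCharacter.apply_one_ne_zero η'.2)
      rw [h3]; ring
  have hex : ∀ η : R, ∃ η' : R', c.Rel (η.1 : K → ℂ) (η'.1 : K' → ℂ) := fun η => by
    obtain ⟨η', h⟩ := c.exists_right η.1.2 η.2.1
    exact ⟨⟨η', (c.not_dvd_deg h).2, (hlam _ _ h).1 η.2.2⟩, h⟩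
  choose F hF using hex
  have hbij : Function.Bijective F := by
    refine ⟨fun η η₁ e => ?_, fun η' => ?_⟩
    · exact Subtype.ext (Subtype.ext (c.left_unique (hF η) (e ▸ hF η₁)))
    · obtain ⟨η, h⟩ := c.exists_left η'.1.2 η'.2.1
      let η₁ : R := ⟨η, (c.not_dvd_deg h).1, (hlam _ _ h).2 η'.2.2⟩
      exact ⟨η₁, Subtype.ext (Subtype.ext (c.right_unique (hF η₁) h))⟩
  have hnK : (⊤ : Subgroup G) ≤ normalizer (K : Set G) := by rw [normalizer_eq_top]
  have hnK' : N ≤ normalizer (K' : Set G) := fun n hn => c.norm_K' (hnM n) hn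
  have horb : ∀ η η₁ : R, ConjBy K ⊤ (η.1 : K → ℂ) (η₁.1 : K → ℂ) ↔
      ConjBy K' N ((F η).1 : K' → ℂ) ((F η₁).1 : K' → ℂ) := by
    intro η η₁
    constructor
    · rintro ⟨g, -, hg⟩
      obtain ⟨m, hm, n, hn, rfl⟩ := hdec g
      have hm' : IsConjCharOf K m⁻¹ (η₁.1 : K → ℂ) (η₁.1 : K → ℂ) := isConjCharOf_mem
        (isClassFunction_isChar (isCharacter_of_irr η₁.1.2)) (c.le_M (inv_mem hm))
      have h1 := isConjCharOf_mul (hnK (mem_top _)) hg hm'
      rw [inv_mul_cancel_left] at h1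
      have h2 := c.rel_conj (hF η₁) (hnM n) hn
      rw [← (isConjCharOf_iff (c.norm_K (hnM n) hn)).1 h1] at h2
      exact ⟨n, hn, (isConjCharOf_iff _).2 (c.right_unique (hF η) h2)⟩
    · rintro ⟨n, hn, h1⟩
      have h2 := c.rel_conj (hF η₁) (hnM n) hn
      rw [← (isConjCharOf_iff (c.norm_K' (hnM n) hn)).1 h1] at h2
      exact ⟨n, mem_top _, (isConjCharOf_iff _).2 (c.left_unique (hF η) h2)⟩
  have hiK' : ¬ p ∣ K'.relIndex N := fun hd => hi
    (((hd.trans (relIndex_dvd_of_le_left N c.S_le')).trans (Dvd.intro _ (relIndex_mul_index le_normalizer))))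
  apply Nat.cast_injective (R := ℚ)
  rw [cntP_eq_sum c.S_le le_top hnK hpS (by rwa [relIndex_top_right]) (hZK'.trans c.K'_le) (hcent _) lam,
    cntP_eq_sum c.S_le' hK'N hnK' hpS hiK' hZK' (hcent _) lam]
  refine Fintype.sum_equiv (Equiv.ofBijective F hbij) _ _ fun η => ?_
  show _ = (Nat.card {η' : R' // ConjBy K' N ((F η).1 : K' → ℂ) (η'.1 : K' → ℂ)} : ℚ)⁻¹ * _
  congr 2
  · exact congrArg Nat.cast (Nat.card_congr
      ((Equiv.ofBijective F hbij).subtypeEquiv fun η₁ => horb η η₁))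
  · exact card_over_rel c hdec hiK η.1.2 (F η).1.2 (hF η)

end Cfsg.Lib.RelMcKay
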