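import Mathlib
import Cfsg.Agent.Chars.ExtCriteria
import Cfsg.Agent.Chars.RelMcKay.Core

/-!
# Passing to a central subgroup by the group of intertwiners
-/

set_option autoImplicit false
set_option linter.unusedSectionVars false

namespace Cfsg.Lib.RelMcKay

open Cfsg Cfsg.Lib.Chars Subgroup Module
open scoped ComplexConjugate

universe u

attribute [local instance high] Fintype.ofFinite

variable {G : Type u} [Group G] [Finite G] {p : ℕ} [Fact p.Prime]

section Count

variable (L : Subgroup G) [L.Normal] {d : ℕ} (ρ : Representation ℂ L (Fin d → ℂ)) [ρ.IsIrreducible]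

lemma twIncl_injective : Function.Injective (twIncl L ρ) := fun a b h => by
  have := congrArg (twProj L ρ) h
  exact Subtype.ext this

instance range_twIncl_normal : (twIncl L ρ).range.Normal :=
  ⟨by rintro _ ⟨n, rfl⟩ e; exact ⟨_, (twIncl_conj L ρ e n).symm⟩⟩

/-- The quotient map of the intertwiner group. -/
abbrev twQ : twGroup L ρ →* twGroup L ρ ⧸ (twIncl L ρ).range := QuotientGroup.mk' _

/-- The kernel of the projection in the quotient. -/
noncomputable abbrev twKer : (twProj L ρ).ker →* twGroup L ρ ⧸ (twIncl L ρ).range :=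
  (twQ L ρ).comp (twProj L ρ).ker.subtype

lemma twKer_injective : Function.Injective (twKer L ρ) := by
  refine (injective_iff_map_eq_one _).2 fun z hz => ?_
  obtain ⟨n, hn⟩ := (QuotientGroup.eq_one_iff (z : twGroup L ρ)).1 hz
  have h1 := congrArg (twProj L ρ) hn
  rw [twProj_twIncl, show twProj L ρ (z : twGroup L ρ) = 1 from z.2] at h1
  rw [show n = 1 from Subtype.ext h1, map_one] at hn
  exact Subtype.ext hn.symm

/-- The central subgroup. -/
noncomputable abbrev twZ : Subgroup (twGroup L ρ ⧸ (twIncl L ρ).range) := (twKer L ρ).range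

/-- The linear character of the central subgroup. -/
noncomputable def twLam : twZ L ρ →* ℂˣ :=
  ((twScalar L ρ).comp (MonoidHom.ofInjective (twKer_injective L ρ)).symm.toMonoidHom)⁻¹

lemma twLam_apply (z : (twProj L ρ).ker) :
    twLam L ρ ⟨twKer L ρ z, z, rfl⟩ = (twScalar L ρ z)⁻¹ := by
  show (twScalar L ρ ((MonoidHom.ofInjective (twKer_injective L ρ)).symm _))⁻¹ = _
  congr 2
  exact (MonoidHom.ofInjective (twKer_injective L ρ)).symm_apply_apply z

lemma twZ_le_center : twZ L ρ ≤ center _ := by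
  rintro _ ⟨z, rfl⟩
  rw [mem_center_iff]
  intro g
  obtain ⟨e, rfl⟩ := QuotientGroup.mk'_surjective _ g
  show twQ L ρ e * twQ L ρ z = twQ L ρ z * twQ L ρ e
  rw [← map_mul, ← map_mul]
  congr 1
  apply Subtype.ext
  have h1 : (z : twGroup L ρ).1.1 = 1 := z.2
  refine Prod.ext ?_ (Units.ext ?_)
  · show e.1.1 * (z : twGroup L ρ).1.1 = (z : twGroup L ρ).1.1 * e.1.1
    rw [h1, mul_one, one_mul]
  · show (e.1.2 : Module.End ℂ (Fin d → ℂ)) * ((z : twGroup L ρ).1.2 : Module.End ℂ (Fin d → ℂ)) =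
      ((z : twGroup L ρ).1.2 : Module.End ℂ (Fin d → ℂ)) * (e.1.2 : Module.End ℂ (Fin d → ℂ))
    rw [show ((z : twGroup L ρ).1.2 : Module.End ℂ (Fin d → ℂ)) = (twScalar L ρ z : ℂ) • 1 from
      twScalar_spec L ρ z, mul_smul_comm, smul_mul_assoc, mul_one, one_mul]

/-- The subgroup of the quotient belonging to a subgroup over `L`. -/
noncomputable abbrev twT (H : Subgroup G) : Subgroup (twGroup L ρ ⧸ (twIncl L ρ).range) :=
  (H.comap (twProj L ρ)).map (twQ L ρ)

/-- The count for a subgroup. -/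
theorem cntP_twT (hpd : ¬ p ∣ d) (hinv : ∀ g : G, conjN L g ρ.character = ρ.character)
    {H : Subgroup G} (hLH : L ≤ H) :
    cntP p L H ρ.character = cntP p (twZ L ρ) (twT L ρ H) (fun z => (twLam L ρ z : ℂ)) := by
  set HE : Subgroup (twGroup L ρ) := H.comap (twProj L ρ) with hHE
  let qH : HE →* twT L ρ H := (twQ L ρ).subgroupMap HE
  have hqH : Function.Surjective qH := (twQ L ρ).subgroupMap_surjective HE
  let πH : HE →* H := (twProj L ρ).subgroupComap H
  have hπH : Function.Surjective πH := fun h => by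
    obtain ⟨e, he⟩ := twProj_surjective L ρ hinv h
    exact ⟨⟨e, show twProj L ρ e ∈ H from he.symm ▸ h.2⟩, Subtype.ext he⟩
  have hker : (twProj L ρ).ker ≤ HE := fun z hz => by
    show twProj L ρ z ∈ H
    rw [MonoidHom.mem_ker.1 hz]; exact one_mem H
  have hNE : (twIncl L ρ).range ≤ HE := by
    rintro _ ⟨n, rfl⟩
    exact hLH n.2
  have hZT : twZ L ρ ≤ twT L ρ H := by
    rintro _ ⟨z, rfl⟩
    exact ⟨z, hker z.2, rfl⟩
  let eN : (twIncl L ρ).range.subgroupOf HE ≃* L :=
    (subgroupOfEquivOfLe hNE).trans (MonoidHom.ofInjective (twIncl_injective L ρ)).symm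
  have heN : ∀ n, twIncl L ρ (eN n) = ((n : HE) : twGroup L ρ) := fun n =>
    congrArg Subtype.val ((MonoidHom.ofInjective (twIncl_injective L ρ)).apply_symm_apply _)
  haveI : ((twIncl L ρ).range.subgroupOf HE).Normal := inferInstance
  let R : Representation ℂ HE (Fin d → ℂ) := (twNat L ρ).comp HE.subtype
  have hRN : (fun n : (twIncl L ρ).range.subgroupOf HE => R.character n) =
      fun n => ρ.character (eN n) := funext fun n => by
    show LinearMap.trace ℂ _ (twNat L ρ ((n : HE) : twGroup L ρ)) = LinearMap.trace ℂ _ (ρ _)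
    rw [← heN, twNat_twIncl]
  have hηN : IsIrrCharacter _ (fun n : (twIncl L ρ).range.subgroupOf HE => R.character n) :=
    hRN ▸ IsIrrCharacter.comp_mulEquiv (isIrrCharacter_character ρ) eN
  set η : HE → ℂ := R.character with hηd
  have hη : IsIrrCharacter HE η := irr_of_comp_irr (isCharacter_character R)
    ((twIncl L ρ).range.subgroupOf HE).subtype hηN
  have hη1 : η 1 = (d : ℂ) := by rw [hηd, R.char_one]; simp
  have hd0 : (d : ℂ) ≠ 0 := hη1 ▸ IsIrrCharacter.apply_one_ne_zero hη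
  have hηz : ∀ z : (twProj L ρ).ker, η ⟨z, hker z.2⟩ = (d : ℂ) * (twScalar L ρ z : ℂ) := fun z => by
    show LinearMap.trace ℂ _ (twNat L ρ z) = _
    rw [twScalar_spec, map_smul, LinearMap.trace_one, smul_eq_mul, mul_comm]
    simp
  have hηι : ∀ l : L, η ⟨twIncl L ρ l, hNE ⟨l, rfl⟩⟩ = ρ.character l := fun l => by
    show LinearMap.trace ℂ _ (twNat L ρ (twIncl L ρ l)) = LinearMap.trace ℂ _ (ρ _)
    rw [twNat_twIncl]
  have hzero : ∀ n : (twIncl L ρ).range.subgroupOf HE, qH n = 1 := fun n =>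
    Subtype.ext ((QuotientGroup.eq_one_iff _).2 n.2)
  have hc : twT L ρ H ≤ centralizer (twZ L ρ : Set _) := fun t _ => mem_centralizer_iff.2 fun z hz =>
    (mem_center_iff.1 (twZ_le_center L ρ hz) t).symm
  -- from the quotient to `H`
  have hfwd : ∀ ξ : {ξ : IrrCharacter (twT L ρ H) //
      Over (twZ L ρ) (twT L ρ H) (ξ : twT L ρ H → ℂ) (fun z => (twLam L ρ z : ℂ))},
      ∃ χ : {χ : IrrCharacter H // Over L H (χ : H → ℂ) ρ.character},
        ∀ e : HE, (χ.1 : H → ℂ) (πH e) = (ξ.1 : twT L ρ H → ℂ) (qH e) * η e := by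
    rintro ⟨ξ, hξ⟩
    have hb : IsIrrCharacter HE (fun e => (ξ : twT L ρ H → ℂ) (qH e)) :=
      IsIrrCharacter.comp_surjective ξ.2 qH hqH
    have hbN : ∀ n : (twIncl L ρ).range.subgroupOf HE,
        (ξ : twT L ρ H → ℂ) (qH n) = (ξ : twT L ρ H → ℂ) (qH 1) := fun n => by rw [hzero, map_one]
    have hprod := (gallagher_trivial _ hη hηN hb hb hbN hbN).1
    have hξz := (over_central_iff hZT hc ξ.2 _).1 hξ
    obtain ⟨χ, hχ, he⟩ := exists_factor πH hπH (isCharacter_of_irr hprod) fun k hk => by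
      have hk' : (k : twGroup L ρ) ∈ (twProj L ρ).ker := congrArg Subtype.val hk
      show (ξ : twT L ρ H → ℂ) (qH k) * η k = (ξ : twT L ρ H → ℂ) (qH 1) * η 1
      have h1 := hξz ⟨twKer L ρ ⟨k, hk'⟩, ⟨k, hk'⟩, rfl⟩
      rw [twLam_apply] at h1
      rw [show qH k = inclusion hZT ⟨twKer L ρ ⟨k, hk'⟩, ⟨k, hk'⟩, rfl⟩ from Subtype.ext rfl, h1,
        hηz ⟨k, hk'⟩, map_one, hη1, Units.val_inv_eq_inv_val]
      field_simp
    refine ⟨⟨⟨χ, irr_of_comp_irr hχ πH (by rw [← he]; exact hprod)⟩, hLH, ?_⟩,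
      fun e => (congrFun he e).symm⟩
    have hres : (fun l : L => χ (inclusion hLH l)) = (ξ : twT L ρ H → ℂ) 1 • ρ.character := funext fun l => by
      have h2 := (congrFun he ⟨twIncl L ρ l, hNE ⟨l, rfl⟩⟩).symm
      rw [Pi.mul_apply] at h2
      refine h2.trans ?_
      rw [show qH ⟨twIncl L ρ l, hNE ⟨l, rfl⟩⟩ = 1 from
        hzero ⟨⟨twIncl L ρ l, hNE ⟨l, rfl⟩⟩, ⟨l, rfl⟩⟩, hηι]
      rfl
    show classInner (fun l : L => χ (inclusion hLH l)) ρ.character ≠ 0
    rw [hres, classInner_smul_left, classInner_self_irr (isIrrCharacter_character ρ), mul_one]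
    exact IsIrrCharacter.apply_one_ne_zero ξ.2
  choose F hF using hfwd
  have hdeg : ∀ ξ, deg ((F ξ).1 : H → ℂ) = deg (ξ.1 : twT L ρ H → ℂ) * d := fun ξ => by
    apply Nat.cast_injective (R := ℂ)
    rw [Nat.cast_mul, ← IsCharacter.apply_one_eq_deg (isCharacter_of_irr (F ξ).1.2),
      ← IsCharacter.apply_one_eq_deg (isCharacter_of_irr ξ.1.2), ← hη1]
    simpa using hF ξ 1
  have hbij : Function.Bijective F := by
    refine ⟨fun ξ ξ' e => ?_, fun χ => ?_⟩
    · have hbN : ∀ (ζ : IrrCharacter (twT L ρ H)) (n : (twIncl L ρ).range.subgroupOf HE),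
          (ζ : twT L ρ H → ℂ) (qH n) = (ζ : twT L ρ H → ℂ) (qH 1) := fun ζ n => by rw [hzero, map_one]
      have h1 := (gallagher_trivial _ hη hηN (IsIrrCharacter.comp_surjective ξ.1.2 qH hqH)
        (IsIrrCharacter.comp_surjective ξ'.1.2 qH hqH) (hbN _) (hbN _)).2 (funext fun x => by
          simp only [Pi.mul_apply]
          rw [← hF, ← hF, e])
      refine Subtype.ext (Subtype.ext (funext fun t => ?_))
      obtain ⟨x, rfl⟩ := hqH t
      exact congrFun h1 x
    · obtain ⟨_, hc0⟩ := id χ.2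
      haveI : (L.subgroupOf H).Normal := inferInstance
      obtain ⟨m, -, hm⟩ := restrict_eq_mult_of_invariant (L.subgroupOf H) χ.1.2
        (pull_irr hLH (isIrrCharacter_character ρ))
        (fun g => (conjN_pull hLH g).2 fun k k' hk => by
          have := congrFun (hinv g) k
          rw [← this]
          exact congrArg ρ.character (Subtype.ext hk))
        ((over_iff hLH).1 χ.2)
      have hχ' : IsIrrCharacter HE (fun e => (χ.1 : H → ℂ) (πH e)) :=
        IsIrrCharacter.comp_surjective χ.1.2 πH hπH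
      obtain ⟨b, hb, hbe, hbN⟩ := exists_factor_extension _ hη hηN hχ' (e := m) fun n => by
        have h3 := congrFun hm ((subgroupOfEquivOfLe hLH).symm (eN n))
        simp only [pull, Pi.smul_apply, smul_eq_mul, MulEquiv.apply_symm_apply] at h3
        have h4 : η n = ρ.character (eN n) := congrFun hRN n
        rw [h4, ← h3]
        refine congrArg (χ.1 : H → ℂ) (Subtype.ext ?_)
        show twProj L ρ ((n : HE) : twGroup L ρ) = _
        rw [← heN]
        rfl
      obtain ⟨ξ, hξ, hbξ⟩ := exists_factor qH hqH (isCharacter_of_irr hb) fun k hk =>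
        hbN ⟨k, show (k : twGroup L ρ) ∈ (twIncl L ρ).range from
          (QuotientGroup.eq_one_iff (k : twGroup L ρ)).1 (congrArg Subtype.val hk)⟩
      let ξ' : IrrCharacter (twT L ρ H) := ⟨ξ, irr_of_comp_irr hξ qH (by rw [← hbξ]; exact hb)⟩
      have hov : Over (twZ L ρ) (twT L ρ H) ξ (fun z => (twLam L ρ z : ℂ)) := by
        refine (over_central_iff hZT hc ξ'.2 _).2 fun ⟨_, z, rfl⟩ => ?_
        show ξ (inclusion hZT ⟨twKer L ρ z, z, rfl⟩) = ξ 1 * _
        rw [twLam_apply]
        have h5 := congrFun hbe ⟨z, hker z.2⟩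
        have h6 := congrFun hbe 1
        rw [show πH ⟨z, hker z.2⟩ = 1 from Subtype.ext z.2, Pi.mul_apply, congrFun hbξ, hηz] at h5
        rw [map_one, Pi.mul_apply, congrFun hbξ, map_one, hη1] at h6
        rw [h6] at h5
        rw [show inclusion hZT ⟨twKer L ρ z, z, rfl⟩ = qH ⟨z, hker z.2⟩ from Subtype.ext rfl,
          Units.val_inv_eq_inv_val, ← div_eq_mul_inv, eq_div_iff (Units.ne_zero _)]
        refine mul_left_cancel₀ hd0 ?_
        linear_combination -h5
      refine ⟨⟨ξ', hov⟩, Subtype.ext (Subtype.ext (funext fun h => ?_))⟩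
      obtain ⟨x, rfl⟩ := hπH h
      rw [hF]
      exact ((congrFun hbe x).trans (congrArg (· * η x) (congrFun hbξ x))).symm
  let Fe := Equiv.ofBijective F hbij
  refine (Nat.card_congr ((Equiv.subtypeEquivRight fun ξ => and_comm).trans
    ((Equiv.subtypeSubtypeEquivSubtypeInter _ _).symm.trans ((Fe.subtypeEquiv fun ξ => ?_).trans
      ((Equiv.subtypeSubtypeEquivSubtypeInter _ _).trans
        (Equiv.subtypeEquivRight fun χ => and_comm)))))).symm
  show ¬ p ∣ deg (ξ.1 : twT L ρ H → ℂ) ↔ ¬ p ∣ deg ((F ξ).1 : H → ℂ)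
  rw [hdeg ξ, (Fact.out : p.Prime).dvd_mul, or_iff_left hpd]

end Count

variable (L M : Subgroup G) [L.Normal] [M.Normal]

/-- The count over an invariant character. -/
theorem triple (hLM : L ≤ M) (hidx : ¬ p ∣ L.relIndex M) {ν : L → ℂ} (hν : IsIrrCharacter L ν)
    (hinv : InvBy L ⊤ ν) (hpν : ¬ p ∣ deg ν) {S : Subgroup G} (hpS : IsPGroup p S)
    (hi : ¬ p ∣ S.index) (hMS : (M ⊔ S).Normal) :
    cntP p L ⊤ ν = cntP p L (normalizer ((L ⊔ S : Subgroup G) : Set G)) ν := by
  obtain ⟨d, ρ, hρ, rfl⟩ := hν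
  haveI := hρ
  have hd : ¬ p ∣ d := by
    rw [show deg ρ.character = d by
      apply Nat.cast_injective (R := ℂ)
      rw [← IsCharacter.apply_one_eq_deg (isCharacter_character ρ), ρ.char_one]
      simp] at hpν
    exact hpν
  have hinv' : ∀ g : G, conjN L g ρ.character = ρ.character := fun g =>
    funext fun n => hinv g (mem_top g) n _ rfl
  set π := twProj L ρ
  set q := twQ L ρ
  have hπ : Function.Surjective π := twProj_surjective L ρ hinv'
  have hq : Function.Surjective q := QuotientGroup.mk'_surjective _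
  have hkerq : ∀ X : Subgroup G, L ≤ X → q.ker ≤ X.comap π := fun X hX e he => by
    rw [QuotientGroup.ker_mk'] at he
    obtain ⟨n, rfl⟩ := he
    exact hX n.2
  have hTL : twT L ρ L = twZ L ρ := by
    refine le_antisymm ?_ ?_
    · rintro _ ⟨e, he, rfl⟩
      let n : L := ⟨π e, he⟩
      refine ⟨⟨(twIncl L ρ n)⁻¹ * e, ?_⟩, ?_⟩
      · show twProj L ρ ((twIncl L ρ n)⁻¹ * e) = 1
        rw [map_mul, map_inv, twProj_twIncl]
        exact inv_mul_cancel _
      · show q ((twIncl L ρ n)⁻¹ * e) = q e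
        rw [map_mul, map_inv, show q (twIncl L ρ n) = 1 from (QuotientGroup.eq_one_iff _).2 ⟨n, rfl⟩,
          inv_one, one_mul]
    · rintro _ ⟨z, rfl⟩
      exact ⟨z, show π (z : twGroup L ρ) ∈ L from (show π (z : twGroup L ρ) = 1 from z.2) ▸ one_mem L, rfl⟩
  have hrel : ∀ X Y : Subgroup G, L ≤ X → L ≤ Y →
      (twT L ρ X).relIndex (twT L ρ Y) = X.relIndex Y := fun X Y hX hY => by
    rw [relIndex_map_map, sup_eq_left.2 (hkerq X hX), sup_eq_left.2 (hkerq Y hY), relIndex_comap,
      map_comap_eq_self_of_surjective hπ]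
  have hnorm : ∀ X : Subgroup G, L ≤ X →
      twT L ρ (normalizer (X : Set G)) = normalizer ((twT L ρ X : Subgroup _) : Set _) := fun X hX => by
    have h1 := comap_normalizer_eq_of_surjective (twT L ρ X) hq
    rw [comap_map_eq_self (hkerq X hX), ← comap_normalizer_eq_of_surjective X hπ] at h1
    show ((normalizer (X : Set G)).comap π).map q = _
    rw [← h1, map_comap_eq_self_of_surjective hq]
  set P : Subgroup G := L ⊔ S with hP
  have hLP : L ≤ P := le_sup_left
  set MQ := twT L ρ M with hMQ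
  set PQ := twT L ρ P with hPQ
  haveI : MQ.Normal := (Subgroup.Normal.comap inferInstance π).map q hq
  have hZP : twZ L ρ ≤ PQ := hTL ▸ map_mono (comap_mono hLP)
  have hZc := twZ_le_center L ρ
  -- a Sylow subgroup
  obtain ⟨Sy⟩ := (inferInstance : Nonempty (Sylow p PQ))
  set SQ := (Sy : Subgroup PQ).map PQ.subtype with hSQ
  have hSQP : SQ ≤ PQ := map_subtype_le _
  have hSQp : IsPGroup p SQ := Sy.isPGroup'.map _
  have hSrel : SQ.relIndex PQ = (Sy : Subgroup PQ).index := by
    show (SQ.subgroupOf PQ).index = _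
    rw [hSQ, subgroupOf, comap_map_eq_self_of_injective PQ.subtype_injective]
  have hSy : ¬ p ∣ SQ.relIndex PQ := hSrel ▸ Sy.not_dvd_index
  have hiP : ¬ p ∣ PQ.index := by
    rw [hPQ, ← relIndex_top_right, ← show twT L ρ ⊤ = ⊤ by
      rw [show twT L ρ ⊤ = ((⊤ : Subgroup G).comap π).map q from rfl, comap_top,
        map_top_of_surjective q hq], hrel P ⊤ hLP le_top, relIndex_top_right]
    exact fun h => hi (h.trans (index_dvd_of_le le_sup_right))
  have hiS : ¬ p ∣ SQ.index := by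
    rw [← relIndex_mul_index hSQP]
    exact fun h => ((Fact.out : p.Prime).dvd_mul.1 h).elim hSy hiP
  have hsup : twZ L ρ ⊔ SQ = PQ := by
    refine le_antisymm (sup_le hZP hSQP) (relIndex_eq_one.1 ?_)
    have h1 : (twZ L ρ ⊔ SQ).relIndex PQ ∣ (twZ L ρ).relIndex PQ := relIndex_dvd_of_le_left _ le_sup_left
    have h2 : (twZ L ρ ⊔ SQ).relIndex PQ ∣ SQ.relIndex PQ := relIndex_dvd_of_le_left _ le_sup_right
    have h4 : (twZ L ρ).relIndex PQ = L.relIndex S := by
      rw [← hTL, hPQ, hrel L P le_rfl hLP, hP, relIndex_sup_left]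
    rw [h4] at h1
    obtain ⟨k, hk⟩ := IsPGroup.iff_card.1 hpS
    have h3 : L.relIndex S ∣ p ^ k := hk ▸ index_dvd_card (L.subgroupOf S)
    obtain ⟨j, -, hj⟩ := (Nat.dvd_prime_pow (Fact.out : p.Prime)).1 (h1.trans h3)
    rcases Nat.eq_zero_or_pos j with h0 | h0
    · rw [hj, h0, pow_zero]
    · exact absurd ((dvd_pow_self p h0.ne').trans (hj ▸ h2)) hSy
  have hPn : PQ ≤ normalizer (SQ : Set _) := by
    rw [← hsup]
    refine sup_le (fun z hz => mem_normalizer_fintype fun s hs => ?_) le_normalizer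
    rw [SetLike.mem_coe, ← mem_center_iff.1 (hZc hz) s, mul_inv_cancel_right]
    exact hs
  have hNSQ : normalizer (SQ : Set _) = twT L ρ (normalizer (P : Set G)) := by
    rw [hnorm P hLP, ← hPQ]
    refine le_antisymm (fun g hg => mem_normalizer_fintype fun x hx => ?_)
      (fun g hg => mem_normalizer_fintype fun s hs => ?_)
    · rw [SetLike.mem_coe, ← hsup] at hx ⊢
      obtain ⟨z, hz, s, hs, rfl⟩ := mem_sup_exists (M := twZ L ρ) (fun s _ =>
        mem_normalizer_fintype fun z hz => by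
          rw [SetLike.mem_coe, mem_center_iff.1 (hZc hz) s, mul_inv_cancel_right]; exact hz) hx
      rw [show g * (z * s) * g⁻¹ = z * (g * s * g⁻¹) by
        rw [← mul_assoc g z s, mem_center_iff.1 (hZc hz) g]; group]
      exact mul_mem (mem_sup_left hz) (mem_sup_right ((mem_normalizer_iff.1 hg s).1 hs))
    · have hx : g * s * g⁻¹ ∈ PQ := (mem_normalizer_iff.1 hg s).1 (hSQP hs)
      haveI : (SQ.subgroupOf PQ).Normal := ⟨fun n hn a => conj_mem_of_normalizes (hPn a.2) ⟨_, hn⟩⟩
      obtain ⟨j, hj⟩ := hSQp ⟨s, hs⟩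
      have hxj : (g * s * g⁻¹) ^ p ^ j = 1 := by
        rw [conj_pow, show s ^ p ^ j = 1 from congrArg Subtype.val hj, mul_one, mul_inv_cancel]
      let x : PQ := ⟨g * s * g⁻¹, hx⟩
      refine (QuotientGroup.eq_one_iff x).1 (eq_one_of_pow_pow
        (Nat.Coprime.pow_left j ((Fact.out : p.Prime).coprime_iff_not_dvd.2 hSy)) ?_
        (pow_card_eq_one' (x := (x : PQ ⧸ SQ.subgroupOf PQ))))
      rw [← QuotientGroup.mk_pow, show x ^ p ^ j = 1 from Subtype.ext hxj, QuotientGroup.mk_one]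
  have hMSQ : (MQ ⊔ SQ).Normal := by
    have h1 : MQ ⊔ SQ = twT L ρ (M ⊔ S) := by
      have h2 : M ⊔ S = M ⊔ P := by rw [hP, ← sup_assoc, sup_eq_left.2 hLM]
      show MQ ⊔ SQ = ((M ⊔ S).comap π).map q
      rw [h2, ← comap_sup_eq π M P hπ, Subgroup.map_sup, show (M.comap π).map q = MQ from rfl,
        show (P.comap π).map q = PQ from rfl, ← hsup, ← sup_assoc,
        sup_eq_left.2 (show twZ L ρ ≤ MQ from hTL ▸ map_mono (comap_mono hLM))]
    rw [h1]
    haveI := hMS
    exact (Subgroup.Normal.comap inferInstance π).map q hq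
  have hcore := core (p := p) (Z := twZ L ρ) (S := SQ) MQ (hTL ▸ map_mono (comap_mono hLM)) hZc
    (by rw [← hTL, hMQ, hrel L M le_rfl hLM]; exact hidx) hSQp hiS hMSQ (twLam L ρ)
  rw [cntP_twT L ρ hd hinv' le_top, show twT L ρ ⊤ = ⊤ by
      show ((⊤ : Subgroup G).comap π).map q = ⊤
      rw [comap_top, map_top_of_surjective q hq], hcore, hNSQ, ← cntP_twT L ρ hd hinv']
  intro l hl
  exact mem_normalizer_fintype fun x hx => mul_mem (mul_mem (hLP hl) hx) (inv_mem (hLP hl))

end Cfsg.Lib.RelMcKay
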