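import Mathlib
import Cfsg.Agent.Chars.RelMcKay.Triple

/-!
# The relative count in a `p`-soluble group
-/

set_option autoImplicit false
set_option linter.unusedSectionVars false

namespace Cfsg.Lib.RelMcKay

open Cfsg Cfsg.Lib.Chars Subgroup
open scoped ComplexConjugate

universe u

attribute [local instance high] Fintype.ofFinite

variable {G : Type u} [Group G] [Finite G] {p : ℕ} [Fact p.Prime] {L M H S : Subgroup G}

lemma relIndex_sup_of_norm {A B : Subgroup G} (h : B ≤ normalizer (A : Set G)) :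
    A.relIndex (A ⊔ B) = A.relIndex B := by
  haveI := normal_subgroupOf' (sup_le le_normalizer h : A ⊔ B ≤ normalizer (A : Set G))
  rw [← relIndex_subgroupOf (le_refl (A ⊔ B)),
    ← relIndex_subgroupOf (H := A) (le_sup_right : B ≤ A ⊔ B),
    subgroupOf_sup le_sup_left le_sup_right, relIndex_sup_left]

lemma cntP_map' {G' : Type u} [Group G'] [Finite G'] (f : G' →* G) (hf : Function.Injective f)
    {L' H' : Subgroup G'} (hLH : L' ≤ H') {L X : Subgroup G} (hL : L'.map f = L) (hX : H'.map f = X)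
    (ν : L → ℂ) :
    cntP p L' H' (fun l => ν ⟨f l, hL ▸ mem_map_of_mem f l.2⟩) = cntP p L X ν := by
  subst hL hX
  exact cntP_map f hf hLH p ν

lemma cntP_subgroupOf {X : Subgroup G} (hLX : L ≤ X) (hXH : X ≤ H) (ν : L → ℂ) :
    cntP p (L.subgroupOf H) (X.subgroupOf H) (pull (hLX.trans hXH) ν) = cntP p L X ν :=
  cntP_map' H.subtype H.subtype_injective (fun _ h => hLX h)
    (by rw [subgroupOf_map_subtype, inf_eq_left.2 (hLX.trans hXH)])
    (by rw [subgroupOf_map_subtype, inf_eq_left.2 hXH]) ν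

lemma cntP_eq_zero (hLH : H ≤ normalizer (L : Set G)) {ν : L → ℂ} (hν : IsIrrCharacter L ν)
    (hp : p ∣ deg ν) : cntP p L H ν = 0 := by
  haveI : IsEmpty {χ : IrrCharacter H // ¬ p ∣ deg (χ : H → ℂ) ∧ Over L H (χ : H → ℂ) ν} :=
    ⟨fun χ => not_dvd_deg_of_over hLH χ.1.2 hν χ.2.2 χ.2.1 hp⟩
  exact Nat.card_of_isEmpty

/-- The application to the group itself. -/
theorem triple_at (hLM : L ≤ M) (hMH : M ≤ H) (hHL : H ≤ normalizer (L : Set G))
    (hHM : H ≤ normalizer (M : Set G)) (hidx : ¬ p ∣ L.relIndex M) {ν : L → ℂ}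
    (hν : IsIrrCharacter L ν) (hinv : InvBy L H ν) (hpν : ¬ p ∣ deg ν) (hSH : S ≤ H)
    (hpS : IsPGroup p S) (hi : ¬ p ∣ S.relIndex H)
    (hMS : H ≤ normalizer ((M ⊔ S : Subgroup G) : Set G)) :
    cntP p L H ν = cntP p L (H ⊓ normalizer ((L ⊔ S : Subgroup G) : Set G)) ν := by
  have hLH := hLM.trans hMH
  haveI := normal_subgroupOf' hHL
  haveI := normal_subgroupOf' hHM
  have hP : L ⊔ S ≤ H := sup_le hLH hSH
  have h := triple (p := p) (L.subgroupOf H) (M.subgroupOf H) (fun _ h => hLM h)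
    (by rw [relIndex_subgroupOf hMH]; exact hidx) (pull_irr hLH hν)
    (fun g _ x x' hx => hinv g g.2 _ _ (congrArg Subtype.val hx))
    (by
      rwa [show deg (pull hLH ν) = deg ν by
        apply Nat.cast_injective (R := ℂ)
        rw [← IsCharacter.apply_one_eq_deg (isCharacter_of_irr (pull_irr hLH hν)),
          ← IsCharacter.apply_one_eq_deg (isCharacter_of_irr hν)]
        simp [pull]])
    (hpS.comap_of_injective H.subtype H.subtype_injective) hi
    (by
      show (M.subgroupOf H ⊔ S.subgroupOf H).Normal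
      rw [← subgroupOf_sup hMH hSH]
      exact normal_subgroupOf' hMS)
  have hN : normalizer ((L.subgroupOf H ⊔ S.subgroupOf H : Subgroup H) : Set H) =
      (H ⊓ normalizer ((L ⊔ S : Subgroup G) : Set G)).subgroupOf H := by
    rw [← subgroupOf_sup hLH hSH]
    ext g
    rw [mem_subgroupOf, mem_inf, mem_normalizer_iff, mem_normalizer_iff]
    constructor
    · refine fun hg => ⟨g.2, fun x => ?_⟩
      by_cases hx : x ∈ H
      · exact hg ⟨x, hx⟩
      · refine ⟨fun h => absurd (hP h) hx, fun h => absurd ?_ hx⟩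
        have := mul_mem (mul_mem (inv_mem g.2) (hP h)) g.2
        simpa [mul_assoc] using this
    · exact fun hg x => hg.2 x
  have hcomap : (S.comap H.subtype : Subgroup H) = S.subgroupOf H := rfl
  rw [hcomap, hN] at h
  rw [← cntP_subgroupOf hLH le_rfl ν, subgroupOf_self, h,
    cntP_subgroupOf (le_inf hLH (le_trans le_sup_left le_normalizer)) inf_le_left]

open scoped Classical in
/-- The count through an intermediate normal subgroup. -/
theorem cntP_eq_sum_mid (hLM : L ≤ M) (hMH : M ≤ H) (hHL : H ≤ normalizer (L : Set G))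
    (hHM : H ≤ normalizer (M : Set G)) {ν : L → ℂ} (hν : IsIrrCharacter L ν)
    (hinv : InvBy L H ν) (hSH : S ≤ H) (hpS : IsPGroup p S) (hi : ¬ p ∣ S.relIndex H) :
    (cntP p L H ν : ℚ) =
      ∑ θ : {θ : IrrCharacter M //
          ¬ p ∣ deg (θ : M → ℂ) ∧ Over L M (θ : M → ℂ) ν ∧ InvBy M S (θ : M → ℂ)},
        (Nat.card {θ' : {θ : IrrCharacter M //
            ¬ p ∣ deg (θ : M → ℂ) ∧ Over L M (θ : M → ℂ) ν ∧ InvBy M S (θ : M → ℂ)} //
              ConjBy M (H ⊓ normalizer (S : Set G)) (θ.1 : M → ℂ) (θ'.1 : M → ℂ)} : ℚ)⁻¹ *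
          cntP p M H (θ.1 : M → ℂ) := by
  have h := card_eq_sum_over (p := p) hMH hHM hSH hpS
    (fun χ : IrrCharacter H => ¬ p ∣ deg (χ : H → ℂ) ∧ Over L H (χ : H → ℂ) ν) (fun χ h => h.1)
    (fun θ : IrrCharacter M =>
      ¬ p ∣ deg (θ : M → ℂ) ∧ Over L M (θ : M → ℂ) ν ∧ InvBy M S (θ : M → ℂ))
    (fun χ θ h ho hi => ⟨not_dvd_deg_of_over hHM χ.2 θ.2 ho h.1,
      ho.down hLM hHM hHL χ.2 θ.2 hν hinv h.2, hi⟩)
  rw [cntP, h]
  refine Finset.sum_congr rfl fun θ _ => ?_
  congr 2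
  · exact congrArg Nat.cast (Nat.card_congr (Equiv.subtypeEquivRight fun θ' =>
      conjBy_normalizer hHM hSH hpS hi θ.2.2.2 θ'.2.2.2))
  · exact Nat.card_congr (Equiv.subtypeEquivRight fun χ =>
      ⟨fun h => ⟨h.1.1, h.2⟩,
        fun h => ⟨⟨h.1, h.2.trans (isCharacter_of_irr χ.2) θ.1.2 hν θ.2.2.1⟩, h.2⟩⟩)

/-- A normal step of the chain. -/
lemma exists_step (hsol : IsPSolvable p G) (hLH : L ≤ H) (hne : ¬ H ≤ L)
    (hHL : H ≤ normalizer (L : Set G)) :
    ∃ M : Subgroup G, L ≤ M ∧ M ≤ H ∧ ¬ M ≤ L ∧ H ≤ normalizer (M : Set G) ∧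
      ((∃ m, L.relIndex M = p ^ m) ∨ ¬ p ∣ L.relIndex M) := by
  obtain ⟨n, K, h0, hn, hmono, hK, hstep⟩ := hsol
  obtain ⟨i, hi1, hi2⟩ : ∃ i : Fin n, K i.castSucc ⊓ H ≤ L ∧ ¬ K i.succ ⊓ H ≤ L := by
    by_contra hno
    push Not at hno
    have : ∀ i : Fin (n + 1), K i ⊓ H ≤ L := by
      intro i
      induction i using Fin.induction with
      | zero => rw [h0, bot_inf_eq]; exact bot_le
      | succ i ih => exact hno i ih
    exact hne (by simpa [hn] using this (Fin.last n))
  haveI := hK i.castSucc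
  haveI := hK i.succ
  set A := K i.castSucc ⊓ H
  set B := K i.succ ⊓ H
  have hBn : H ≤ normalizer (B : Set G) := fun g hg => mem_normalizer_fintype fun x hx =>
    mem_inf.2 ⟨Subgroup.Normal.conj_mem inferInstance x (mem_inf.1 hx).1 g,
      mul_mem (mul_mem hg (mem_inf.1 hx).2) (inv_mem hg)⟩
  refine ⟨L ⊔ B, le_sup_left, sup_le hLH inf_le_right, fun h => hi2 (le_trans le_sup_right h),
    (le_inf hHL hBn).trans (normalizer_inf_normalizer_le_normalizer_sup L B), ?_⟩
  rw [relIndex_sup_of_norm (inf_le_right.trans hHL)]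
  have hd : L.relIndex B ∣ (K i.castSucc).relIndex (K i.succ) := by
    refine (relIndex_dvd_of_le_left B hi1).trans ?_
    rw [show A.relIndex B = (K i.castSucc).relIndex B by
      rw [← inf_relIndex_right (K i.castSucc) B, ← inf_relIndex_right A B]
      congr 1
      rw [inf_assoc, inf_eq_right.2 (inf_le_right : B ≤ H)],
      ← relIndex_subgroupOf (inf_le_left : B ≤ K i.succ)]
    exact relIndex_dvd_index_of_normal _ _
  rcases hstep i with ⟨m, hm⟩ | hm
  · rw [hm, Nat.dvd_prime_pow (Fact.out : p.Prime)] at hd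
    obtain ⟨j, -, hj⟩ := hd
    exact Or.inl ⟨j, hj⟩
  · exact Or.inr ((Fact.out : p.Prime).coprime_iff_not_dvd.1 (hm.coprime_dvd_left hd).symm)

/-- The relative count. -/
theorem main (hsol : IsPSolvable p G) : ∀ (n : ℕ) (L H S : Subgroup G), L ≤ H →
    H ≤ normalizer (L : Set G) → S ≤ H → IsPGroup p S → ¬ p ∣ S.relIndex H →
    ∀ (ν : L → ℂ), IsIrrCharacter L ν → InvBy L S ν → L.relIndex H = n →
    cntP p L H ν = cntP p L (H ⊓ normalizer ((L ⊔ S : Subgroup G) : Set G)) ν := by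
  classical
  intro n
  induction n using Nat.strong_induction_on with
  | _ n ih =>
  intro L H S hLH hHL hSH hpS hi ν hν hS hn
  have hp : p.Prime := Fact.out
  by_cases hpν : p ∣ deg ν
  · rw [cntP_eq_zero hHL hν hpν, cntP_eq_zero (inf_le_left.trans hHL) hν hpν]
  set N := normalizer ((L ⊔ S : Subgroup G) : Set G) with hN
  have hLN : L ≤ N := le_trans le_sup_left le_normalizer
  have hSN : S ≤ N := le_trans le_sup_right le_normalizer
  have hLS : H ⊓ normalizer (S : Set G) ≤ N := fun g hg =>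
    normalizer_inf_normalizer_le_normalizer_sup L S ⟨hHL (mem_inf.1 hg).1, (mem_inf.1 hg).2⟩
  have hsub : ∀ X : Subgroup G, S ≤ X → X ≤ H → ¬ p ∣ S.relIndex X ∧ ¬ p ∣ X.relIndex H :=
    fun X h1 h2 => by
      have e := relIndex_mul_relIndex S X H h1 h2
      exact ⟨fun hd => hi (e ▸ hd.mul_right _), fun hd => hi (e ▸ hd.mul_left _)⟩
  have hlt : ∀ X : Subgroup G, L ≤ X → X ≤ H → ¬ H ≤ X → L.relIndex X < n := fun X h1 h2 h3 => by
    have e := relIndex_mul_relIndex L X H h1 h2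
    have h4 : 0 < L.relIndex X := Nat.pos_of_ne_zero index_ne_zero_of_finite
    have h5 : 1 < X.relIndex H := by
      have h6 : X.relIndex H ≠ 0 := index_ne_zero_of_finite
      have h7 : X.relIndex H ≠ 1 := fun h => h3 (relIndex_eq_one.1 h)
      omega
    rw [← hn, ← e]
    exact lt_mul_of_one_lt_right h4 h5
  obtain ⟨T, hT⟩ : ∃ T, T = stabF L H hHL ν := ⟨_, rfl⟩
  by_cases hTH : H ≤ T
  swap
  · have hTle : T ≤ H := hT ▸ stabF_le
    have hLT : L ≤ T := hT ▸ le_stabF hLH (invBy_self (isClassFunction_isChar (isCharacter_of_irr hν)))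
    have hST : S ≤ T := hT ▸ le_stabF hSH hS
    have e1 := ih _ (hlt T hLT hTle hTH) L T S hLT (hTle.trans hHL) hST hpS (hsub T hST hTle).1 ν hν hS rfl
    rw [← cntP_stabF hLH hHL hν hT (hsub T hST hTle).2, e1]
    refine cntP_stabF (le_inf hLH hLN) (inf_le_left.trans hHL) hν ?_ ?_
    · ext g
      rw [mem_inf, mem_stabF, hT, mem_stabF, mem_inf]
      tauto
    · intro hd
      have e := relIndex_mul_relIndex S (T ⊓ N) (H ⊓ N) (le_inf hST hSN) (inf_le_inf_right _ hTle)
      exact (hsub (H ⊓ N) (le_inf hSH hSN) inf_le_left).1 (e ▸ hd.mul_left _)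
  have hinv : InvBy L H ν := fun g hg => (hT ▸ hTH hg : g ∈ stabF L H hHL ν).2
  by_cases hHN : H ≤ N
  · rw [inf_eq_left.2 hHN]
  obtain ⟨M, hLM, hMH, hML, hHM, hcase⟩ := exists_step hsol hLH (fun h => hHN (h.trans hLN)) hHL
  have hltM : M.relIndex H < n := by
    have e := relIndex_mul_relIndex L M H hLM hMH
    have h4 : 0 < M.relIndex H := Nat.pos_of_ne_zero index_ne_zero_of_finite
    have h5 : 1 < L.relIndex M := by
      have h6 : L.relIndex M ≠ 0 := index_ne_zero_of_finite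
      have h7 : L.relIndex M ≠ 1 := fun h => hML (relIndex_eq_one.1 h)
      omega
    rw [← hn, ← e]
    exact lt_mul_of_one_lt_left h4 h5
  -- the reduction to the normaliser of `M ⊔ S`
  set X : Subgroup G := H ⊓ normalizer ((M ⊔ S : Subgroup G) : Set G) with hX
  have hMX : M ≤ X := le_inf hMH (le_trans le_sup_left le_normalizer)
  have hSX : S ≤ X := le_inf hSH (le_trans le_sup_right le_normalizer)
  have hXS : X ⊓ normalizer (S : Set G) = H ⊓ normalizer (S : Set G) :=
    le_antisymm (inf_le_inf_right _ inf_le_left) fun g hg => mem_inf.2 ⟨mem_inf.2 ⟨(mem_inf.1 hg).1,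
      normalizer_inf_normalizer_le_normalizer_sup M S ⟨hHM (mem_inf.1 hg).1, (mem_inf.1 hg).2⟩⟩,
      (mem_inf.1 hg).2⟩
  have hred : cntP p L H ν = cntP p L X ν := by
    apply Nat.cast_injective (R := ℚ)
    rw [cntP_eq_sum_mid hLM hMH hHL hHM hν hinv hSH hpS hi,
      cntP_eq_sum_mid hLM hMX (inf_le_left.trans hHL) (inf_le_left.trans hHM) hν
        (invBy_mono hinv inf_le_left) hSX hpS (hsub X hSX inf_le_left).1, hXS]
    refine Finset.sum_congr rfl fun θ _ => ?_
    congr 2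
    exact ih _ hltM M H S hMH hHM hSH hpS hi _ θ.1.2 θ.2.2.2 rfl
  rw [hred]
  rcases hcase with ⟨m, hm⟩ | hm
  · have hMLS : M ≤ L ⊔ S := by
      rw [← relIndex_eq_one]
      have hd1 : (L ⊔ S).relIndex M ∣ p ^ m := hm ▸ relIndex_dvd_of_le_left M le_sup_left
      have hd2 : (L ⊔ S).relIndex M ∣ S.relIndex H := by
        have hle : L ⊔ S ≤ normalizer (M : Set G) := (sup_le hLH hSH).trans hHM
        have h1 : (L ⊔ S).relIndex M ∣ (L ⊔ S).relIndex H := by
          have h2 := card_mul_card (A := M) (B := L ⊔ S) (U := M ⊔ (L ⊔ S)) le_sup_left le_sup_right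
            fun u hu => mem_sup_exists hle hu
          have h3 : (L ⊔ S).relIndex M = (L ⊔ S).relIndex (M ⊔ (L ⊔ S)) := by
            have ha : ((L ⊔ S).subgroupOf (M ⊔ (L ⊔ S))).index * Nat.card ↥(L ⊔ S) =
                Nat.card ↥(M ⊔ (L ⊔ S)) := by
              rw [← Nat.card_congr (subgroupOfEquivOfLe (le_sup_right : L ⊔ S ≤ M ⊔ (L ⊔ S))).toEquiv]
              exact index_mul_card _
            have hb : ((L ⊔ S).subgroupOf M).index * Nat.card ↥(M ⊓ (L ⊔ S)) = Nat.card M := by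
              rw [show (L ⊔ S).subgroupOf M = (M ⊓ (L ⊔ S)).subgroupOf M by
                rw [inf_comm, inf_subgroupOf_right],
                ← Nat.card_congr (subgroupOfEquivOfLe (inf_le_left : M ⊓ (L ⊔ S) ≤ M)).toEquiv]
              exact index_mul_card _
            rw [← ha, ← hb] at h2
            show ((L ⊔ S).subgroupOf M).index = _
            apply mul_right_cancel₀ (Nat.mul_pos (Nat.card_pos (α := ↥(M ⊓ (L ⊔ S))))
              (Nat.card_pos (α := ↥(L ⊔ S)))).ne'
            show ((L ⊔ S).subgroupOf M).index * _ = ((L ⊔ S).subgroupOf (M ⊔ (L ⊔ S))).index * _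
            linear_combination h2
          rw [h3]
          exact Dvd.intro _ (relIndex_mul_relIndex (L ⊔ S) (M ⊔ (L ⊔ S)) H le_sup_right
            (sup_le hMH (sup_le hLH hSH)))
        exact h1.trans (relIndex_dvd_of_le_left H le_sup_right)
      obtain ⟨j, -, hj⟩ := (Nat.dvd_prime_pow hp).1 hd1
      rcases Nat.eq_zero_or_pos j with h0 | h0
      · rw [hj, h0, pow_zero]
      · exact absurd ((dvd_pow_self p h0.ne').trans (hj ▸ hd2)) hi
    have e : M ⊔ S = L ⊔ S :=
      le_antisymm (sup_le hMLS le_sup_right) (sup_le_sup_right hLM S)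
    rw [hX, e]
  · have hXN : X ⊓ N = H ⊓ N := le_antisymm (inf_le_inf_right _ inf_le_left) fun g hg =>
      mem_inf.2 ⟨mem_inf.2 ⟨(mem_inf.1 hg).1, by
        have e : M ⊔ S = M ⊔ (L ⊔ S) := by rw [← sup_assoc, sup_eq_left.2 hLM]
        rw [e]
        exact normalizer_inf_normalizer_le_normalizer_sup M (L ⊔ S)
          ⟨hHM (mem_inf.1 hg).1, (mem_inf.1 hg).2⟩⟩, (mem_inf.1 hg).2⟩
    by_cases hHX : H ≤ X
    · rw [show X = H from le_antisymm inf_le_left hHX]
      exact triple_at hLM hMH hHL hHM hm hν hinv hpν hSH hpS hi (hHX.trans inf_le_right)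
    · rw [ih _ (hlt X (hLM.trans hMX) inf_le_left hHX) L X S (hLM.trans hMX) (inf_le_left.trans hHL)
        hSX hpS (hsub X hSX inf_le_left).1 ν hν hS rfl, hXN]

end Cfsg.Lib.RelMcKay
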